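import Mathlib
import Cfsg.Agent.H321.Ker.Unit
import Cfsg.Agent.S2540
import Cfsg.Agent.LieClassical.HermBasic
import Cfsg.Agent.H876.UBasic
import Cfsg.Agent.H918.UBase
import Cfsg.Agent.ClassicalGeometry.HermParabolic
import Cfsg.Agent.H919.AschBurnside
import Cfsg.Agent.H192.Lang
import Cfsg.Agent.ClassicalGeometry.HermOrthonormal
import Cfsg.Agent.ClassicalGeometry.GUBasic
import Cfsg.Agent.LieClassical.SLGen
import Cfsg.Agent.FastGrp
import Cfsg.Agent.Prune
set_option linter.all false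

section
prune_inst 0x7ffebdfbabfdaddfdfff7e7faedcdffc39905fffacd9f90bbfe821ef2fdf238209c16b8d09e000fc1ec2c01410a87803f97eceffea6bdc7ffffd5df45ffbee4fe5f7bd00511688340fbc0ff603f0778e7f3fffffffffffffffffffffffffffbeffbfffffffff

-- part: H321/Ker/MainU
section
prune_inst 0x1400454024220200000005023000202038000430600400006080080009008022c9402000028030020268b0811001002813100040420000000a203000000301208000820810400000060009000080000000000000000000000000000000000004000000000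
set_option linter.all false
open scoped Cfsg.Agent.FastGrp

-- part: H321/Ker/Tower
section
/-!
# S2187, kernel row: the subfields of a finite field
-/

set_option autoImplicit false
set_option linter.unusedSectionVars false

namespace Cfsg.Agent.H321.Ker

variable {F : Type*} [Field F] (r : ℕ) [Fact r.Prime] [CharP F r]

/-- The fixed field of `x ↦ x^(r^k)`. -/
def Fk (k : ℕ) : Subfield F := RingHom.eqLocusField (iterateFrobenius F r k) (RingHom.id F)

variable {r}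

theorem mem_Fk {k : ℕ} {x : F} : x ∈ (Fk r k : Subfield F) ↔ x ^ r ^ k = x := Iff.rfl

theorem card_Fk [Fintype F] {m k : ℕ} (hm : Fintype.card F = r ^ m) (hk : k ∣ m) (hk0 : 0 < k) :
    Nat.card (Fk r k : Subfield F) = r ^ k := by
  classical
  have hr : 1 < r := (Fact.out : r.Prime).one_lt
  have h1 : 1 < r ^ k := Nat.one_lt_pow hk0.ne' hr
  set Q := r ^ k with hQ
  have hker : Nat.card (powMonoidHom (Q - 1) : Fˣ →* Fˣ).ker = Q - 1 := by
    rw [IsCyclic.card_powMonoidHom_ker, Nat.card_eq_fintype_card, Fintype.card_units, hm]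
    exact Nat.gcd_eq_right (Nat.pow_sub_one_dvd_pow_sub_one r hk)
  have e : (Fk r k : Subfield F) ≃ Option (powMonoidHom (Q - 1) : Fˣ →* Fˣ).ker := by
    refine
      { toFun := fun x => if h : x.1 = 0 then none else some ⟨Units.mk0 x.1 h, ?_⟩
        invFun := fun o => o.elim 0 (fun u => ⟨((u.1 : Fˣ) : F), ?_⟩)
        left_inv := fun x => ?_
        right_inv := fun o => ?_ }
    · rw [MonoidHom.mem_ker]
      ext
      simp only [powMonoidHom_apply, Units.val_pow_eq_pow_val, Units.val_mk0, Units.val_one]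
      have : x.1 ^ (Q - 1) * x.1 = 1 * x.1 := by
        rw [← pow_succ, Nat.sub_add_cancel (by omega), hQ, mem_Fk.1 x.2, one_mul]
      exact mul_right_cancel₀ h this
    · have := u.2
      rw [MonoidHom.mem_ker, powMonoidHom_apply] at this
      have h3 : ((u.1 : Fˣ) : F) ^ (Q - 1) = 1 := by
        rw [← Units.val_pow_eq_pow_val, this, Units.val_one]
      rw [mem_Fk, ← hQ]
      calc ((u.1 : Fˣ) : F) ^ Q = ((u.1 : Fˣ) : F) ^ (Q - 1 + 1) := by
            rw [Nat.sub_add_cancel (by omega)]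
        _ = _ := by rw [pow_succ, h3, one_mul]
    · by_cases h : x.1 = 0
      · simp only [h, dite_true, Option.elim]
        exact Subtype.ext h.symm
      · simp only [h, dite_false, Option.elim]
        exact Subtype.ext rfl
    · cases o with
      | none => simp
      | some u => simp
  rw [Nat.card_congr e, Finite.card_option, hker]
  omega

/-- A `p`-th root of unity lies in `Fk k` if `p ∣ r^k - 1`. -/
theorem mem_Fk_of_dvd {p k : ℕ} {ζ : F} (hζ : ζ ^ p = 1) (h : p ∣ r ^ k - 1) : ζ ∈ (Fk r k : Subfield F) := by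
  have hr : 0 < r ^ k := pow_pos (Fact.out : r.Prime).pos k
  rw [mem_Fk]
  obtain ⟨m, hm⟩ := h
  calc ζ ^ r ^ k = ζ ^ (r ^ k - 1 + 1) := by rw [Nat.sub_add_cancel hr]
    _ = ζ := by rw [hm, pow_succ, pow_mul, hζ, one_pow, one_mul]

theorem card_eq_pow [Fintype F] : ∃ m : ℕ, 0 < m ∧ Fintype.card F = r ^ m := by
  obtain ⟨m, hp, hm⟩ := FiniteField.card F r
  exact ⟨m, m.pos, hm⟩

/-- `p ∣ r^d - 1` iff the order of `r` modulo `p` divides `d`. -/
theorem dvd_pow_sub_one_iff {p : ℕ} (d : ℕ) : p ∣ r ^ d - 1 ↔ orderOf (r : ZMod p) ∣ d := by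
  have hr : 0 < r ^ d := pow_pos (Fact.out : r.Prime).pos d
  rw [← ZMod.natCast_eq_zero_iff, Nat.cast_sub hr, Nat.cast_pow, Nat.cast_one, sub_eq_zero,
    ← orderOf_dvd_iff_pow_eq_one]

end Cfsg.Agent.H321.Ker
end

-- part: H321/Ker/Main
section
/-!
# S2187, kernel row: the induction over the subfields

The inputs (maximality of some subgroups of `SL_p(q)`, `SU_p(q)`, the extraspecial group, `SU_3(5)`) are collected in
structures; they are proved elsewhere.
-/

set_option autoImplicit false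
set_option linter.unusedSectionVars false

universe u

namespace Cfsg.Agent.H321.Ker

open Cfsg Cfsg.Geo
open scoped MatrixGroups Matrix
open Cfsg.Agent.LieClassical.HermBasic

/-- Maximality facts for `SL_p(q)`. -/
structure LinFacts (p : ℕ) : Prop where
  field : ∀ {F : Type u} [Field F] [Fintype F], (p = 3 → Fintype.card F ≠ 4) →
    ∀ K : Subalgebra F (Matrix (Fin p) (Fin p) F), IsFieldSubalgebra p K →
      IsMaximalIn (specialLinear (Fin p) F) (subalgebraNormalizer K ⊓ specialLinear (Fin p) F)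
  symp : ∀ {F : Type u} [Field F] [Fintype F], ∀ R : Subgroup (GL (Fin p) F), IsLinearSymplecticTypeData p R →
      IsMaximalIn (specialLinear (Fin p) F) (subgroupNormalizer R ⊓ specialLinear (Fin p) F)
  herm : ∀ {F : Type u} [Field F] [Fintype F], ∀ (σ : F ≃+* F) (f : (Fin p → F) → (Fin p → F) → F),
    IsUnitaryForm σ f → IsMaximalIn (specialLinear (Fin p) F) (similarityGroup f ⊓ specialLinear (Fin p) F)

/-- Maximality facts for `SU_p(q)`. -/
structure UniFacts (p : ℕ) : Prop where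
  field : ∀ {F : Type u} [Field F] [Fintype F] (q : ℕ), Fintype.card F = q ^ 2 → (p = 3 → q ≠ 3 ∧ q ≠ 5) → 3 ≤ q →
    ∀ K : Subalgebra F (Matrix (Fin p) (Fin p) F), IsFieldSubalgebra p K → IsAdjointClosedFor (hermForm p F q) K →
      IsMaximalIn (GU p F q ⊓ specialLinear (Fin p) F)
        (subalgebraNormalizer K ⊓ (GU p F q ⊓ specialLinear (Fin p) F))
  subf : ∀ {F : Type u} [Field F] [Fintype F] (q : ℕ), Fintype.card F = q ^ 2 → 3 ≤ q →
    ∀ (F₀ : Subfield F) (s : ℕ), s.Prime → Odd s → Fintype.card F = Nat.card F₀ ^ s →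
      IsFormRationalStructure (hermForm p F q) F₀ 1 1 →
      IsMaximalIn (GU p F q ⊓ specialLinear (Fin p) F)
        (subfieldSubgroup F₀ 1 ⊓ (GU p F q ⊓ specialLinear (Fin p) F))
  symp : ∀ {F : Type u} [Field F] [Fintype F] (q : ℕ), Fintype.card F = q ^ 2 → (p = 3 → q ≠ 2 ∧ q ≠ 5) →
    ∀ (R : Subgroup (GL (Fin p) F)) (r e : ℕ), IsSymplecticTypeGroup p R → ActsAbsolutelyIrreducibly (matrixSet R) →
      R ≤ GU p F q → p ≠ r → IsMinimalFieldFor p r e F → Nat.card R = p ^ 3 → Nat.card (Subgroup.center R) = p →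
      IsMaximalIn (GU p F q ⊓ specialLinear (Fin p) F)
        (subgroupNormalizer R ⊓ (GU p F q ⊓ specialLinear (Fin p) F))

/-- The group `⟨diag(ζ^i), shift⟩`. -/
def Rz (p : ℕ) [NeZero p] {F : Type*} [Field F] (ζ : Fˣ) : Subgroup (GL (Fin p) F) :=
  Subgroup.closure {Dm p ζ, Bm p 1}

/-- The facts on the extraspecial group `⟨diag(ζ^i), shift⟩`. -/
def HeisFacts (p : ℕ) [NeZero p] : Prop :=
  ∀ {F : Type u} [Field F] [Fintype F] (ζ : Fˣ), ζ ^ p = 1 → ζ ≠ 1 →
    IsSymplecticTypeGroup p (Rz p ζ) ∧ ActsAbsolutelyIrreducibly (matrixSet (Rz p ζ)) ∧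
      Nat.card (Rz p ζ) = p ^ 3 ∧ Nat.card (Subgroup.center (Rz p ζ)) = p

/-- `SU_3(5)`. -/
def SUThreeFive : Prop :=
  ∀ {F : Type u} [Field F] [Fintype F], Fintype.card F = 5 ^ 2 → ∀ (ζ β : Fˣ), ζ ^ 3 = 1 → ζ ≠ 1 → β ^ 6 = 1 →
    Mc (GU 3 F 5 ⊓ specialLinear (Fin 3) F) (Hs 3 ζ β) = GU 3 F 5 ⊓ specialLinear (Fin 3) F

end Cfsg.Agent.H321.Ker
end

-- part: H321/Ker/MainU
section
/-!
# S2187, kernel row: `SU_p(q)`
-/

set_option autoImplicit false
set_option linter.unusedSectionVars false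

universe u

namespace Cfsg.Agent.H321.Ker

open Cfsg Cfsg.Geo
open scoped MatrixGroups Matrix
open Cfsg.Agent.LieClassical.HermBasic
open Cfsg.Agent.H918 (SUg)

section Small

variable {F : Type*} [Field F] [Fintype F] {q : ℕ}

theorem exists_orderOf_eq {d : ℕ} (hd : d ∣ Nat.card Fˣ) : ∃ c : Fˣ, orderOf c = d := by
  obtain ⟨g, hg⟩ := IsCyclic.exists_generator (α := Fˣ)
  have h1 : orderOf g = Nat.card Fˣ := orderOf_eq_card_of_forall_mem_zpowers hg
  obtain ⟨k, hk⟩ := hd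
  have hpos : 0 < Nat.card Fˣ := Nat.card_pos
  refine ⟨g ^ k, ?_⟩
  rw [orderOf_pow' _ (by rintro rfl; rw [mul_zero] at hk; omega), h1, hk, Nat.gcd_mul_left_left, Nat.mul_div_cancel]
  exact Nat.pos_of_ne_zero (by rintro rfl; rw [mul_zero] at hk; omega)

theorem exists_norm_one_cube (hF : Fintype.card F = q ^ 2) (hq : 3 ≤ q) : ∃ c : Fˣ, c ^ (q + 1) = 1 ∧ c ^ 3 ≠ 1 := by
  obtain ⟨c, hc⟩ := exists_orderOf_eq (F := F) (d := q + 1) ⟨q - 1, card_units_eq hF⟩
  refine ⟨c, by rw [← hc, pow_orderOf_eq_one], fun h => ?_⟩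
  have := Nat.le_of_dvd (by norm_num) (hc ▸ orderOf_dvd_of_pow_eq_one h)
  omega

theorem exists_cube_ne_one (h : 4 < Fintype.card F) : ∃ c : Fˣ, c ^ 3 ≠ 1 := by
  obtain ⟨c, hc⟩ := exists_orderOf_eq (F := F) (d := Nat.card Fˣ) dvd_rfl
  refine ⟨c, fun h3 => ?_⟩
  classical
  have := Nat.le_of_dvd (by norm_num) (hc ▸ orderOf_dvd_of_pow_eq_one h3)
  rw [Nat.card_eq_fintype_card, Fintype.card_units] at this
  omega

variable {p : ℕ} [Fact p.Prime]

theorem orderOf_zeta {ζ : Fˣ} (hζ : ζ ^ p = 1) (hζ1 : ζ ≠ 1) : orderOf ζ = p := orderOf_eq_prime hζ hζ1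

theorem dvd_card_sub_one {ζ : Fˣ} (hζ : ζ ^ p = 1) (hζ1 : ζ ≠ 1) : p ∣ Fintype.card F - 1 := by
  classical
  rw [← orderOf_zeta hζ hζ1, ← Fintype.card_units]
  exact orderOf_dvd_card

theorem three_le_q (hF : Fintype.card F = q ^ 2) {ζ : Fˣ} (hζ : ζ ^ p = 1) (hζ1 : ζ ≠ 1)
    (hq : ζ ^ (q + 1) = 1) (h7 : 7 ≤ p ∨ (2 : F) ≠ 0) : 3 ≤ q := by
  have h2 := two_le hF
  by_contra hlt
  obtain rfl : q = 2 := by omega
  have h1 : p ∣ 3 := by rw [← orderOf_zeta hζ hζ1]; exact orderOf_dvd_of_pow_eq_one hq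
  have h3 : p = 3 := (Nat.prime_dvd_prime_iff_eq Fact.out Nat.prime_three).1 h1
  rcases h7 with h7 | h7
  · omega
  · apply h7
    have h4 : ((Fintype.card F : ℕ) : F) = 0 := FiniteField.cast_card_eq_zero F
    rw [hF] at h4
    have h5 : (2 : F) ^ 2 = 0 := by exact_mod_cast h4
    exact pow_eq_zero_iff (by norm_num) |>.1 h5

end Small

/-- Extension of scalars maps `GU_n(q₀)` into `GU_n(q)`. -/
theorem ex_GU {n : ℕ} [NeZero n] {F : Type*} [Field F] [Fintype F] {q : ℕ} (hF : Fintype.card F = q ^ 2)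
    (F₀ : Subfield F) [Fintype F₀] {q₀ : ℕ} (hF₀ : Fintype.card F₀ = q₀ ^ 2)
    (hpow : ∀ x : F₀, (x : F) ^ q = ((x ^ q₀ : F₀) : F)) {g : GL (Fin n) F₀} (hg : g ∈ GU n F₀ q₀) :
    ex n F₀ g ∈ GU n F q := by
  rw [mem_GU_iff] at hg ⊢
  have key : ∀ i j : Fin n, hermForm n F q ((ex n F₀ g : Matrix (Fin n) (Fin n) F) *ᵥ Pi.single i 1)
      ((ex n F₀ g : Matrix (Fin n) (Fin n) F) *ᵥ Pi.single j 1) = if i = j then 1 else 0 := by
    intro i j
    have h1 := hg (Pi.single i 1) (Pi.single j 1)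
    rw [herm_single_right hF₀, one_pow, mul_one, Pi.single_apply, Matrix.mulVec_single_one,
      Matrix.mulVec_single_one, herm_def] at h1
    rw [Matrix.mulVec_single_one, Matrix.mulVec_single_one, herm_def]
    have h2 := congrArg (fun z : F₀ => (z : F)) h1
    push_cast at h2
    calc _ = ∑ x, (((g : Matrix (Fin n) (Fin n) F₀).col i x : F₀) : F) *
        (((g : Matrix (Fin n) (Fin n) F₀).col j x : F₀) : F) ^ q₀ := by
          refine Finset.sum_congr rfl fun x _ => ?_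
          rw [Matrix.col_apply, Matrix.col_apply, ex_apply, ex_apply, hpow]
          push_cast
          rfl
      _ = _ := by
        rw [h2]
        by_cases hij : i = j
        · subst hij; simp
        · rw [if_neg (Ne.symm hij), if_neg hij]; simp
  intro u v
  have hu : (ex n F₀ g : Matrix (Fin n) (Fin n) F) *ᵥ u = ∑ i, u i • ((ex n F₀ g : Matrix (Fin n) (Fin n) F) *ᵥ Pi.single i 1) := by
    conv_lhs => rw [pi_eq_sum_univ' u]
    rw [Matrix.mulVec_sum]
    refine Finset.sum_congr rfl fun i _ => ?_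
    rw [Matrix.mulVec_smul]
  have hv : (ex n F₀ g : Matrix (Fin n) (Fin n) F) *ᵥ v = ∑ i, v i • ((ex n F₀ g : Matrix (Fin n) (Fin n) F) *ᵥ Pi.single i 1) := by
    conv_lhs => rw [pi_eq_sum_univ' v]
    rw [Matrix.mulVec_sum]
    refine Finset.sum_congr rfl fun i _ => ?_
    rw [Matrix.mulVec_smul]
  rw [hu, hv, herm_sum_left, herm_def]
  refine Finset.sum_congr rfl fun i _ => ?_
  rw [herm_smul_left, herm_sum_right hF, Finset.sum_eq_single i]
  · rw [herm_smul_right, key, if_pos rfl, mul_one]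
  · intro j _ hj
    rw [herm_smul_right, key, if_neg (Ne.symm hj), mul_zero]
  · intro h; exact absurd (Finset.mem_univ i) h

variable {p : ℕ} [Fact p.Prime] [NeZero p]

theorem Rz_le_GU {F : Type*} [Field F] {q : ℕ} {ζ : Fˣ} (hq : ζ ^ (q + 1) = 1) : Rz p ζ ≤ GU p F q := by
  unfold Rz
  refine (Subgroup.closure_le _).2 ?_
  rintro x (rfl | rfl)
  · exact Dm_mem_GU hq
  · exact Bm_mem_GU (by simp)

theorem isMinimalFieldFor {F : Type*} [Field F] [Fintype F] {r m : ℕ} [Fact r.Prime] [CharP F r]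
    (hm : Fintype.card F = r ^ m) (hmin : orderOf (r : ZMod p) = m) : IsMinimalFieldFor p r m F := by
  refine ⟨Fact.out, inferInstance, hm, (dvd_pow_sub_one_iff m).2 hmin.dvd, fun d hd hdm h => ?_⟩
  have := Nat.le_of_dvd hd (hmin ▸ (dvd_pow_sub_one_iff d).1 h)
  omega

/-- The case of the minimal field. -/
theorem SU_base (hp2 : p ≠ 2) (U : UniFacts.{u} p) (Hf : HeisFacts.{u} p) (S5 : p = 3 → SUThreeFive.{u})
    {F : Type u} [Field F] [Fintype F] {q : ℕ} (hF : Fintype.card F = q ^ 2) {ζ : Fˣ} (hζ : ζ ^ p = 1) (hζ1 : ζ ≠ 1)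
    (hq : ζ ^ (q + 1) = 1) (h7 : 7 ≤ p ∨ (2 : F) ≠ 0) {r m : ℕ} [Fact r.Prime] [CharP F r]
    (hm : Fintype.card F = r ^ m) (hmin : orderOf (r : ZMod p) = m) : Mc (SUg p F q) (Hs p ζ 1) = SUg p F q := by
  have hp : p.Prime := Fact.out
  have hp3 : 3 ≤ p := by have := hp.two_le; omega
  have hodd : Odd p := hp.odd_of_ne_two hp2
  have hq3 := three_le_q hF hζ hζ1 hq h7
  by_cases h35 : p = 3 ∧ q = 5
  · obtain ⟨rfl, rfl⟩ := h35
    exact S5 rfl hF ζ 1 hζ hζ1 (one_pow _)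
  · obtain ⟨h1, h2, h3, h4⟩ := Hf ζ hζ hζ1
    obtain ⟨c, hc, hc3⟩ := exists_norm_one_cube hF hq3
    have hpr : p ≠ r := by
      rintro rfl
      have h5 := dvd_card_sub_one hζ hζ1
      rw [hm] at h5
      have hm0 : m ≠ 0 := by
        rintro rfl
        rw [pow_zero] at hm
        have := Fintype.one_lt_card (α := F)
        omega
      have h6 : p ∣ p ^ m := dvd_pow_self p hm0
      have h7 : 0 < p ^ m := pow_pos hp.pos m
      have h8 := Nat.dvd_sub h6 h5
      rw [Nat.sub_sub_self h7] at h8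
      exact hp.one_lt.ne' (Nat.dvd_one.1 h8)
    have hmax := U.symp q hF (fun h => ⟨by omega, fun h' => h35 ⟨h, h'⟩⟩) (Rz p ζ) r m h1 h2 (Rz_le_GU hq) hpr
      (isMinimalFieldFor hm hmin) h3 h4
    refine Mc_eq_of_symp hp3 hodd hζ hζ1 hmax ?_ hc3 ⟨tor_mem_GU hc, tor_mem_SL (by omega) c⟩
    intro N hN hnorm
    exact Cfsg.Agent.H918.SUg_normal hF hp3 (fun h => by omega) hN hnorm

/-- `x ↦ x^q` on the subfield of index `s`, `s` odd. -/
theorem pow_q_of_odd {F : Type*} [Field F] {x : F} {q q₀ s : ℕ} (hs : Odd s) (hq : q = q₀ ^ s) (hx : x ^ (q₀ ^ 2) = x) :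
    x ^ q = x ^ q₀ := by
  obtain ⟨t, rfl⟩ := hs
  have h1 : ∀ t : ℕ, x ^ ((q₀ ^ 2) ^ t) = x := by
    intro t
    induction t with
    | zero => simp
    | succ t ih => rw [pow_succ, pow_mul, ih, hx]
  rw [hq, pow_succ, pow_mul q₀, pow_mul, h1]

/-- **Split case**: `Mc = SU_p(q)` if `β = 1`. -/
theorem SU_split (hp2 : p ≠ 2) (U : UniFacts.{u} p) (Hf : HeisFacts.{u} p) (S5 : p = 3 → SUThreeFive.{u}) (N : ℕ) :
    ∀ {F : Type u} [Field F] [Fintype F] {q : ℕ} (_ : Fintype.card F = q ^ 2) {ζ : Fˣ} (_ : ζ ^ p = 1) (_ : ζ ≠ 1)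
    (_ : ζ ^ (q + 1) = 1) (_ : 7 ≤ p ∨ (2 : F) ≠ 0) (_ : Fintype.card F = N),
    Mc (SUg p F q) (Hs p ζ 1) = SUg p F q := by
  induction N using Nat.strong_induction_on with
  | _ N ih =>
  intro F _ _ q hF ζ hζ hζ1 hq h7 hN
  have hp : p.Prime := Fact.out
  have hp3 : 3 ≤ p := by have := hp.two_le; omega
  have hq3 := three_le_q hF hζ hζ1 hq h7
  obtain ⟨r, hchar⟩ := CharP.exists F
  have hr : Fact r.Prime := ⟨CharP.char_is_prime F r⟩
  obtain ⟨m, hm0, hm⟩ := card_eq_pow (F := F) (r := r)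
  set e := orderOf (r : ZMod p) with he
  have hem : e ∣ m := (dvd_pow_sub_one_iff m).1 (hm ▸ dvd_card_sub_one hζ hζ1)
  by_cases heq : e = m
  · exact SU_base hp2 U Hf S5 hF hζ hζ1 hq h7 hm heq
  -- a subfield of prime index
  obtain ⟨t, ht⟩ := hem
  have ht1 : t ≠ 1 := by rintro rfl; exact heq (by rw [ht, mul_one])
  have ht0 : 0 < t := Nat.pos_of_ne_zero (by rintro rfl; rw [mul_zero] at ht; omega)
  have he0 : 0 < e := Nat.pos_of_ne_zero (by rintro h; rw [h, zero_mul] at ht; omega)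
  set s := t.minFac with hs
  have hsp : s.Prime := Nat.minFac_prime ht1
  obtain ⟨t', ht'⟩ := Nat.minFac_dvd t
  rw [← hs] at ht'
  -- `q = r^f`, `m = 2 f`
  have hqr : ∃ f, q = r ^ f := by
    have h1 : q ∣ r ^ m := by rw [← hm, hF]; exact Dvd.intro_left q (by ring)
    obtain ⟨f, -, hf⟩ := (Nat.dvd_prime_pow hr.out).1 h1
    exact ⟨f, hf⟩
  obtain ⟨f, hf⟩ := hqr
  have hmf : m = 2 * f := by
    have : r ^ m = r ^ (2 * f) := by rw [← hm, hF, hf, ← pow_mul, mul_comm]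
    exact Nat.pow_right_injective hr.out.two_le this
  -- `e` does not divide `f`
  have hef : ¬ e ∣ f := by
    intro h
    have h1 : p ∣ q - 1 := by rw [hf]; exact (dvd_pow_sub_one_iff f).2 h
    have h2 : p ∣ q + 1 := by rw [← orderOf_zeta hζ hζ1]; exact orderOf_dvd_of_pow_eq_one hq
    have h3 := Nat.dvd_sub h2 h1
    have h4 : q + 1 - (q - 1) = 2 := by omega
    rw [h4] at h3
    have := Nat.le_of_dvd (by norm_num) h3
    omega
  have htodd : Odd t := by
    rw [← Nat.not_even_iff_odd]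
    rintro ⟨a, ha⟩
    apply hef
    refine ⟨a, ?_⟩
    have : 2 * f = 2 * (e * a) := by rw [← hmf, ht, ha]; ring
    omega
  have hsodd : Odd s := htodd.of_dvd_nat (Nat.minFac_dvd t)
  set k := e * t' with hk
  have hmk : m = k * s := by rw [ht, ht', hk]; ring
  have hk0 : 0 < k := Nat.pos_of_ne_zero (by rintro h; rw [h, zero_mul] at hmk; omega)
  have hkm : k ∣ m := ⟨s, hmk⟩
  have hkeven : Even k := by
    have h1 : Even (k * s) := by rw [← hmk, hmf]; exact even_two_mul f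
    rcases Nat.even_mul.1 h1 with h | h
    · exact h
    · exact absurd h (Nat.not_even_iff_odd.2 hsodd)
  obtain ⟨k', hk'⟩ := hkeven
  set q₀ := r ^ k' with hq₀
  have hqq : q = q₀ ^ s := by
    rw [hf, hq₀, ← pow_mul]
    congr 1
    have : 2 * f = 2 * (k' * s) := by rw [← hmf, hmk, hk']; ring
    omega
  have hq₀1 : 1 < q₀ := Nat.one_lt_pow (by omega) hr.out.one_lt
  have hs3 : 3 ≤ s := by
    have := hsp.two_le
    rcases hsodd with ⟨a, ha⟩
    omega
  have hrk : r ^ k = q₀ ^ 2 := by rw [hk', hq₀, ← pow_mul]; congr 1; ring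
  -- the subfield
  set F₀ : Subfield F := Fk r k with hF₀def
  have : Fintype F₀ := Fintype.ofFinite _
  have hcardN : Nat.card F₀ = r ^ k := card_Fk hm hkm hk0
  have hF₀ : Fintype.card F₀ = q₀ ^ 2 := by rw [← Nat.card_eq_fintype_card, hcardN, hrk]
  have hpow : ∀ x : F₀, (x : F) ^ q = ((x ^ q₀ : F₀) : F) := by
    intro x
    rw [pow_q_of_odd hsodd hqq (by rw [← hrk]; exact mem_Fk.1 x.2)]
    push_cast
    rfl
  have hζF₀ : (ζ : F) ∈ F₀ := by
    refine mem_Fk_of_dvd (p := p) (by rw [← Units.val_pow_eq_pow_val, hζ, Units.val_one]) ?_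
    exact (dvd_pow_sub_one_iff k).2 ⟨t', hk⟩
  let ζ₀ : F₀ˣ := Units.mk0 ⟨(ζ : F), hζF₀⟩ (fun h => ζ.ne_zero (congrArg (fun z : F₀ => (z : F)) h))
  have hζ₀c : ((ζ₀ : F₀) : F) = ζ := rfl
  have hinj : ∀ {x y : F₀ˣ}, ((x : F₀) : F) = ((y : F₀) : F) → x = y := fun h => Units.ext (Subtype.ext h)
  have hζ₀ : ζ₀ ^ p = 1 := by
    apply hinj
    push_cast
    rw [hζ₀c, ← Units.val_pow_eq_pow_val, hζ, Units.val_one]
  have hζ₀1 : ζ₀ ≠ 1 := by
    intro h
    apply hζ1
    apply Units.ext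
    rw [← hζ₀c, h]
    simp
  have hζ₀q : ζ₀ ^ (q₀ + 1) = 1 := by
    apply hinj
    push_cast
    rw [pow_succ]
    have := hpow ζ₀
    push_cast at this
    rw [← this, hζ₀c, ← pow_succ, ← Units.val_pow_eq_pow_val, hq, Units.val_one]
  have h7' : 7 ≤ p ∨ (2 : F₀) ≠ 0 := by
    rcases h7 with h | h
    · exact Or.inl h
    · refine Or.inr fun h2 => h ?_
      have := congrArg (fun z : F₀ => (z : F)) h2
      push_cast at this
      exact this
  have hlt : Fintype.card F₀ < N := by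
    rw [← hN, hF₀, hF, hqq]
    have : q₀ < q₀ ^ s := by
      calc q₀ = q₀ ^ 1 := (pow_one _).symm
        _ < q₀ ^ s := Nat.pow_lt_pow_right hq₀1 (by omega)
    nlinarith only [this]
  have hM₀ := ih _ hlt hF₀ hζ₀ hζ₀1 hζ₀q h7' rfl
  have hcardpow : Fintype.card F = Nat.card F₀ ^ s := by rw [hcardN, ← pow_mul, ← hmk, hm]
  have hherm : ∀ u v : Fin p → F, (∀ i, u i ∈ F₀) → (∀ i, v i ∈ F₀) → hermForm p F q u v ∈ F₀ := by
    intro u v hu hv
    rw [herm_def]
    exact sum_mem fun i _ => mul_mem (hu i) (pow_mem (hv i) _)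
  have hmax := U.subf q hF hq3 F₀ s hsp hsodd hcardpow (fun u v hu hv => by
    rw [Units.val_one, Matrix.one_mulVec, Matrix.one_mulVec, one_mul]
    exact hherm u v hu hv)
  have hqle : q₀ ^ 2 ≤ q := by
    rw [hqq]
    exact Nat.pow_le_pow_right (by omega) (by omega)
  refine eq_SU_of_subfield hF hp3 F₀ hF₀ hqle hpow hmax (Mc_le _ _) ?_ ?_
  · rintro g hg ⟨d, hd⟩
    exact mem_Mc_diag (by omega) hζ1 hg d hd
  · intro g hg
    refine ex_Mc (ζ₀ := ζ₀) hζ₀c (G₀ := SUg p F₀ q₀) ?_ (by rw [hM₀]; exact hg)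
    intro x hx
    exact ⟨ex_GU hF F₀ hF₀ hpow hx.1, ex_SL hx.2⟩

/-- The algebra `F[B]` is closed under adjoints if `B` is unitary. -/
theorem adjointClosed {F : Type*} [Field F] [Fintype F] {n q : ℕ} [NeZero n] (hF : Fintype.card F = q ^ 2) {β : Fˣ}
    (hβ : β ^ (q + 1) = 1) : IsAdjointClosedFor (hermForm n F q) (Kf n β) := by
  have hn : 0 < n := Nat.pos_of_ne_zero (NeZero.ne n)
  intro k hk
  unfold Kf at hk
  refine Algebra.adjoin_induction (p := fun k _ => ∃ k' ∈ Kf n β, ∀ u v : Fin n → F,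
    hermForm n F q (k *ᵥ u) v = hermForm n F q u (k' *ᵥ v)) ?_ ?_ ?_ ?_ hk
  · rintro x rfl
    refine ⟨((β⁻¹ : Fˣ) : F) • (Bm n β : Matrix (Fin n) (Fin n) F) ^ (n - 1),
      Subalgebra.smul_mem _ (Subalgebra.pow_mem _ (Bm_mem_Kf β) _) _, fun u v => ?_⟩
    have hB := (mem_GU_iff _).1 (Bm_mem_GU (n := n) (norm_iff.2 hβ))
      u ((((β⁻¹ : Fˣ) : F) • (Bm n β : Matrix (Fin n) (Fin n) F) ^ (n - 1)) *ᵥ v)
    rw [← hB, Matrix.mulVec_mulVec, Matrix.mul_smul, ← pow_succ', Nat.sub_add_cancel hn, Bm_pow_n, smul_smul,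
      Units.inv_mul, one_smul, Matrix.one_mulVec]
  · intro c
    refine ⟨algebraMap F _ (c ^ q), Subalgebra.algebraMap_mem _ _, fun u v => ?_⟩
    rw [Algebra.algebraMap_eq_smul_one, Algebra.algebraMap_eq_smul_one, Matrix.smul_mulVec, Matrix.one_mulVec,
      Matrix.smul_mulVec, Matrix.one_mulVec, herm_smul_left, herm_smul_right, pow_q_pow_q hF]
  · rintro x y - - ⟨x', hx', hx⟩ ⟨y', hy', hy⟩
    refine ⟨x' + y', Subalgebra.add_mem _ hx' hy', fun u v => ?_⟩
    rw [Matrix.add_mulVec, Matrix.add_mulVec, herm_add_left, herm_add_right hF, hx, hy]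
  · rintro x y - - ⟨x', hx', hx⟩ ⟨y', hy', hy⟩
    refine ⟨y' * x', Subalgebra.mul_mem _ hy' hx', fun u v => ?_⟩
    rw [← Matrix.mulVec_mulVec, ← Matrix.mulVec_mulVec, hx, hy]

/-- **Nonsplit case**: `Mc = SU_p(q)` if `β` is not a `p`-th power. -/
theorem SU_nonsplit (hp2 : p ≠ 2) (U : UniFacts.{u} p) (S5 : p = 3 → SUThreeFive.{u})
    {F : Type u} [Field F] [Fintype F] {q : ℕ} (hF : Fintype.card F = q ^ 2) {ζ β : Fˣ} (hζ : ζ ^ p = 1) (hζ1 : ζ ≠ 1)
    (hq : ζ ^ (q + 1) = 1) (hβ : β ^ (q + 1) = 1) (hβp : ∀ x : Fˣ, x ^ p ≠ β) (h7 : 7 ≤ p ∨ (2 : F) ≠ 0) :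
    Mc (SUg p F q) (Hs p ζ β) = SUg p F q := by
  have hp : p.Prime := Fact.out
  have hp3 : 3 ≤ p := by have := hp.two_le; omega
  have hodd : Odd p := hp.odd_of_ne_two hp2
  have hq3 := three_le_q hF hζ hζ1 hq h7
  by_cases h35 : p = 3 ∧ q = 5
  · obtain ⟨rfl, rfl⟩ := h35
    exact S5 rfl hF ζ β hζ hζ1 hβ
  · have hβ' : ∀ x : F, x ^ p ≠ β := by
      intro x hx
      have hx0 : x ≠ 0 := by
        rintro rfl
        rw [zero_pow hp.ne_zero] at hx
        exact β.ne_zero hx.symm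
      exact hβp (Units.mk0 x hx0) (Units.ext (by rw [Units.val_pow_eq_pow_val, Units.val_mk0, hx]))
    obtain ⟨c, hc, hc3⟩ := exists_norm_one_cube hF hq3
    have h3 : p = 3 → q ≠ 3 ∧ q ≠ 5 := by
      rintro rfl
      refine ⟨?_, fun h => h35 ⟨rfl, h⟩⟩
      rintro rfl
      have h1 : 3 ∣ 4 := by
        have := orderOf_dvd_of_pow_eq_one hq
        rwa [orderOf_zeta hζ hζ1] at this
      omega
    have hmax := U.field q hF h3 hq3 (Kf p β) (isField_Kf hp hβ') (adjointClosed hF hβ)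
    refine Mc_eq_of_field hp hp3 hodd hζ hζ1 hβ' ⟨Dm_mem_GU hq, Dm_mem_SL hodd hζ⟩ hmax ?_ hc3
      ⟨tor_mem_GU hc, tor_mem_SL (by omega) c⟩
    intro N hN hnorm
    exact Cfsg.Agent.H918.SUg_normal hF hp3 (fun h => by omega) hN hnorm

end Cfsg.Agent.H321.Ker
end
end

-- part: H321/Ker/Core
section
prune_inst 0x10000100040000000000000010001c4282000000600804000400000004800c4000000020803000100000000400300048110000000000000000200000011800800000000000000000000010000080000000000000000000000000000000000000000000000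
set_option linter.all false
open scoped Cfsg.Agent.FastGrp

-- part: H321/Ker/MainL
section
/-!
# S2187, kernel row: `SL_p(q)`
-/

set_option autoImplicit false
set_option linter.unusedSectionVars false

universe u

namespace Cfsg.Agent.H321.Ker

open Cfsg Cfsg.Geo
open scoped MatrixGroups Matrix
open Cfsg.Agent.LieClassical.HermBasic
open Cfsg.Agent.H918 (SUg)

theorem SL_normal {F : Type*} [Field F] [Fintype F] {n : ℕ} (hn : 3 ≤ n) {N : Subgroup (GL (Fin n) F)}
    (hN : N ≤ specialLinear (Fin n) F) (hnorm : ∀ g ∈ specialLinear (Fin n) F, ∀ x ∈ N, g * x * g⁻¹ ∈ N) :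
    N ≤ scalars (Fin n) F ∨ N = specialLinear (Fin n) F := by
  rcases Cfsg.Agent.S2540.result n (by omega) (by omega) N (fun s g hg => hnorm _ (Cfsg.Agent.H918.mem_specialLinear.2 s.2) g hg) with h | h
  · left
    intro g hg
    obtain ⟨c, hc⟩ := h g hg
    rw [mem_scalars_iff]
    have hc0 : c ≠ 0 := by
      rintro rfl
      have h1 := Cfsg.Agent.H918.mem_specialLinear.1 (hN hg)
      have : Nonempty (Fin n) := ⟨⟨0, by omega⟩⟩
      rw [hc, zero_smul, Matrix.det_zero] at h1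
      exact zero_ne_one h1
    exact ⟨Units.mk0 c hc0, hc⟩
  · right
    refine le_antisymm hN fun g hg => h ⟨⟨g, Cfsg.Agent.H918.mem_specialLinear.1 hg⟩, Units.ext rfl⟩

theorem isUnitaryForm {F : Type*} [Field F] [Fintype F] {n q : ℕ} (hF : Fintype.card F = q ^ 2) :
    IsUnitaryForm (conj hF) (hermForm n F q) where
  ne_refl := by
    intro h
    obtain ⟨x, hx⟩ := exists_not_fixed hF
    apply hx
    have := congrArg (fun s : F ≃+* F => s x) h
    simpa [conj_apply] using this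
  involutive := fun a => by rw [conj_apply, conj_apply, pow_q_pow_q hF]
  add_left := fun x y v => herm_add_left x y v
  smul_left := fun c x v => herm_smul_left c x v
  herm := fun v w => by rw [conj_apply, ← herm_swap hF]
  nondegenerate := by
    intro v hv
    obtain ⟨x, hx⟩ := exists_herm_ne_zero hF hv
    refine ⟨⟨x, fun h => hx ?_⟩, ⟨x, hx⟩⟩
    exact herm_eq_zero_swap hF h

variable {p : ℕ} [Fact p.Prime] [NeZero p]

theorem four_lt_card {F : Type*} [Field F] [Fintype F] (hp2 : p ≠ 2) {ζ : Fˣ} (hζ : ζ ^ p = 1) (hζ1 : ζ ≠ 1)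
    (h7 : 7 ≤ p ∨ (2 : F) ≠ 0) : 4 < Fintype.card F := by
  have hp : p.Prime := Fact.out
  have hp3 : 3 ≤ p := by have := hp.two_le; omega
  have h1 := dvd_card_sub_one hζ hζ1
  have h2 : 1 < Fintype.card F := Fintype.one_lt_card
  have h3 := Nat.le_of_dvd (by omega) h1
  by_contra hlt
  have h4 : Fintype.card F = 4 := by omega
  have h5 : p = 3 := by omega
  rcases h7 with h7 | h7
  · omega
  · apply h7
    have h4' : ((Fintype.card F : ℕ) : F) = 0 := FiniteField.cast_card_eq_zero F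
    rw [h4] at h4'
    have h5 : (2 : F) ^ 2 = 0 := by
      have : (2 : F) ^ 2 = ((4 : ℕ) : F) := by norm_num
      rw [this, h4']
    exact pow_eq_zero_iff (by norm_num) |>.1 h5

theorem prime_ne_char {F : Type*} [Field F] [Fintype F] {ζ : Fˣ} (hζ : ζ ^ p = 1) (hζ1 : ζ ≠ 1) {r m : ℕ}
    (hm : Fintype.card F = r ^ m) : p ≠ r := by
  have hp : p.Prime := Fact.out
  rintro rfl
  have h5 := dvd_card_sub_one hζ hζ1
  rw [hm] at h5
  have hm0 : m ≠ 0 := by
    rintro rfl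
    rw [pow_zero] at hm
    have := Fintype.one_lt_card (α := F)
    omega
  have h6 : p ∣ p ^ m := dvd_pow_self p hm0
  have h7 : 0 < p ^ m := pow_pos hp.pos m
  have h8 := Nat.dvd_sub h6 h5
  rw [Nat.sub_sub_self h7] at h8
  exact hp.one_lt.ne' (Nat.dvd_one.1 h8)

/-- The case of the minimal field. -/
theorem SL_base (hp2 : p ≠ 2) (L : LinFacts.{u} p) (U : UniFacts.{u} p) (Hf : HeisFacts.{u} p)
    (S5 : p = 3 → SUThreeFive.{u})
    {F : Type u} [Field F] [Fintype F] {ζ : Fˣ} (hζ : ζ ^ p = 1) (hζ1 : ζ ≠ 1)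
    (h7 : 7 ≤ p ∨ (2 : F) ≠ 0) {r m : ℕ} [Fact r.Prime] [CharP F r]
    (hm : Fintype.card F = r ^ m) (hmin : orderOf (r : ZMod p) = m) :
    Mc (specialLinear (Fin p) F) (Hs p ζ 1) = specialLinear (Fin p) F := by
  have hp : p.Prime := Fact.out
  have hp3 : 3 ≤ p := by have := hp.two_le; omega
  have hodd : Odd p := hp.odd_of_ne_two hp2
  have hm0 : 0 < m := by
    rcases Nat.eq_zero_or_pos m with h | h
    · subst h
      rw [pow_zero] at hm
      have := Fintype.one_lt_card (α := F)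
      omega
    · exact h
  have hT : ∀ g ∈ specialLinear (Fin p) F, (∃ d : Fin p → F, (g : Matrix (Fin p) (Fin p) F) = Matrix.diagonal d) →
      g ∈ Mc (specialLinear (Fin p) F) (Hs p ζ 1) := by
    rintro g hg ⟨d, hd⟩
    exact mem_Mc_diag (by omega) hζ1 hg d hd
  rcases Nat.even_or_odd m with he | ho
  · obtain ⟨k, hk⟩ := he
    set q := r ^ k with hq
    have hF : Fintype.card F = q ^ 2 := by rw [hm, hk, hq, ← pow_mul]; congr 1; ring
    have hζq : ζ ^ (q + 1) = 1 := by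
      have h1 : p ∣ (q + 1) * (q - 1) := by
        classical
        rw [← card_units_eq hF, Nat.card_eq_fintype_card, Fintype.card_units]
        exact dvd_card_sub_one hζ hζ1
      rcases (hp.dvd_mul).1 h1 with h | h
      · exact orderOf_dvd_iff_pow_eq_one.1 (by rw [orderOf_zeta hζ hζ1]; exact h)
      · exfalso
        have h2 := Nat.le_of_dvd (by omega) ((dvd_pow_sub_one_iff k).1 h)
        omega
    have h1 := SU_split hp2 U Hf S5 _ hF hζ hζ1 hζq h7 rfl
    refine eq_SL_of_herm hF hp3 (three_le_q hF hζ hζ1 hζq h7) (L.herm _ _ (isUnitaryForm hF)) (Mc_le _ _) hT ?_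
    calc GU p F q ⊓ specialLinear (Fin p) F = Mc (SUg p F q) (Hs p ζ 1) := h1.symm
      _ ≤ _ := Mc_mono inf_le_right le_rfl
  · obtain ⟨h1, h2, h3, h4⟩ := Hf ζ hζ hζ1
    obtain ⟨c, hc3⟩ := exists_cube_ne_one (four_lt_card hp2 hζ hζ1 h7)
    have hdata : IsLinearSymplecticTypeData p (Rz p ζ) := by
      refine ⟨h1, h2, r, m, prime_ne_char hζ hζ1 hm, ?_, Or.inl ⟨hodd, ho, h4, 1, le_rfl, h3⟩⟩
      rw [h4]
      exact isMinimalFieldFor hm hmin
    exact Mc_eq_of_symp hp3 hodd hζ hζ1 (L.symp _ hdata) (fun N hN hnorm => SL_normal hp3 hN hnorm) hc3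
      (tor_mem_SL (by omega) c)

/-- **Split case**: `Mc = SL_p(q)` if `β = 1`. -/
theorem SL_split (hp2 : p ≠ 2) (L : LinFacts.{u} p) (U : UniFacts.{u} p) (Hf : HeisFacts.{u} p)
    (S5 : p = 3 → SUThreeFive.{u})
    {F : Type u} [Field F] [Fintype F] {ζ : Fˣ} (hζ : ζ ^ p = 1) (hζ1 : ζ ≠ 1) (h7 : 7 ≤ p ∨ (2 : F) ≠ 0) :
    Mc (specialLinear (Fin p) F) (Hs p ζ 1) = specialLinear (Fin p) F := by
  have hp : p.Prime := Fact.out
  have hp3 : 3 ≤ p := by have := hp.two_le; omega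
  obtain ⟨r, hchar⟩ := CharP.exists F
  have hr : Fact r.Prime := ⟨CharP.char_is_prime F r⟩
  obtain ⟨m, hm0, hm⟩ := card_eq_pow (F := F) (r := r)
  set e := orderOf (r : ZMod p) with he
  have hem : e ∣ m := (dvd_pow_sub_one_iff m).1 (hm ▸ dvd_card_sub_one hζ hζ1)
  have he0 : 0 < e := Nat.pos_of_ne_zero (by rintro h; rw [h, zero_dvd_iff] at hem; omega)
  set F₀ : Subfield F := Fk r e with hF₀def
  have : Fintype F₀ := Fintype.ofFinite _
  have hcard : Fintype.card F₀ = r ^ e := by rw [← Nat.card_eq_fintype_card]; exact card_Fk hm hem he0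
  have hζF₀ : (ζ : F) ∈ F₀ := by
    refine mem_Fk_of_dvd (p := p) (by rw [← Units.val_pow_eq_pow_val, hζ, Units.val_one]) ?_
    exact (dvd_pow_sub_one_iff e).2 dvd_rfl
  let ζ₀ : F₀ˣ := Units.mk0 ⟨(ζ : F), hζF₀⟩ (fun h => ζ.ne_zero (congrArg (fun z : F₀ => (z : F)) h))
  have hζ₀c : ((ζ₀ : F₀) : F) = ζ := rfl
  have hζ₀ : ζ₀ ^ p = 1 := by
    apply Units.ext
    apply Subtype.ext
    push_cast
    rw [hζ₀c, ← Units.val_pow_eq_pow_val, hζ, Units.val_one]
  have hζ₀1 : ζ₀ ≠ 1 := by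
    intro h
    apply hζ1
    apply Units.ext
    rw [← hζ₀c, h]
    simp
  have h7' : 7 ≤ p ∨ (2 : F₀) ≠ 0 := by
    rcases h7 with h | h
    · exact Or.inl h
    · refine Or.inr fun h2 => h ?_
      have := congrArg (fun z : F₀ => (z : F)) h2
      push_cast at this
      exact this
  have hM₀ := SL_base hp2 L U Hf S5 hζ₀ hζ₀1 h7' hcard he.symm
  refine eq_SL_of_subfield hp3 F₀ (Mc_le _ _) ?_ ?_
  · rintro g hg ⟨d, hd⟩
    exact mem_Mc_diag (by omega) hζ1 hg d hd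
  · intro g hg
    exact ex_Mc (ζ₀ := ζ₀) hζ₀c (G₀ := specialLinear (Fin p) F₀) (fun x hx => ex_SL hx) (by rw [hM₀]; exact hg)

/-- **Nonsplit case**: `Mc = SL_p(q)` if `β` is not a `p`-th power. -/
theorem SL_nonsplit (hp2 : p ≠ 2) (L : LinFacts.{u} p)
    {F : Type u} [Field F] [Fintype F] {ζ β : Fˣ} (hζ : ζ ^ p = 1) (hζ1 : ζ ≠ 1)
    (hβp : ∀ x : Fˣ, x ^ p ≠ β) (h7 : 7 ≤ p ∨ (2 : F) ≠ 0) :
    Mc (specialLinear (Fin p) F) (Hs p ζ β) = specialLinear (Fin p) F := by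
  have hp : p.Prime := Fact.out
  have hp3 : 3 ≤ p := by have := hp.two_le; omega
  have hodd : Odd p := hp.odd_of_ne_two hp2
  have h4 := four_lt_card hp2 hζ hζ1 h7
  have hβ' : ∀ x : F, x ^ p ≠ β := by
    intro x hx
    have hx0 : x ≠ 0 := by
      rintro rfl
      rw [zero_pow hp.ne_zero] at hx
      exact β.ne_zero hx.symm
    exact hβp (Units.mk0 x hx0) (Units.ext (by rw [Units.val_pow_eq_pow_val, Units.val_mk0, hx]))
  obtain ⟨c, hc3⟩ := exists_cube_ne_one h4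
  exact Mc_eq_of_field hp hp3 hodd hζ hζ1 hβ' (Dm_mem_SL hodd hζ)
    (L.field (fun _ => by omega) (Kf p β) (isField_Kf hp hβ')) (fun N hN hnorm => SL_normal hp3 hN hnorm) hc3
    (tor_mem_SL (by omega) c)

end Cfsg.Agent.H321.Ker
end

-- part: H783/NormF
section
/-!
# S2187, kernel row: the normal form of a Heisenberg pair

`normalForm`, `normalFormU` : `a b = ζ b a`, `a ^ p`, `b ^ p` scalar, `ζ ≠ 1`: modulo scalars, and up to conjugation (in the
unitary group), `⟨a, b⟩` contains `diag(1, ζ', …)` and the weighted shift.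
-/

set_option autoImplicit false

namespace Cfsg.Agent.H783.NormF

open Cfsg Cfsg.Geo
open Cfsg.Agent.H321.Ker
open Cfsg.Agent.LieClassical.HermBasic
open scoped MatrixGroups Matrix

/-! ### Heisenberg pairs in a group -/

section Grp

variable {Γ : Type*} [Group Γ] {C : Type*} [CommGroup C]

theorem pow_comm_heis (s : C →* Γ) (hs : ∀ c g, s c * g = g * s c) {x y : Γ} {η : C}
    (h : y * x = s η * (x * y)) (n : ℕ) : y ^ n * x = s (η ^ n) * (x * y ^ n) := by
  induction n with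
  | zero => simp
  | succ n ih =>
    rw [pow_succ', mul_assoc, ih, ← mul_assoc, ← hs, mul_assoc, ← mul_assoc y x, h, mul_assoc, mul_assoc,
      ← mul_assoc (s _) (s _), ← map_mul, ← pow_succ, ← pow_succ']

theorem comm_pow_heis (s : C →* Γ) (hs : ∀ c g, s c * g = g * s c) {x y : Γ} {η : C}
    (h : y * x = s η * (x * y)) (n : ℕ) : y * x ^ n = s (η ^ n) * (x ^ n * y) := by
  induction n with
  | zero => simp
  | succ n ih =>
    rw [pow_succ, ← mul_assoc, ih, mul_assoc, mul_assoc, h, ← mul_assoc (x ^ n), ← hs, mul_assoc, ← mul_assoc (s _) (s _),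
      ← map_mul, ← pow_succ]
    simp only [mul_assoc]

theorem mul_pow_heis (s : C →* Γ) (hs : ∀ c g, s c * g = g * s c) {x y : Γ} {η : C}
    (h : y * x = s η * (x * y)) (n : ℕ) : (x * y) ^ n = s (η ^ (n.choose 2)) * (x ^ n * y ^ n) := by
  induction n with
  | zero => simp
  | succ n ih =>
    rw [pow_succ, ih]
    calc s (η ^ n.choose 2) * (x ^ n * y ^ n) * (x * y) = s (η ^ n.choose 2) * (x ^ n * (y ^ n * x) * y) := by
          simp only [mul_assoc]
      _ = s (η ^ n.choose 2) * ((x ^ n * s (η ^ n)) * (x * y ^ n) * y) := by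
          rw [pow_comm_heis s hs h]; simp only [mul_assoc]
      _ = (s (η ^ n.choose 2) * s (η ^ n)) * (x ^ (n + 1) * y ^ (n + 1)) := by
          rw [← hs, pow_succ, pow_succ]; simp only [mul_assoc]
      _ = s (η ^ ((n + 1).choose 2)) * (x ^ (n + 1) * y ^ (n + 1)) := by
          rw [← map_mul, ← pow_add]
          congr 3
          rw [Nat.choose_succ_succ' n 1, Nat.choose_one_right, add_comm]

end Grp

/-! ### `p`-th powers in a cyclic group -/

theorem exists_pow_mul {C : Type*} [CommGroup C] [Finite C] [IsCyclic C] {p : ℕ} [hp : Fact p.Prime]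
    (hdvd : p ∣ Nat.card C) {α : C} (hα : ∀ x : C, x ^ p ≠ α) (β : C) : ∃ (j : ℕ) (γ : C), α ^ j * β = γ ^ p := by
  let R : Subgroup C := (powMonoidHom p : C →* C).range
  have h1 : Nat.card (powMonoidHom p : C →* C).ker = p := by
    rw [IsCyclic.card_powMonoidHom_ker]
    exact Nat.gcd_eq_right hdvd
  have h2 : Nat.card (C ⧸ R) = p := by
    have a1 := Subgroup.card_eq_card_quotient_mul_card_subgroup R
    have a2 := Subgroup.card_eq_card_quotient_mul_card_subgroup (powMonoidHom p : C →* C).ker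
    rw [h1, Nat.card_congr (QuotientGroup.quotientKerEquivRange (powMonoidHom p : C →* C)).toEquiv] at a2
    have a3 : 0 < Nat.card R := Nat.card_pos
    have a4 : Nat.card (C ⧸ R) * Nat.card R = p * Nat.card R := by
      rw [← a1, a2, mul_comm]
    exact Nat.eq_of_mul_eq_mul_right a3 a4
  have h3 : (QuotientGroup.mk' R) α ≠ 1 := by
    intro h
    have : α ∈ R := (QuotientGroup.eq_one_iff α).1 h
    obtain ⟨x, hx⟩ := this
    exact hα x hx
  obtain ⟨j, hj⟩ := mem_powers_of_prime_card (g' := (QuotientGroup.mk' R) β⁻¹) h2 h3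
  refine ⟨j, ?_⟩
  have h4 : (QuotientGroup.mk' R) (α ^ j * β) = 1 := by
    have hj' : (QuotientGroup.mk' R) α ^ j = (QuotientGroup.mk' R) β⁻¹ := hj
    rw [map_mul, map_pow, hj', ← map_mul, inv_mul_cancel, map_one]
  have h5 : α ^ j * β ∈ R := (QuotientGroup.eq_one_iff _).1 h4
  obtain ⟨x, hx⟩ := h5
  exact ⟨x, hx.symm⟩

/-- After a change of generators, `a ^ p` is a `p`-th power of a scalar. -/
theorem replace {Γ : Type*} [Group Γ] {C : Type*} [CommGroup C] [Finite C] [IsCyclic C] {p : ℕ} [hp : Fact p.Prime]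
    (h2 : p ≠ 2) (s : C →* Γ) (hinj : Function.Injective s) (hs : ∀ c g, s c * g = g * s c) {a b : Γ} {ζ α β : C} (hζ : ζ ≠ 1)
    (hab : a * b = s ζ * (b * a)) (ha : a ^ p = s α) (hb : b ^ p = s β) :
    ∃ (a' b' : Γ) (ζ' γ β' : C), a' ∈ Subgroup.closure {a, b} ∧ b' ∈ Subgroup.closure {a, b} ∧ ζ' ≠ 1 ∧ ζ' ^ p = 1 ∧
      (ζ' = ζ ∨ ζ' = ζ⁻¹) ∧
      a' * b' = s ζ' * (b' * a') ∧ a' ^ p = s (γ ^ p) ∧ b' ^ p = s β' := by
  have hζp : ζ ^ p = 1 := by
    have h := pow_comm_heis s hs hab p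
    rw [ha, hs] at h
    have h3 : s (ζ ^ p) = 1 := mul_eq_right.1 h.symm
    exact hinj (by rw [h3, map_one])
  have hamem : a ∈ Subgroup.closure {a, b} := Subgroup.subset_closure (by simp)
  have hbmem : b ∈ Subgroup.closure {a, b} := Subgroup.subset_closure (by simp)
  by_cases hα : ∃ x : C, x ^ p = α
  · obtain ⟨γ, rfl⟩ := hα
    exact ⟨a, b, ζ, γ, β, hamem, hbmem, hζ, hζp, Or.inl rfl, hab, ha, hb⟩
  · push Not at hα
    have hord : orderOf ζ = p := orderOf_eq_prime hζp hζ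
    have hdvd : p ∣ Nat.card C := by rw [← hord]; exact orderOf_dvd_natCard ζ
    obtain ⟨j, γ, hγ⟩ := exists_pow_mul hdvd hα β
    have hba : b * a = s ζ⁻¹ * (a * b) := by
      rw [hab, ← mul_assoc, ← map_mul, inv_mul_cancel, map_one, one_mul]
    have hbaj : b * a ^ j = s ((ζ⁻¹) ^ j) * (a ^ j * b) := comm_pow_heis s hs hba j
    refine ⟨a ^ j * b, a, ζ⁻¹, γ, α, mul_mem (pow_mem hamem j) hbmem, hamem, by simpa using hζ, by simp [hζp], Or.inr rfl, ?_, ?_, ha⟩
    · rw [mul_assoc, hba, ← mul_assoc (a ^ j), ← hs, mul_assoc, ← mul_assoc (a ^ j), ← pow_succ, ← mul_assoc a, ← pow_succ']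
    · rw [mul_pow_heis s hs hbaj p]
      have h3 : p ∣ p.choose 2 := hp.out.dvd_choose_self (by norm_num) (by
        have := hp.out.two_le
        omega)
      obtain ⟨m, hm⟩ := h3
      have h4 : ((ζ⁻¹) ^ j) ^ (p.choose 2) = 1 := by
        rw [hm, ← pow_mul, mul_comm p m, ← mul_assoc, pow_mul, inv_pow, inv_pow]
        rw [← pow_mul, mul_comm, pow_mul, hζp, one_pow, inv_one]
      rw [h4, map_one, one_mul, ← pow_mul, mul_comm j p, pow_mul, ha, hb, ← map_pow, ← map_mul, hγ]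

/-! ### Eigenvectors -/

section Lin

variable {p : ℕ} [hp : Fact p.Prime] {F : Type*} [Field F]

theorem exists_eig {A : Matrix (Fin p) (Fin p) F} {ζ : F} (hζ : IsPrimitiveRoot ζ p) (hA : A ^ p = 1) :
    ∃ (i : ℕ) (w : Fin p → F), w ≠ 0 ∧ A *ᵥ w = ζ ^ i • w := by
  have hp0 : 0 < p := hp.out.pos
  have : NeZero p := ⟨hp0.ne'⟩
  let f : Module.End F (Fin p → F) := Matrix.toLin' A
  have hf : f ^ p = 1 := by
    change (Matrix.toLin' A) ^ p = 1
    rw [← Matrix.toLin'_pow, hA, Matrix.toLin'_one]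
    rfl
  have hd : minpoly F f ∣ (Polynomial.X ^ p - 1) := by
    refine minpoly.dvd F f ?_
    rw [map_sub, map_pow, Polynomial.aeval_X, map_one, hf, sub_self]
  have hsp : (Polynomial.X ^ p - 1 : Polynomial F).Splits := by
    have := Polynomial.X_pow_sub_one_splits hζ
    simpa using this
  have hne : (Polynomial.X ^ p - 1 : Polynomial F) ≠ 0 := Polynomial.X_pow_sub_C_ne_zero hp0 1
  have hsp2 : (minpoly F f).Splits := hsp.of_dvd hne hd
  have hdeg : (minpoly F f).degree ≠ 0 := by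
    have h1 : IsIntegral F f := Algebra.IsIntegral.isIntegral f
    exact (minpoly.degree_pos h1).ne'
  obtain ⟨μ, hμ⟩ := hsp2.exists_eval_eq_zero hdeg
  have hroot : (minpoly F f).IsRoot μ := hμ
  obtain ⟨w, hw⟩ := (Module.End.hasEigenvalue_of_isRoot hroot).exists_hasEigenvector
  have hμp : μ ^ p = 1 := by
    have h1 := hroot.dvd hd
    have h2 : (Polynomial.X ^ p - 1 : Polynomial F).eval μ = 0 := h1
    rw [Polynomial.eval_sub, Polynomial.eval_pow, Polynomial.eval_X, Polynomial.eval_one] at h2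
    exact sub_eq_zero.1 h2
  obtain ⟨i, -, hi⟩ := hζ.eq_pow_of_pow_eq_one hμp
  refine ⟨i, w, hw.2, ?_⟩
  have h3 := hw.apply_eq_smul
  rw [hi, ← h3]
  exact (Matrix.toLin'_apply A w).symm

omit hp in
theorem mulVec_pow_eig {A B : Matrix (Fin p) (Fin p) F} {ζ μ : F} (hab : A * B = ζ • (B * A)) {v : Fin p → F}
    (hAv : A *ᵥ v = μ • v) (k : ℕ) : A *ᵥ (B ^ k *ᵥ v) = (ζ ^ k * μ) • (B ^ k *ᵥ v) := by
  induction k with
  | zero => simp [hAv]
  | succ k ih =>
    rw [pow_succ', ← Matrix.mulVec_mulVec, Matrix.mulVec_mulVec _ A B, hab, Matrix.smul_mulVec, ← Matrix.mulVec_mulVec, ih,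
      Matrix.mulVec_smul, smul_smul, pow_succ']
    congr 1
    ring

/-- `a ^ p = 1`: a fixed vector. -/
theorem exists_fix {A B : GL (Fin p) F} {ζ : Fˣ} (hζ1 : ζ ≠ 1) (hζp : ζ ^ p = 1)
    (hab : (A : Matrix (Fin p) (Fin p) F) * B = (ζ : F) • ((B : Matrix (Fin p) (Fin p) F) * A))
    (hA : (A : Matrix (Fin p) (Fin p) F) ^ p = 1) :
    ∃ v : Fin p → F, v ≠ 0 ∧ (A : Matrix (Fin p) (Fin p) F) *ᵥ v = v := by
  have hζ : IsPrimitiveRoot (ζ : F) p := by
    have h1 : orderOf ζ = p := orderOf_eq_prime hζp hζ1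
    have h2 : IsPrimitiveRoot ζ p := by rw [← h1]; exact IsPrimitiveRoot.orderOf ζ
    exact h2.map_of_injective (f := Units.coeHom F) Units.val_injective
  obtain ⟨i, w, hw, hAw⟩ := exists_eig hζ hA
  obtain ⟨k, hk⟩ : ∃ k : ℕ, (ζ : F) ^ k * (ζ : F) ^ i = 1 := by
    refine ⟨p * i - i, ?_⟩
    have h1 : i ≤ p * i := Nat.le_mul_of_pos_left i hp.out.pos
    rw [← pow_add, Nat.sub_add_cancel h1, pow_mul, hζ.pow_eq_one, one_pow]
  refine ⟨(B : Matrix (Fin p) (Fin p) F) ^ k *ᵥ w, ?_, ?_⟩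
  · intro h
    apply hw
    have h1 : ((B ^ k : GL (Fin p) F)⁻¹ : GL (Fin p) F).1 *ᵥ ((B : Matrix (Fin p) (Fin p) F) ^ k *ᵥ w) = w := by
      rw [← Units.val_pow_eq_pow_val, Matrix.mulVec_mulVec, Units.inv_mul, Matrix.one_mulVec]
    rw [← h1, h, Matrix.mulVec_zero]
  · rw [mulVec_pow_eig hab hAw, hk, one_smul]

theorem core {A B : GL (Fin p) F} {ζ β : Fˣ} (hζ1 : ζ ≠ 1) (hζp : ζ ^ p = 1)
    (hab : (A : Matrix (Fin p) (Fin p) F) * B = (ζ : F) • ((B : Matrix (Fin p) (Fin p) F) * A))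
    (hB : (B : Matrix (Fin p) (Fin p) F) ^ p = (β : F) • 1) {v : Fin p → F} (hv : v ≠ 0)
    (hAv : (A : Matrix (Fin p) (Fin p) F) *ᵥ v = v) :
    ∃ P : GL (Fin p) F, (∀ i j : Fin p, (P : Matrix (Fin p) (Fin p) F) i j = ((B : Matrix (Fin p) (Fin p) F) ^ (j : ℕ) *ᵥ v) i) ∧
      P * Dm p ζ * P⁻¹ = A ∧ P * Bm p β * P⁻¹ = B := by
  have hζord : orderOf ζ = p := orderOf_eq_prime hζp hζ1
  have hAv' : (A : Matrix (Fin p) (Fin p) F) *ᵥ v = (1 : F) • v := by rw [hAv, one_smul]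
  have hk : ∀ k : ℕ, (A : Matrix (Fin p) (Fin p) F) *ᵥ ((B : Matrix (Fin p) (Fin p) F) ^ k *ᵥ v) =
      ((ζ : F) ^ k) • ((B : Matrix (Fin p) (Fin p) F) ^ k *ᵥ v) := by
    intro k
    rw [mulVec_pow_eig hab hAv', mul_one]
  have hne : ∀ k : ℕ, (B : Matrix (Fin p) (Fin p) F) ^ k *ᵥ v ≠ 0 := by
    intro k h
    apply hv
    have h1 : ((B ^ k : GL (Fin p) F)⁻¹ : GL (Fin p) F).1 *ᵥ ((B : Matrix (Fin p) (Fin p) F) ^ k *ᵥ v) = v := by
      rw [← Units.val_pow_eq_pow_val, Matrix.mulVec_mulVec, Units.inv_mul, Matrix.one_mulVec]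
    rw [← h1, h, Matrix.mulVec_zero]
  have hinj : Function.Injective (fun i : Fin p => (ζ : F) ^ (i : ℕ)) := by
    intro i j hij
    refine Fin.ext ?_
    have h1 : ζ ^ (i : ℕ) = ζ ^ (j : ℕ) := Units.ext (by simpa only [_root_.Units.val_pow_eq_pow_val] using hij)
    exact pow_injOn_Iio_orderOf (by rw [hζord]; exact i.2) (by rw [hζord]; exact j.2) h1
  have hli : LinearIndependent F (fun j : Fin p => (B : Matrix (Fin p) (Fin p) F) ^ (j : ℕ) *ᵥ v) := by
    refine Module.End.eigenvectors_linearIndependent' (Matrix.toLin' (A : Matrix (Fin p) (Fin p) F))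
      (fun i : Fin p => (ζ : F) ^ (i : ℕ)) hinj _ fun i => ?_
    rw [Module.End.hasEigenvector_iff, Module.End.mem_eigenspace_iff]
    exact ⟨by rw [Matrix.toLin'_apply]; exact hk i, hne i⟩
  let P₀ : Matrix (Fin p) (Fin p) F := Matrix.of fun i j => ((B : Matrix (Fin p) (Fin p) F) ^ (j : ℕ) *ᵥ v) i
  have hcol : P₀.col = fun j : Fin p => (B : Matrix (Fin p) (Fin p) F) ^ (j : ℕ) *ᵥ v := by
    funext j i
    rfl
  have hu : IsUnit P₀ := by
    rw [← Matrix.linearIndependent_cols_iff_isUnit, hcol]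
    exact hli
  have hval : ((hu.unit : GL (Fin p) F) : Matrix (Fin p) (Fin p) F) = P₀ := hu.unit_spec
  refine ⟨hu.unit, fun i j => by rw [hval]; rfl, ?_, ?_⟩
  · symm
    rw [eq_mul_inv_iff_mul_eq]
    refine Units.ext ?_
    rw [Units.val_mul, Units.val_mul, hval]
    ext i j
    have h1 := congrFun (hk j) i
    change ((A : Matrix (Fin p) (Fin p) F) * P₀) i j = (P₀ * Matrix.diagonal fun i : Fin p => ((ζ ^ (i : ℕ) : Fˣ) : F)) i j
    rw [Matrix.mul_diagonal, Units.val_pow_eq_pow_val, mul_comm]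
    exact h1
  · symm
    rw [eq_mul_inv_iff_mul_eq]
    refine Units.ext ?_
    rw [Units.val_mul, Units.val_mul, hval]
    ext i j
    change ((B : Matrix (Fin p) (Fin p) F) * P₀) i j =
      (P₀ * Matrix.of fun i j : Fin p => if i = j + 1 then (if i = 0 then (β : F) else 1) else 0) i j
    have h1 : ((B : Matrix (Fin p) (Fin p) F) * P₀) i j = ((B : Matrix (Fin p) (Fin p) F) ^ ((j : ℕ) + 1) *ᵥ v) i := by
      rw [pow_succ', ← Matrix.mulVec_mulVec]
      rfl
    rw [h1, Matrix.mul_apply, Finset.sum_eq_single (j + 1)]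
    · rw [Matrix.of_apply, if_pos rfl]
      split_ifs with h0
      · have h2 : (j : ℕ) + 1 = p := by
          have h3 : ((j + 1 : Fin p) : ℕ) = 0 := by rw [h0]; rfl
          have h4 := j.2
          by_contra hcon
          rw [Fin.val_add_one_of_lt' (by omega)] at h3
          omega
        rw [h2, hB, h0, Matrix.smul_mulVec, Matrix.one_mulVec]
        change β * v i = ((B : Matrix (Fin p) (Fin p) F) ^ ((0 : Fin p) : ℕ) *ᵥ v) i * β
        rw [show ((0 : Fin p) : ℕ) = 0 from rfl, pow_zero, Matrix.one_mulVec, mul_comm]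
      · have h2 : ((j + 1 : Fin p) : ℕ) = (j : ℕ) + 1 := by
          refine Fin.val_add_one_of_lt' ?_
          by_contra hcon
          have h4 := j.2
          apply h0
          refine Fin.ext ?_
          rw [Fin.val_add]
          have h5 : ((1 : Fin p) : ℕ) = 1 := by
            have := hp.out.one_lt
            exact Nat.mod_eq_of_lt this
          rw [h5, show (j : ℕ) + 1 = p by omega, Nat.mod_self]
          rfl
        rw [mul_one]
        change _ = ((B : Matrix (Fin p) (Fin p) F) ^ ((j + 1 : Fin p) : ℕ) *ᵥ v) i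
        rw [h2]
    · intro k _ hk2
      rw [Matrix.of_apply, if_neg hk2, mul_zero]
    · intro h
      exact absurd (Finset.mem_univ _) h

end Lin

/-! ### The normal form -/

section Main

variable {p : ℕ} [hp : Fact p.Prime] {F : Type*} [Field F]

/-- the scalar matrices -/
def sc (p : ℕ) (F : Type*) [Field F] : Fˣ →* GL (Fin p) F :=
  Units.map (Matrix.scalar (Fin p) : F →+* Matrix (Fin p) (Fin p) F).toMonoidHom

omit hp in
theorem sc_val (c : Fˣ) : (sc p F c : Matrix (Fin p) (Fin p) F) = (c : F) • (1 : Matrix (Fin p) (Fin p) F) := by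
  rw [sc, Matrix.smul_one_eq_diagonal]
  rfl

omit hp in
theorem sc_mem (c : Fˣ) : sc p F c ∈ scalars (Fin p) F := ⟨c, rfl⟩

omit hp in
theorem sc_comm (c : Fˣ) (g : GL (Fin p) F) : sc p F c * g = g * sc p F c := by
  refine Units.ext ?_
  rw [Units.val_mul, Units.val_mul, sc_val, Matrix.smul_mul, Matrix.mul_smul, one_mul, mul_one]

theorem sc_inj : Function.Injective (sc p F) := by
  intro c d h
  have h1 := congrArg (fun g : GL (Fin p) F => (g : Matrix (Fin p) (Fin p) F) 0 0) h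
  simp only [sc_val, Matrix.smul_apply, Matrix.one_apply_eq, smul_eq_mul, mul_one] at h1
  exact Units.ext h1

omit hp in
theorem sc_mul_val (c : Fˣ) (g : GL (Fin p) F) :
    ((sc p F c * g : GL (Fin p) F) : Matrix (Fin p) (Fin p) F) = (c : F) • (g : Matrix (Fin p) (Fin p) F) := by
  rw [Units.val_mul, sc_val, Matrix.smul_mul, one_mul]

/-- scalars in the unitary group -/
theorem sc_mem_GU {q : ℕ} {c : Fˣ} : sc p F c ∈ Cfsg.GU p F q ↔ c ^ (q + 1) = 1 := by
  have h0 : ∀ u : Fin p → F, (sc p F c : Matrix (Fin p) (Fin p) F) *ᵥ u = (c : F) • u := by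
    intro u
    rw [sc_val, Matrix.smul_mulVec, Matrix.one_mulVec]
  rw [mem_GU_iff]
  constructor
  · intro h
    have h1 := h (Pi.single 0 1) (Pi.single 0 1)
    rw [h0, herm_smul_left, herm_smul_right, herm_single_left, Pi.single_eq_same, one_pow, mul_one, mul_one] at h1
    refine Units.ext ?_
    rw [Units.val_pow_eq_pow_val, pow_succ', h1, Units.val_one]
  · intro h u v
    have h1 := congrArg Units.val h
    rw [Units.val_pow_eq_pow_val, pow_succ', Units.val_one] at h1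
    rw [h0, h0, herm_smul_left, herm_smul_right, ← mul_assoc, h1, one_mul]

theorem pre [Fintype F] (h2 : p ≠ 2) {a b : GL (Fin p) F} {ζ : Fˣ} (hζ1 : ζ ≠ 1)
    (hab : (a : Matrix (Fin p) (Fin p) F) * b = (ζ : F) • ((b : Matrix (Fin p) (Fin p) F) * a))
    (ha : a ^ p ∈ scalars (Fin p) F) (hb : b ^ p ∈ scalars (Fin p) F) :
    ∃ (A B : GL (Fin p) F) (ζ' β : Fˣ), A ∈ Subgroup.closure {a, b} ⊔ scalars (Fin p) F ∧
      B ∈ Subgroup.closure {a, b} ⊔ scalars (Fin p) F ∧ ζ' ≠ 1 ∧ ζ' ^ p = 1 ∧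
      A * B = sc p F ζ' * (B * A) ∧ A ^ p = 1 ∧ B ^ p = sc p F β ∧ (β = 1 ∨ ∀ x : Fˣ, x ^ p ≠ β) ∧
      (∀ q : ℕ, Fintype.card F = q ^ 2 → ζ ^ (q + 1) = 1 → a ∈ Cfsg.GU p F q → b ∈ Cfsg.GU p F q →
        A ∈ Cfsg.GU p F q ∧ B ∈ Cfsg.GU p F q ∧ ζ' ^ (q + 1) = 1 ∧ β ^ (q + 1) = 1) := by
  obtain ⟨α, hα⟩ := ha
  obtain ⟨β₀, hβ₀⟩ := hb
  have hα' : a ^ p = sc p F α := hα.symm
  have hβ₀' : b ^ p = sc p F β₀ := hβ₀.symm
  have hab' : a * b = sc p F ζ * (b * a) := by
    refine Units.ext ?_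
    rw [sc_mul_val, Units.val_mul, Units.val_mul]
    exact hab
  obtain ⟨a', b', ζ', γ, β', ha', hb', hζ', hζp', hor, hab1, hap, hbp⟩ :=
    replace h2 (sc p F) sc_inj sc_comm hζ1 hab' hα' hβ₀'
  have hle : Subgroup.closure {a, b} ≤ Subgroup.closure {a, b} ⊔ scalars (Fin p) F := le_sup_left
  have hsc : ∀ c : Fˣ, sc p F c ∈ Subgroup.closure {a, b} ⊔ scalars (Fin p) F := fun c =>
    (le_sup_right : _ ≤ Subgroup.closure {a, b} ⊔ scalars (Fin p) F) (sc_mem c)
  have hcomm : ∀ (c : Fˣ) (g : GL (Fin p) F), Commute (sc p F c) g := fun c g => sc_comm c g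
  -- the norm one property of a `p`-th root
  have hnorm : ∀ (q : ℕ), Fintype.card F = q ^ 2 → ζ ^ (q + 1) = 1 → ∀ δ : Fˣ, sc p F (δ ^ p) ∈ Cfsg.GU p F q →
      δ ^ (q + 1) = 1 := by
    intro q hF hq δ hδ
    rw [sc_mem_GU] at hδ
    have hζp : ζ ^ p = 1 := by
      rcases hor with rfl | rfl
      · exact hζp'
      · rw [inv_pow, inv_eq_one] at hζp'
        exact hζp'
    have hord : orderOf ζ = p := orderOf_eq_prime hζp hζ1
    have hpq : p ∣ q + 1 := by rw [← hord]; exact orderOf_dvd_of_pow_eq_one hq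
    have hq2 := two_le hF
    have hcop : Nat.Coprime p (q - 1) := by
      rw [Nat.Prime.coprime_iff_not_dvd hp.out]
      intro hd
      have h3 : p ∣ (q + 1) - (q - 1) := Nat.dvd_sub hpq hd
      have h4 : (q + 1) - (q - 1) = 2 := by omega
      rw [h4] at h3
      have h5 := Nat.le_of_dvd (by norm_num) h3
      have h6 := hp.out.two_le
      omega
    have h5 : (δ ^ (q + 1)) ^ p = 1 := by rw [← pow_mul, mul_comm, pow_mul]; exact hδ
    have h6 : (δ ^ (q + 1)) ^ (q - 1) = 1 := by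
      rw [← pow_mul, ← card_units_eq hF]
      exact pow_card_eq_one'
    have h7 : orderOf (δ ^ (q + 1)) ∣ Nat.gcd p (q - 1) :=
      Nat.dvd_gcd (orderOf_dvd_of_pow_eq_one h5) (orderOf_dvd_of_pow_eq_one h6)
    rw [hcop] at h7
    exact orderOf_eq_one_iff.1 (Nat.dvd_one.1 h7)
  have hA : sc p F γ⁻¹ * a' ∈ Subgroup.closure {a, b} ⊔ scalars (Fin p) F := mul_mem (hsc _) (hle ha')
  have hAp : (sc p F γ⁻¹ * a') ^ p = 1 := by
    rw [(hcomm _ _).mul_pow, hap, ← map_pow, ← map_mul, inv_pow, inv_mul_cancel, map_one]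
  have hGU : ∀ q : ℕ, a ∈ Cfsg.GU p F q → b ∈ Cfsg.GU p F q → ∀ g ∈ Subgroup.closure {a, b}, g ∈ Cfsg.GU p F q := by
    intro q hau hbu
    have : Subgroup.closure {a, b} ≤ Cfsg.GU p F q := by
      rw [Subgroup.closure_le]
      rintro x (rfl | rfl)
      · exact hau
      · exact hbu
    exact this
  have hinv1 : ∀ {c : Fˣ} {n : ℕ}, c ^ n = 1 → (c⁻¹) ^ n = 1 := by
    intro c n h
    rw [inv_pow, h, inv_one]
  have hζq : ∀ q : ℕ, ζ ^ (q + 1) = 1 → ζ' ^ (q + 1) = 1 := by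
    intro q hq
    rcases hor with rfl | rfl
    · exact hq
    · exact hinv1 hq
  have hAB : ∀ (c d : Fˣ), (sc p F c * a') * (sc p F d * b') = sc p F ζ' * ((sc p F d * b') * (sc p F c * a')) := by
    intro c d
    calc (sc p F c * a') * (sc p F d * b') = sc p F c * (a' * sc p F d) * b' := by simp only [mul_assoc]
      _ = sc p F c * sc p F d * (a' * b') := by rw [← sc_comm]; simp only [mul_assoc]
      _ = (sc p F c * sc p F d) * sc p F ζ' * (b' * a') := by rw [hab1]; simp only [mul_assoc]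
      _ = (sc p F ζ' * sc p F d) * (sc p F c * b') * a' := by
          rw [← map_mul, ← map_mul, ← map_mul, ← mul_assoc (sc p F (ζ' * d)), ← map_mul, mul_assoc (sc p F _) b']
          congr 2
          rw [mul_comm c d, mul_comm _ ζ', mul_assoc]
      _ = sc p F ζ' * ((sc p F d * b') * (sc p F c * a')) := by rw [sc_comm c b']; simp only [mul_assoc]
  by_cases hβ : ∃ x : Fˣ, x ^ p = β'
  · obtain ⟨δ, rfl⟩ := hβ
    refine ⟨sc p F γ⁻¹ * a', sc p F δ⁻¹ * b', ζ', 1, hA, mul_mem (hsc _) (hle hb'), hζ', hζp', hAB _ _, hAp, ?_, Or.inl rfl, ?_⟩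
    · rw [(hcomm _ _).mul_pow, hbp, ← map_pow, ← map_mul, inv_pow, inv_mul_cancel]
    · intro q hF hq hau hbu
      have h3 : γ ^ (q + 1) = 1 := hnorm q hF hq γ (by rw [← hap]; exact pow_mem (hGU q hau hbu a' ha') p)
      have h4 : δ ^ (q + 1) = 1 := hnorm q hF hq δ (by rw [← hbp]; exact pow_mem (hGU q hau hbu b' hb') p)
      exact ⟨mul_mem (sc_mem_GU.2 (hinv1 h3)) (hGU q hau hbu a' ha'), mul_mem (sc_mem_GU.2 (hinv1 h4)) (hGU q hau hbu b' hb'),
        hζq q hq, one_pow _⟩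
  · push Not at hβ
    have hAB' := hAB γ⁻¹ 1
    rw [map_one, one_mul] at hAB'
    refine ⟨sc p F γ⁻¹ * a', b', ζ', β', hA, hle hb', hζ', hζp', hAB', hAp, hbp, Or.inr hβ, ?_⟩
    intro q hF hq hau hbu
    have h3 : γ ^ (q + 1) = 1 := hnorm q hF hq γ (by rw [← hap]; exact pow_mem (hGU q hau hbu a' ha') p)
    refine ⟨mul_mem (sc_mem_GU.2 (hinv1 h3)) (hGU q hau hbu a' ha'), hGU q hau hbu b' hb', hζq q hq, ?_⟩
    rw [← sc_mem_GU (p := p), ← hbp]
    exact pow_mem (hGU q hau hbu b' hb') p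

/-- membership of the conjugates -/
theorem fin_mem {A B P : GL (Fin p) F} {ζ β : Fˣ} {H : Subgroup (GL (Fin p) F)} (hs : scalars (Fin p) F ≤ H) (hA : A ∈ H) (hB : B ∈ H)
    (hPA : P * Dm p ζ * P⁻¹ = A) (hPB : P * Bm p β * P⁻¹ = B) : ∀ h ∈ Hs p ζ β, P * h * P⁻¹ ∈ H := by
  have h1 : Hs p ζ β ≤ H.comap (MulAut.conj P).toMonoidHom := by
    refine sup_le ((Subgroup.closure_le _).2 ?_) ?_
    · rintro x (rfl | rfl)
      · change P * Dm p ζ * P⁻¹ ∈ H
        rw [hPA]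
        exact hA
      · change P * Bm p β * P⁻¹ ∈ H
        rw [hPB]
        exact hB
    · intro x hx
      exact hs (conj_mem_scalars hx)
  exact h1

theorem normalForm (h2 : p ≠ 2) [Fintype F] {a b : GL (Fin p) F} {ζ : Fˣ} (hζ1 : ζ ≠ 1)
    (hab : (a : Matrix (Fin p) (Fin p) F) * b = (ζ : F) • ((b : Matrix (Fin p) (Fin p) F) * a))
    (ha : a ^ p ∈ Cfsg.Geo.scalars (Fin p) F) (hb : b ^ p ∈ Cfsg.Geo.scalars (Fin p) F) :
    ∃ (P : GL (Fin p) F) (ζ' β : Fˣ), ζ' ≠ 1 ∧ ζ' ^ p = 1 ∧ (β = 1 ∨ ∀ x : Fˣ, x ^ p ≠ β) ∧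
      ∀ h ∈ Hs p ζ' β, P * h * P⁻¹ ∈ Subgroup.closure {a, b} ⊔ Cfsg.Geo.scalars (Fin p) F := by
  obtain ⟨A, B, ζ', β, hA, hB, hζ', hζp', hAB, hAp, hBp, hβ, -⟩ := pre h2 hζ1 hab ha hb
  have hAB' : (A : Matrix (Fin p) (Fin p) F) * B = (ζ' : F) • ((B : Matrix (Fin p) (Fin p) F) * A) := by
    have h3 := congrArg Units.val hAB
    rw [sc_mul_val, Units.val_mul, Units.val_mul] at h3
    exact h3
  have hAp' : (A : Matrix (Fin p) (Fin p) F) ^ p = 1 := by
    rw [← Units.val_pow_eq_pow_val, hAp, Units.val_one]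
  have hBp' : (B : Matrix (Fin p) (Fin p) F) ^ p = (β : F) • 1 := by
    rw [← Units.val_pow_eq_pow_val, hBp, sc_val]
  obtain ⟨v, hv, hAv⟩ := exists_fix hζ' hζp' hAB' hAp'
  obtain ⟨P, -, hPA, hPB⟩ := core hζ' hζp' hAB' hBp' hv hAv
  exact ⟨P, ζ', β, hζ', hζp', hβ, fin_mem le_sup_right hA hB hPA hPB⟩

end Main

/-! ### The unitary case -/

section Unitary

variable {p : ℕ} [hp : Fact p.Prime] {F : Type*} [Field F] [Fintype F] {q : ℕ}

theorem normalFormU (h2 : p ≠ 2) (hF : Fintype.card F = q ^ 2) {a b : GL (Fin p) F} {ζ : Fˣ} (hζ1 : ζ ≠ 1)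
    (hq : ζ ^ (q + 1) = 1) (hau : a ∈ Cfsg.GU p F q) (hbu : b ∈ Cfsg.GU p F q)
    (hab : (a : Matrix (Fin p) (Fin p) F) * b = (ζ : F) • ((b : Matrix (Fin p) (Fin p) F) * a))
    (ha : a ^ p ∈ Cfsg.Geo.scalars (Fin p) F) (hb : b ^ p ∈ Cfsg.Geo.scalars (Fin p) F) :
    ∃ (P : GL (Fin p) F) (ζ' β : Fˣ), P ∈ Cfsg.GU p F q ∧ ζ' ≠ 1 ∧ ζ' ^ p = 1 ∧ (β = 1 ∨ ∀ x : Fˣ, x ^ p ≠ β) ∧
      β ^ (q + 1) = 1 ∧
      ∀ h ∈ Hs p ζ' β, P * h * P⁻¹ ∈ Subgroup.closure {a, b} ⊔ Cfsg.Geo.scalars (Fin p) F := by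
  obtain ⟨A, B, ζ', β, hA, hB, hζ', hζp', hAB, hAp, hBp, hβ, hU⟩ := pre h2 hζ1 hab ha hb
  obtain ⟨hAu, hBu, hζq, hβq⟩ := hU q hF hq hau hbu
  have hAB' : (A : Matrix (Fin p) (Fin p) F) * B = (ζ' : F) • ((B : Matrix (Fin p) (Fin p) F) * A) := by
    have h3 := congrArg Units.val hAB
    rw [sc_mul_val, Units.val_mul, Units.val_mul] at h3
    exact h3
  have hAp' : (A : Matrix (Fin p) (Fin p) F) ^ p = 1 := by
    rw [← Units.val_pow_eq_pow_val, hAp, Units.val_one]
  have hBp' : (B : Matrix (Fin p) (Fin p) F) ^ p = (β : F) • 1 := by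
    rw [← Units.val_pow_eq_pow_val, hBp, sc_val]
  obtain ⟨v, hv, hAv⟩ := exists_fix hζ' hζp' hAB' hAp'
  have hζord : orderOf ζ' = p := orderOf_eq_prime hζp' hζ'
  -- the vectors `B ^ i v` are pairwise orthogonal
  have horth : ∀ (w : Fin p → F), (A : Matrix (Fin p) (Fin p) F) *ᵥ w = w → ∀ i j : Fin p, i ≠ j →
      hermForm p F q ((B : Matrix (Fin p) (Fin p) F) ^ (i : ℕ) *ᵥ w) ((B : Matrix (Fin p) (Fin p) F) ^ (j : ℕ) *ᵥ w) = 0 := by
    intro w hw i j hij
    have hw' : (A : Matrix (Fin p) (Fin p) F) *ᵥ w = (1 : F) • w := by rw [hw, one_smul]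
    have h3 := (mem_GU_iff A).1 hAu ((B : Matrix (Fin p) (Fin p) F) ^ (i : ℕ) *ᵥ w)
      ((B : Matrix (Fin p) (Fin p) F) ^ (j : ℕ) *ᵥ w)
    rw [mulVec_pow_eig hAB' hw', mulVec_pow_eig hAB' hw', mul_one, mul_one, herm_smul_left, herm_smul_right, ← mul_assoc] at h3
    by_contra hne
    have h4 : (ζ' : F) ^ (i : ℕ) * ((ζ' : F) ^ (j : ℕ)) ^ q = 1 := by
      have h5 : ((ζ' : F) ^ (i : ℕ) * ((ζ' : F) ^ (j : ℕ)) ^ q - 1) *
          hermForm p F q ((B : Matrix (Fin p) (Fin p) F) ^ (i : ℕ) *ᵥ w) ((B : Matrix (Fin p) (Fin p) F) ^ (j : ℕ) *ᵥ w) = 0 := by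
        rw [sub_mul, one_mul, h3, sub_self]
      exact sub_eq_zero.1 ((mul_eq_zero.1 h5).resolve_right hne)
    have h6 : ζ' ^ (i : ℕ) * (ζ' ^ (j : ℕ)) ^ q = 1 := Units.ext (by simpa only [_root_.Units.val_mul, _root_.Units.val_pow_eq_pow_val, _root_.Units.val_one] using h4)
    have h7 : (ζ' ^ (j : ℕ)) ^ q * ζ' ^ (j : ℕ) = 1 := by
      rw [← pow_succ, ← pow_mul, mul_comm, pow_mul, hζq, one_pow]
    have h8 : ζ' ^ (i : ℕ) = ζ' ^ (j : ℕ) := by
      have h9 : ζ' ^ (i : ℕ) * ((ζ' ^ (j : ℕ)) ^ q * ζ' ^ (j : ℕ)) = ζ' ^ (j : ℕ) := by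
        rw [← mul_assoc, h6, one_mul]
      rw [h7, mul_one] at h9
      exact h9
    exact hij (Fin.ext (pow_injOn_Iio_orderOf (by rw [hζord]; exact i.2) (by rw [hζord]; exact j.2) h8))
  -- `h(v, v) ≠ 0`
  have hvv : hermForm p F q v v ≠ 0 := by
    intro h0
    apply hv
    obtain ⟨P, hP, -, -⟩ := core hζ' hζp' hAB' hBp' hv hAv
    refine herm_nondeg hF fun w => ?_
    have h3 : w = ∑ j, ((P⁻¹ : GL (Fin p) F).1 *ᵥ w) j • ((B : Matrix (Fin p) (Fin p) F) ^ (j : ℕ) *ᵥ v) := by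
      have h4 : (P : Matrix (Fin p) (Fin p) F) *ᵥ ((P⁻¹ : GL (Fin p) F).1 *ᵥ w) = w := by
        rw [Matrix.mulVec_mulVec, Units.mul_inv, Matrix.one_mulVec]
      funext i
      conv_lhs => rw [← h4]
      rw [Matrix.mulVec, dotProduct, Finset.sum_apply]
      refine Finset.sum_congr rfl fun j _ => ?_
      rw [hP, Pi.smul_apply, smul_eq_mul, mul_comm]
    rw [h3, herm_sum_right hF]
    refine Finset.sum_eq_zero fun j _ => ?_
    rw [herm_smul_right]
    rcases eq_or_ne (0 : Fin p) j with rfl | hj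
    · have h5 : (B : Matrix (Fin p) (Fin p) F) ^ ((0 : Fin p) : ℕ) *ᵥ v = v := by
        rw [show ((0 : Fin p) : ℕ) = 0 from rfl, pow_zero, Matrix.one_mulVec]
      rw [h5, h0, mul_zero]
    · have h6 := horth v hAv 0 j hj
      rw [show ((0 : Fin p) : ℕ) = 0 from rfl, pow_zero, Matrix.one_mulVec] at h6
      rw [h6, mul_zero]
  obtain ⟨c, hc0, hc⟩ := exists_norm_eq_ne hF (c := (hermForm p F q v v)⁻¹) (by rw [inv_pow, herm_self_pow hF])
    (inv_ne_zero hvv)
  have hcv : (c • v) ≠ 0 := smul_ne_zero hc0 hv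
  have hAcv : (A : Matrix (Fin p) (Fin p) F) *ᵥ (c • v) = c • v := by rw [Matrix.mulVec_smul, hAv]
  have hcc : hermForm p F q (c • v) (c • v) = 1 := by
    rw [herm_smul_left, herm_smul_right, ← mul_assoc, hc, inv_mul_cancel₀ hvv]
  obtain ⟨P, hP, hPA, hPB⟩ := core hζ' hζp' hAB' hBp' hcv hAcv
  refine ⟨P, ζ', β, ?_, hζ', hζp', hβ, hβq, fin_mem le_sup_right hA hB hPA hPB⟩
  -- `P` is unitary
  have hcol : ∀ w : Fin p → F, (P : Matrix (Fin p) (Fin p) F) *ᵥ w =
      ∑ j, w j • ((B : Matrix (Fin p) (Fin p) F) ^ (j : ℕ) *ᵥ (c • v)) := by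
    intro w
    funext i
    rw [Matrix.mulVec, dotProduct, Finset.sum_apply]
    refine Finset.sum_congr rfl fun j _ => ?_
    rw [hP, Pi.smul_apply, smul_eq_mul, mul_comm]
  have hgram : ∀ i j : Fin p, hermForm p F q ((B : Matrix (Fin p) (Fin p) F) ^ (i : ℕ) *ᵥ (c • v))
      ((B : Matrix (Fin p) (Fin p) F) ^ (j : ℕ) *ᵥ (c • v)) = if i = j then 1 else 0 := by
    intro i j
    split_ifs with h
    · subst h
      have h3 : (B ^ (i : ℕ)) ∈ Cfsg.GU p F q := pow_mem hBu _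
      have h4 := (mem_GU_iff (B ^ (i : ℕ))).1 h3 (c • v) (c • v)
      rw [Units.val_pow_eq_pow_val] at h4
      rw [h4, hcc]
    · exact horth _ hAcv i j h
  rw [mem_GU_iff]
  intro u w
  rw [hcol u, hcol w, herm_sum_left]
  simp_rw [herm_smul_left, herm_sum_right hF, herm_smul_right, hgram]
  rw [herm_def]
  refine Finset.sum_congr rfl fun i _ => ?_
  congr 1
  rw [Finset.sum_eq_single i]
  · rw [if_pos rfl, mul_one]
  · intro j _ hj
    rw [if_neg (Ne.symm hj), mul_zero]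
  · intro h
    exact absurd (Finset.mem_univ i) h

end Unitary

end Cfsg.Agent.H783.NormF
end

-- part: H973/KerSU/Model
section
/-!
# A computable model of the field with 25 elements

`K = F₅[ω]`, `ω² = -1 - ω`; `φ : K →+* F` with `φ ω = ζ` for a primitive cube root of unity `ζ` of a field `F` of
characteristic 5; `φ (star x) = (φ x) ^ 5`; `φ` is bijective if `|F| = 25`.
-/

set_option autoImplicit false
set_option linter.unusedSectionVars false

namespace Cfsg.Agent.H973.KerSU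

/-- `F₅[ω]`, `ω² = -1 - ω`. -/
abbrev K := QuadraticAlgebra (ZMod 5) (-1) (-1)

/-- the norm form on `K`. -/
def nm (x : K) : ZMod 5 := x.re * x.re - x.re * x.im + x.im * x.im

theorem mul_star (x : K) : x * star x = ⟨nm x, 0⟩ := by
  obtain ⟨a, b⟩ := x
  revert a b
  decide +kernel

theorem nm_eq_zero (a b : ZMod 5) (h : nm ⟨a, b⟩ = 0) : (⟨a, b⟩ : K) = 0 := by
  revert a b
  decide

section

variable {F : Type*} [Field F]

theorem cube {ζ : F} (hζ : ζ ^ 3 = 1) (hζ1 : ζ ≠ 1) : ζ * ζ + ζ + 1 = 0 := by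
  have h : (ζ - 1) * (ζ * ζ + ζ + 1) = 0 := by linear_combination hζ
  rcases mul_eq_zero.1 h with h | h
  · exact absurd (sub_eq_zero.1 h) hζ1
  · exact h

variable [CharP F 5]

theorem exists_phi {ζ : F} (h : ζ * ζ + ζ + 1 = 0) :
    ∃ φ : K →+* F, ∀ x : K, φ x = (x.re.cast : F) + (x.im.cast : F) * ζ := by
  let _ := ZMod.algebra F 5
  refine ⟨((QuadraticAlgebra.lift (R := ZMod 5) (a := -1) (b := -1) (A := F)
    ⟨ζ, by rw [neg_smul, neg_smul, one_smul, one_smul]; linear_combination h⟩ : K →ₐ[ZMod 5] F) : K →+* F), ?_⟩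
  intro x
  rw [RingHom.coe_coe, QuadraticAlgebra.lift_apply_apply, Algebra.smul_def, Algebra.smul_def, mul_one]
  rfl

theorem cast_pow (x : ZMod 5) : (x.cast : F) ^ 5 = (x.cast : F) := by
  have : Fact (Nat.Prime 5) := ⟨by norm_num⟩
  have h : (ZMod.castHom (dvd_refl 5) F) (x ^ 5) = (ZMod.castHom (dvd_refl 5) F) x := by rw [ZMod.pow_card]
  rw [map_pow] at h
  exact h

theorem phi_star {ζ : F} (h : ζ * ζ + ζ + 1 = 0) {φ : K →+* F}
    (hφ : ∀ x : K, φ x = (x.re.cast : F) + (x.im.cast : F) * ζ) (x : K) : φ (star x) = (φ x) ^ 5 := by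
  have : Fact (Nat.Prime 5) := ⟨by norm_num⟩
  have h1 : star x = ⟨x.re - x.im, -x.im⟩ := by
    ext
    · rw [QuadraticAlgebra.re_star, neg_one_mul, ← sub_eq_add_neg]
    · rw [QuadraticAlgebra.im_star]
  have h2 : ((x.re - x.im : ZMod 5).cast : F) = (x.re.cast : F) - (x.im.cast : F) :=
    map_sub (ZMod.castHom (dvd_refl 5) F) _ _
  have h3 : ((-x.im : ZMod 5).cast : F) = - (x.im.cast : F) := map_neg (ZMod.castHom (dvd_refl 5) F) _
  rw [hφ x, add_pow_char, mul_pow, cast_pow, cast_pow, hφ, h1, h2, h3]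
  linear_combination (- (x.im.cast : F)) * (ζ ^ 3 - ζ ^ 2 + 1) * h

theorem phi_injective (φ : K →+* F) : Function.Injective φ := by
  rw [injective_iff_map_eq_zero]
  rintro ⟨a, b⟩ hx
  apply nm_eq_zero
  have h1 : φ (⟨nm ⟨a, b⟩, 0⟩ : K) = 0 := by rw [← mul_star, map_mul, hx, zero_mul]
  by_contra h2
  have : Fact (Nat.Prime 5) := ⟨by norm_num⟩
  have h3 : (⟨nm ⟨a, b⟩, 0⟩ : K) * (⟨(nm ⟨a, b⟩)⁻¹, 0⟩ : K) = 1 := by
    rw [QuadraticAlgebra.mk_mul_mk]
    ext
    · simp only [mul_inv_cancel₀ h2, mul_zero, add_zero]; rfl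
    · simp only [mul_zero, zero_mul, add_zero]; rfl
  have h4 := congrArg φ h3
  rw [map_mul, h1, zero_mul, map_one] at h4
  exact zero_ne_one h4

theorem phi_surjective [Fintype F] (hF : Fintype.card F = 5 ^ 2) (φ : K →+* F) : Function.Surjective φ := by
  haveI : Fintype K := Fintype.ofEquiv _ (QuadraticAlgebra.equivProd (-1 : ZMod 5) (-1)).symm
  refine ((Fintype.bijective_iff_injective_and_card φ).2 ⟨phi_injective φ, ?_⟩).2
  rw [hF, Fintype.card_congr (QuadraticAlgebra.equivProd (-1 : ZMod 5) (-1)), Fintype.card_prod, ZMod.card]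
  norm_num

end

end Cfsg.Agent.H973.KerSU
end

-- part: H973/KerSU/Words
section
/-!
# Words in the model

`Fk i b` = the model of `Dm 3 ζ ^ i * Bm 3 β` (`φ b = β`); for each sixth root of unity `b` a word
`(C₁ m C₂)²`, with `m` diagonal and `C_j` centralising some `Fk i b`, which is a transvection with centre `(1, a, 0)`.
-/

set_option autoImplicit false
set_option maxRecDepth 100000

open scoped Matrix

namespace Cfsg.Agent.H973.KerSU

/-- unitary of determinant 1. -/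
def Uni (A : Matrix (Fin 3) (Fin 3) K) : Prop :=
  Aᵀ * A.map star = 1 ∧ A 0 0 * A 1 1 * A 2 2 - A 0 0 * A 1 2 * A 2 1 - A 0 1 * A 1 0 * A 2 2 +
    A 0 1 * A 1 2 * A 2 0 + A 0 2 * A 1 0 * A 2 1 - A 0 2 * A 1 1 * A 2 0 = 1

instance (A : Matrix (Fin 3) (Fin 3) K) : Decidable (Uni A) := by unfold Uni; infer_instance

theorem Uni.det {A : Matrix (Fin 3) (Fin 3) K} (h : Uni A) : A.det = 1 := by
  rw [Matrix.det_fin_three]; exact h.2

/-- `diag(1, ω, ω²)`. -/
def Dk : Matrix (Fin 3) (Fin 3) K := !![⟨1, 0⟩, ⟨0, 0⟩, ⟨0, 0⟩; ⟨0, 0⟩, ⟨0, 1⟩, ⟨0, 0⟩; ⟨0, 0⟩, ⟨0, 0⟩, ⟨4, 4⟩]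

/-- the shift. -/
def Bk (b : K) : Matrix (Fin 3) (Fin 3) K := !![⟨0, 0⟩, ⟨0, 0⟩, b; ⟨1, 0⟩, ⟨0, 0⟩, ⟨0, 0⟩; ⟨0, 0⟩, ⟨1, 0⟩, ⟨0, 0⟩]

/-- `D^i B`. -/
def Fk (i : Fin 3) (b : K) : Matrix (Fin 3) (Fin 3) K := Dk ^ (i : ℕ) * Bk b

/-- the transvection with centre `(1, a, 0)`. -/
def Tk (a c : K) : Matrix (Fin 3) (Fin 3) K :=
  !![1 + c, c * star a, 0; c * a, 1 + c * (a * star a), 0; 0, 0, 1]

/-- the word. -/
def Wd (b : K) (C₁ m C₂ : Matrix (Fin 3) (Fin 3) K) (i j : Fin 3) (a c : K) : Prop :=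
  Uni C₁ ∧ Uni m ∧ Uni C₂ ∧ C₁ * Fk i b = Fk i b * C₁ ∧ m * Dk = Dk * m ∧ C₂ * Fk j b = Fk j b * C₂ ∧
    (C₁ * m * C₂) * (C₁ * m * C₂) = Tk a c ∧ nm a = -1 ∧ c + star c = 0 ∧ c ≠ 0

instance (b : K) (C₁ m C₂ : Matrix (Fin 3) (Fin 3) K) (i j : Fin 3) (a c : K) : Decidable (Wd b C₁ m C₂ i j a c) := by
  unfold Wd; infer_instance

theorem wd0 : Wd ⟨1, 0⟩ !![⟨4, 0⟩, ⟨2, 2⟩, ⟨4, 0⟩; ⟨0, 4⟩, ⟨4, 0⟩, ⟨0, 3⟩; ⟨3, 0⟩, ⟨1, 1⟩, ⟨4, 0⟩]
    !![⟨4, 0⟩, ⟨0, 0⟩, ⟨0, 0⟩; ⟨0, 0⟩, ⟨4, 0⟩, ⟨0, 0⟩; ⟨0, 0⟩, ⟨0, 0⟩, ⟨1, 0⟩]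
    !![⟨4, 0⟩, ⟨1, 1⟩, ⟨0, 3⟩; ⟨0, 3⟩, ⟨4, 0⟩, ⟨1, 1⟩; ⟨1, 1⟩, ⟨0, 3⟩, ⟨4, 0⟩] 1 0 ⟨0, 2⟩ ⟨1, 2⟩ := by
  decide +kernel

theorem wd1 : Wd ⟨4, 0⟩ !![⟨0, 4⟩, ⟨1, 0⟩, ⟨0, 3⟩; ⟨3, 3⟩, ⟨0, 4⟩, ⟨4, 4⟩; ⟨0, 4⟩, ⟨2, 0⟩, ⟨0, 4⟩]
    !![⟨1, 1⟩, ⟨0, 0⟩, ⟨0, 0⟩; ⟨0, 0⟩, ⟨1, 1⟩, ⟨0, 0⟩; ⟨0, 0⟩, ⟨0, 0⟩, ⟨4, 4⟩]
    !![⟨4, 0⟩, ⟨3, 3⟩, ⟨0, 4⟩; ⟨0, 1⟩, ⟨4, 0⟩, ⟨3, 3⟩; ⟨2, 2⟩, ⟨0, 1⟩, ⟨4, 0⟩] 1 0 ⟨0, 2⟩ ⟨4, 3⟩ := by
  decide +kernel

theorem wd2 : Wd ⟨0, 1⟩ !![⟨1, 4⟩, ⟨2, 4⟩, ⟨1, 1⟩; ⟨4, 0⟩, ⟨1, 4⟩, ⟨1, 3⟩; ⟨1, 3⟩, ⟨1, 1⟩, ⟨1, 4⟩]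
    !![⟨0, 4⟩, ⟨0, 0⟩, ⟨0, 0⟩; ⟨0, 0⟩, ⟨4, 4⟩, ⟨0, 0⟩; ⟨0, 0⟩, ⟨0, 0⟩, ⟨4, 0⟩]
    !![⟨4, 3⟩, ⟨1, 1⟩, ⟨3, 1⟩; ⟨3, 2⟩, ⟨4, 3⟩, ⟨1, 1⟩; ⟨0, 4⟩, ⟨3, 2⟩, ⟨4, 3⟩] 2 0 ⟨2, 2⟩ ⟨3, 1⟩ := by
  decide +kernel

theorem wd3 : Wd ⟨0, 4⟩ !![⟨1, 4⟩, ⟨3, 2⟩, ⟨0, 4⟩; ⟨0, 1⟩, ⟨1, 4⟩, ⟨4, 2⟩; ⟨2, 3⟩, ⟨4, 4⟩, ⟨1, 4⟩]
    !![⟨0, 4⟩, ⟨0, 0⟩, ⟨0, 0⟩; ⟨0, 0⟩, ⟨1, 0⟩, ⟨0, 0⟩; ⟨0, 0⟩, ⟨0, 0⟩, ⟨1, 1⟩]
    !![⟨4, 3⟩, ⟨0, 1⟩, ⟨4, 2⟩; ⟨2, 4⟩, ⟨4, 3⟩, ⟨0, 1⟩; ⟨4, 0⟩, ⟨2, 4⟩, ⟨4, 3⟩] 1 0 ⟨2, 0⟩ ⟨2, 4⟩ := by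
  decide +kernel

theorem wd4 : Wd ⟨4, 4⟩ !![⟨1, 4⟩, ⟨0, 4⟩, ⟨1, 3⟩; ⟨2, 3⟩, ⟨1, 4⟩, ⟨0, 4⟩; ⟨1, 1⟩, ⟨2, 3⟩, ⟨1, 4⟩]
    !![⟨4, 4⟩, ⟨0, 0⟩, ⟨0, 0⟩; ⟨0, 0⟩, ⟨4, 0⟩, ⟨0, 0⟩; ⟨0, 0⟩, ⟨0, 0⟩, ⟨0, 4⟩]
    !![⟨2, 1⟩, ⟨4, 2⟩, ⟨1, 1⟩; ⟨1, 1⟩, ⟨2, 1⟩, ⟨3, 2⟩; ⟨4, 2⟩, ⟨0, 4⟩, ⟨2, 1⟩] 0 2 ⟨2, 0⟩ ⟨3, 1⟩ := by
  decide +kernel

theorem wd5 : Wd ⟨1, 1⟩ !![⟨1, 4⟩, ⟨0, 1⟩, ⟨1, 3⟩; ⟨3, 2⟩, ⟨1, 4⟩, ⟨0, 1⟩; ⟨1, 1⟩, ⟨3, 2⟩, ⟨1, 4⟩]
    !![⟨4, 4⟩, ⟨0, 0⟩, ⟨0, 0⟩; ⟨0, 0⟩, ⟨4, 0⟩, ⟨0, 0⟩; ⟨0, 0⟩, ⟨0, 0⟩, ⟨0, 4⟩]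
    !![⟨2, 1⟩, ⟨1, 3⟩, ⟨1, 1⟩; ⟨4, 4⟩, ⟨2, 1⟩, ⟨2, 3⟩; ⟨4, 2⟩, ⟨0, 1⟩, ⟨2, 1⟩] 0 2 ⟨3, 0⟩ ⟨3, 1⟩ := by
  decide +kernel

theorem exists_wd {b : K} (hb : b = ⟨1, 0⟩ ∨ b = ⟨4, 0⟩ ∨ b = ⟨0, 1⟩ ∨ b = ⟨0, 4⟩ ∨ b = ⟨4, 4⟩ ∨ b = ⟨1, 1⟩) :
    ∃ C₁ m C₂ i j a c, Wd b C₁ m C₂ i j a c := by
  rcases hb with rfl | rfl | rfl | rfl | rfl | rfl
  · exact ⟨_, _, _, _, _, _, _, wd0⟩
  · exact ⟨_, _, _, _, _, _, _, wd1⟩
  · exact ⟨_, _, _, _, _, _, _, wd2⟩
  · exact ⟨_, _, _, _, _, _, _, wd3⟩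
  · exact ⟨_, _, _, _, _, _, _, wd4⟩
  · exact ⟨_, _, _, _, _, _, _, wd5⟩

/-- `diag(1, t, t̄)`. -/
def Tt (t : K) : Matrix (Fin 3) (Fin 3) K := !![⟨1, 0⟩, ⟨0, 0⟩, ⟨0, 0⟩; ⟨0, 0⟩, t, ⟨0, 0⟩; ⟨0, 0⟩, ⟨0, 0⟩, star t]

theorem tt_uni (t : K) (ht : nm t = 1) : Uni (Tt t) ∧ Tt t * Dk = Dk * Tt t := by
  obtain ⟨a, b⟩ := t
  revert a b
  decide +kernel

theorem fk_entry (i : Fin 3) (b : K) : Fk i b 1 0 = ⟨0, 1⟩ ^ (i : ℕ) := by
  obtain ⟨x, y⟩ := b
  revert i x y
  decide +kernel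

theorem exists_mul (c d : K) (hc : c ≠ 0) (h1 : c + star c = 0) (h2 : d + star d = 0) : ∃ n : Fin 5, d = (n : ℕ) • c := by
  obtain ⟨c1, c2⟩ := c
  obtain ⟨d1, d2⟩ := d
  revert c1 c2 d1 d2
  decide +kernel

theorem exists_t (a a₀ : K) (h1 : nm a = -1) (h2 : nm a₀ = -1) : nm (-(a * star a₀)) = 1 ∧ -(a * star a₀) * a₀ = a := by
  obtain ⟨c1, c2⟩ := a
  obtain ⟨d1, d2⟩ := a₀
  revert c1 c2 d1 d2
  decide +kernel

theorem six (b : K) (h : b ^ 6 = 1) :
    b = ⟨1, 0⟩ ∨ b = ⟨4, 0⟩ ∨ b = ⟨0, 1⟩ ∨ b = ⟨0, 4⟩ ∨ b = ⟨4, 4⟩ ∨ b = ⟨1, 1⟩ := by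
  have h1 : b * b * b * b * b * b = 1 := by rw [← h]; ring
  clear h
  obtain ⟨c1, c2⟩ := b
  revert c1 c2
  decide +kernel

theorem bk_uni (b : K) (h : nm b = 1) : (Bk b)ᵀ * (Bk b).map star = 1 := by
  obtain ⟨c1, c2⟩ := b
  revert c1 c2
  decide +kernel

/-- isotropic vectors `(1, y, z)` on hyperbolic lines. -/
theorem exists_line (y z : K) (hy : y ≠ 0) (hz : z ≠ 0) (h : 1 + nm y + nm z = 0) :
    (∃ p q : ZMod 5, nm ⟨p, q⟩ = -1 ∧ nm (y - ⟨p, q⟩) = - nm z) ∨
      (∃ p q : ZMod 5, nm ⟨p, q⟩ = -1 ∧ nm (z - ⟨p, q⟩ * y) = -1) ∨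
      (∃ p q : ZMod 5, nm ⟨p, q⟩ = -1 ∧ nm (1 - ⟨p, q⟩ * z) = - nm y) := by
  obtain ⟨y1, y2⟩ := y
  obtain ⟨z1, z2⟩ := z
  revert y1 y2 z1 z2
  decide +kernel

end Cfsg.Agent.H973.KerSU
end

-- part: H973/KerSU/Main
section
/-!
# The centralisers of the Heisenberg group generate `SU₃(5)`

`su35`: the elements of `SU₃(5)` which centralise a non-scalar element of the Heisenberg group `Hs 3 ζ β` generate
`SU₃(5)` (`su35g`: the same for centralisers modulo scalars): an explicit word is a transvection with centre `(1, a, 0)`, and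
by the diagonal matrices, the shift (which normalises) and hyperbolic lines all isotropic vectors are centres.
-/

set_option autoImplicit false
set_option linter.unusedSectionVars false

namespace Cfsg.Agent.H973.KerSU

open Cfsg Cfsg.Geo Cfsg.Agent.H321.Ker Cfsg.Agent.H876
open Cfsg.Agent.LieClassical.HermBasic (conj conj_apply)
open scoped Matrix MatrixGroups

variable {F : Type*} [Field F]

variable [Fintype F] [CharP F 5]

/-- elements of `M` from the model. -/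
theorem key (hF : Fintype.card F = 5 ^ 2) {ζ β : Fˣ} (h : (ζ : F) * ζ + ζ + 1 = 0) {φ : K →+* F}
    (hφ : ∀ x : K, φ x = (x.re.cast : F) + (x.im.cast : F) * ζ) {A f : Matrix (Fin 3) (Fin 3) K} (hA : Uni A)
    (hc : A * f = f * A) {g₀ : GL (Fin 3) F} (hg₀ : (g₀ : Matrix (Fin 3) (Fin 3) F) = f.map φ)
    (hH : g₀ ∈ Hs 3 ζ β) (hs : g₀ ∉ scalars (Fin 3) F) :
    ∃ g ∈ Mc (Cfsg.GU 3 F 5 ⊓ Cfsg.Geo.specialLinear (Fin 3) F) (Hs 3 ζ β), (g : Matrix (Fin 3) (Fin 3) F) = A.map φ := by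
  have hdet : (A.map φ).det = 1 := by
    rw [← RingHom.mapMatrix_apply, ← RingHom.map_det, hA.det, map_one]
  let g : GL (Fin 3) F := Matrix.GeneralLinearGroup.mk'' (A.map φ) (by rw [hdet]; exact isUnit_one)
  have hg : (g : Matrix (Fin 3) (Fin 3) F) = A.map φ := rfl
  refine ⟨g, mem_Mc (f := g₀) (Subgroup.mem_inf.2 ⟨?_, ?_⟩) hH hs ?_, hg⟩
  · rw [Cfsg.Agent.ClassicalGeometry.HermParabolic.mem_GU_iff_matrix hF, hg]
    have h1 : (A.map φ).map (conj hF) = (A.map star).map φ := by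
      ext i j
      simp only [Matrix.map_apply]
      rw [conj_apply, ← phi_star h hφ]
    rw [h1, ← Matrix.transpose_map, ← Matrix.map_mul, hA.1, Matrix.map_one φ (map_zero φ) (map_one φ)]
  · rw [Cfsg.Agent.H918.mem_specialLinear, hg, hdet]
  · apply Units.ext
    rw [Units.val_mul, Units.val_mul, hg, hg₀, ← Matrix.map_mul, ← Matrix.map_mul, hc]

/-- `InS` is invariant under the normaliser. -/
theorem inS_conj {M : Subgroup (GL (Fin 3) F)} {x : GL (Fin 3) F} (hx : x ∈ GU 3 F 5) (hM : ∀ t ∈ M, x * t * x⁻¹ ∈ M)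
    {v : Fin 3 → F} (h : InS 5 M v) : InS 5 M ((x : Matrix (Fin 3) (Fin 3) F) *ᵥ v) := by
  refine ⟨by rw [herm_gl hx, h.1], fun c hc t ht => ?_⟩
  have h1 : x⁻¹ * t * x ∈ M := by
    refine h.2 c hc _ fun y => ?_
    rw [mul_mulVec, mul_mulVec, ht, Matrix.mulVec_add, inv_mulVec_cancel, Matrix.mulVec_smul,
      inv_mulVec_cancel, herm_gl hx]
  have h2 := hM _ h1
  have h3 : x * (x⁻¹ * t * x) * x⁻¹ = t := by group
  rwa [h3] at h2

section Rot

variable (hF : Fintype.card F = 5 ^ 2) {M : Subgroup (GL (Fin 3) F)} {β : F} (hβ : β * β ^ 5 = 1)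
  (hr : ∀ x y z : F, InS 5 M ![x, y, z] → InS 5 M ![β * z, x, y])

variable (hb : ∀ a : F, a * a ^ 5 = -1 → InS 5 M ![1, a, 0])

include hF hβ hr hb

/-- the hyperbolic line of `(1, a, 0)` and `(0, 1, b)`. -/
theorem line {x y z a : F} (hz : z ≠ 0) (ha : a * a ^ 5 = -1) (h : (y - a * x) * (y - a * x) ^ 5 = -(z * z ^ 5))
    (h0 : x * x ^ 5 + y * y ^ 5 + z * z ^ 5 = 0) : InS 5 M ![x, y, z] := by
  have h1 := hb a ha
  have hzz : z * z ^ 5 ≠ 0 := mul_ne_zero hz (pow_ne_zero _ hz)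
  have hw : y - a * x ≠ 0 := by
    intro hw
    rw [hw, zero_mul] at h
    exact hzz (by linear_combination h)
  have h2 : InS 5 M ![0, 1, z / (y - a * x)] := by
    have h2 := hr 1 (z / (y - a * x)) 0 (hb _ (by rw [div_pow, div_mul_div_comm, h, div_neg, div_self hzz]))
    rwa [mul_zero] at h2
  have h4 : x • ![1, a, 0] + (y - a * x) • ![0, 1, z / (y - a * x)] = ![x, y, z] := by
    ext i
    fin_cases i
    · simp
    · simp; ring
    · simp; field_simp
  rw [← h4]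
  refine InS.line hF h1 h2 ?_ x (y - a * x) ?_
  · rw [Cfsg.Agent.LieClassical.HermBasic.herm_def, Fin.sum_univ_three]
    simp
    rintro rfl
    simp at ha
  · rw [h4, Cfsg.Agent.LieClassical.HermBasic.herm_def, Fin.sum_univ_three]
    simpa only [_root_.Nat.succ_eq_add_one, _root_.Nat.reduceAdd, _root_.Fin.isValue, _root_.Matrix.cons_val_zero, _root_.Matrix.cons_val_one, _root_.Matrix.cons_val] using h0

/-- all isotropic vectors `(1, y, z)`. -/
theorem line1 {ζ : F} (h : ζ * ζ + ζ + 1 = 0) {φ : K →+* F}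
    (hφ : ∀ x : K, φ x = (x.re.cast : F) + (x.im.cast : F) * ζ) {y z : F} (h0 : 1 + y * y ^ 5 + z * z ^ 5 = 0) :
    InS 5 M ![1, y, z] := by
  by_cases hz : z = 0
  · subst hz
    apply hb
    linear_combination h0
  by_cases hy : y = 0
  · subst hy
    have h1 : InS 5 M ![1 / z, 0, 1] := by
      have hzz : z * z ^ 5 = -1 := by linear_combination h0
      have h2 := hr _ _ _ (hr 1 (1 / (β * z)) 0 (hb _ (by
        rw [div_pow, div_mul_div_comm, mul_pow, mul_mul_mul_comm, hzz, hβ, one_pow, one_mul, one_mul, div_neg, div_one])))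
      have hβ0 : β ≠ 0 := by rintro rfl; simp at hβ
      have h3 : β * (1 / (β * z)) = 1 / z := by field_simp
      rwa [mul_zero, h3] at h2
    have h2 := InS.smul hF h1 z
    have h3 : z • ![1 / z, 0, 1] = ![1, 0, z] := by
      ext i
      fin_cases i
      · simp [hz]
      · simp
      · simp
    rwa [h3] at h2
  have hβ0 : β ≠ 0 := by rintro rfl; simp at hβ
  have hβi : β⁻¹ * β⁻¹ ^ 5 = 1 := by rw [inv_pow, ← mul_inv, hβ, inv_one]
  have hnm : ∀ x : K, φ x * (φ x) ^ 5 = (ZMod.castHom (dvd_refl 5) F) (nm x) := by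
    intro x
    rw [← phi_star h hφ, ← map_mul, mul_star, hφ]
    simp
  obtain ⟨y, rfl⟩ := phi_surjective hF φ y
  obtain ⟨z, rfl⟩ := phi_surjective hF φ z
  have h1 : 1 + nm y + nm z = 0 := by
    have : Fact (Nat.Prime 5) := ⟨by norm_num⟩
    apply (ZMod.castHom (dvd_refl 5) F).injective
    rw [map_zero, map_add, map_add, map_one, ← hnm, ← hnm, h0]
  have hy' : y ≠ 0 := fun e => hy (by rw [e, map_zero])
  have hz' : z ≠ 0 := fun e => hz (by rw [e, map_zero])
  rcases exists_line y z hy' hz' h1 with ⟨p, q, h2, h3⟩ | ⟨p, q, h2, h3⟩ | ⟨p, q, h2, h3⟩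
  · refine line hF hβ hr hb (a := φ ⟨p, q⟩) hz ?_ ?_ (by rw [one_pow, one_mul]; exact h0)
    · rw [hnm, h2, map_neg, map_one]
    · rw [mul_one, ← map_sub, hnm, h3, map_neg, hnm]
  · have h4 : InS 5 M ![φ y, φ z, β⁻¹] := by
      refine line hF hβ hr hb (a := φ ⟨p, q⟩) (inv_ne_zero hβ0) ?_ ?_ ?_
      · rw [hnm, h2, map_neg, map_one]
      · rw [← map_mul, ← map_sub, hnm, h3, map_neg, map_one, hβi]
      · rw [hβi, ← h0]; ring
    have h5 := hr _ _ _ h4
    rwa [mul_inv_cancel₀ hβ0] at h5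
  · have h4 : InS 5 M ![φ z, β⁻¹, β⁻¹ * φ y] := by
      refine line hF hβ hr hb (a := β⁻¹ * φ ⟨p, q⟩) (mul_ne_zero (inv_ne_zero hβ0) hy) ?_ ?_ ?_
      · rw [mul_pow, mul_mul_mul_comm, hβi, hnm, h2, map_neg, map_one, one_mul]
      · have e : β⁻¹ - β⁻¹ * φ ⟨p, q⟩ * φ z = β⁻¹ * φ (1 - ⟨p, q⟩ * z) := by
          rw [map_sub, map_mul, map_one]; ring
        rw [e, mul_pow, mul_mul_mul_comm, hβi, mul_pow, mul_mul_mul_comm, hβi, hnm, h3, map_neg, one_mul, one_mul, hnm]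
      · rw [mul_pow β⁻¹, mul_mul_mul_comm β⁻¹, hβi, ← h0]; ring
    have h5 := hr _ _ _ (hr _ _ _ h4)
    rwa [← mul_assoc, mul_inv_cancel₀ hβ0, one_mul] at h5

/-- all isotropic vectors. -/
theorem all_iso {ζ : F} (h : ζ * ζ + ζ + 1 = 0) {φ : K →+* F}
    (hφ : ∀ x : K, φ x = (x.re.cast : F) + (x.im.cast : F) * ζ) (v : Fin 3 → F) (hv : hermForm 3 F 5 v v = 0) :
    InS 5 M v := by
  obtain ⟨x, y, z, rfl⟩ : ∃ x y z, v = ![x, y, z] := ⟨v 0, v 1, v 2, by ext i; fin_cases i <;> rfl⟩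
  rw [Cfsg.Agent.LieClassical.HermBasic.herm_def, Fin.sum_univ_three] at hv
  change x * x ^ 5 + y * y ^ 5 + z * z ^ 5 = 0 at hv
  by_cases hx : x = 0
  · subst hx
    by_cases hy : y = 0
    · subst hy
      have hz : z = 0 := by
        have : z ^ 6 = 0 := by linear_combination hv
        exact pow_eq_zero_iff (by norm_num) |>.1 this
      subst hz
      obtain ⟨a, ha⟩ : ∃ a : F, a * a ^ 5 = -1 := by
        obtain ⟨a, -, ha⟩ := Cfsg.Agent.LieClassical.HermBasic.exists_norm_eq_ne hF (c := (-1 : F)) (by ring) (by simp)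
        exact ⟨a, ha⟩
      have h1 := InS.smul hF (hb a ha) 0
      rw [zero_smul] at h1
      convert h1 using 1
      ext i
      fin_cases i <;> rfl
    · have h1 : InS 5 M ![0, 1, z / y] := by
        have h2 : z * z ^ 5 = - (y * y ^ 5) := by linear_combination hv
        have h3 := hr 1 (z / y) 0 (hb _ (by
          rw [div_pow, div_mul_div_comm, h2, neg_div, div_self (mul_ne_zero hy (pow_ne_zero _ hy))]))
        rwa [mul_zero] at h3
      have h2 := InS.smul hF h1 y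
      have h3 : y • ![0, 1, z / y] = ![0, y, z] := by
        ext i
        fin_cases i
        · simp
        · simp
        · simp; field_simp
      rwa [h3] at h2
  · have h1 : InS 5 M ![1, y / x, z / x] := by
      apply line1 hF hβ hr hb h hφ
      field_simp
      linear_combination hv
    have h2 := InS.smul hF h1 x
    have h3 : x • ![1, y / x, z / x] = ![x, y, z] := by
      ext i
      fin_cases i
      · simp
      · simp; field_simp
      · simp; field_simp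
    rwa [h3] at h2

end Rot

section Final

theorem map_Dk {ζ : Fˣ} (h : (ζ : F) * ζ + ζ + 1 = 0) {φ : K →+* F}
    (hφ : ∀ x : K, φ x = (x.re.cast : F) + (x.im.cast : F) * ζ) :
    (Dm 3 ζ : Matrix (Fin 3) (Fin 3) F) = Dk.map φ := by
  have h5 : (5 : F) = 0 := by exact_mod_cast CharP.cast_eq_zero F 5
  have h4 : (ZMod.cast (4 : ZMod 5) : F) = 4 := by
    have := map_ofNat (ZMod.castHom (dvd_refl 5) F) 4
    exact this
  ext i j
  (revert i j; simp only [Dm, Dk, hφ, Matrix.map_apply, h4, _root_.Fin.forall_fin_succ, _root_.Units.val_pow_eq_pow_val, _root_.Units.val_inv_eq_inv_val, _root_.Matrix.of_apply, _root_.Matrix.cons_val', _root_.Matrix.cons_val_fin_one, Fin.isValue, _root_.Matrix.cons_val_zero, _root_.Matrix.cons_val_succ, _root_.Fin.succ_zero_eq_one, _root_.Fin.succ_one_eq_two, _root_.IsEmpty.forall_iff, _root_.Matrix.diagonal_apply_eq, _root_.Fin.coe_ofNat_eq_mod, _root_.Nat.zero_mod, _root_.pow_zero, _root_.dvd_refl,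 _root_.ZMod.cast_one, _root_.ZMod.cast_zero, _root_.MulZeroClass.zero_mul, _root_.add_zero, _root_.ne_eq, _root_.zero_ne_one, _root_.not_false_eq_true, _root_.Matrix.diagonal_apply_ne, Fin.reduceEq, _root_.Fin.succ_ne_zero, _root_.Nat.one_mod, _root_.pow_one, _root_.one_mul, _root_.zero_add, _root_.Nat.mod_succ, _root_.and_true, _root_.true_and]) <;> (repeat' with_reducible apply And.intro)
  linear_combination h - h5 * (1 + ζ)

theorem map_Fk {ζ β : Fˣ} (h : (ζ : F) * ζ + ζ + 1 = 0) {φ : K →+* F}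
    (hφ : ∀ x : K, φ x = (x.re.cast : F) + (x.im.cast : F) * ζ) {b : K} (hβ : φ b = β) (i : Fin 3) :
    ((Dm 3 ζ ^ (i : ℕ) * Bm 3 β : GL (Fin 3) F) : Matrix (Fin 3) (Fin 3) F) = (Fk i b).map φ := by
  have hB : (Bm 3 β : Matrix (Fin 3) (Fin 3) F) = (Bk b).map φ := by
    ext i j
    (revert i j; simp only [Bm, Bk, hφ, Matrix.map_apply, _root_.Fin.forall_fin_succ, Fin.isValue, _root_.Units.val_inv_eq_inv_val, _root_.Matrix.of_apply, _root_.Matrix.cons_val', _root_.Matrix.cons_val_fin_one, _root_.zero_add, _root_.Matrix.cons_val_zero, _root_.Matrix.cons_val_succ, _root_.Fin.succ_zero_eq_one, Fin.reduceAdd, _root_.Fin.succ_one_eq_two, _root_.IsEmpty.forall_iff, _root_.zero_ne_one, ↓reduceIte, _root_.ZMod.cast_zero, _root_.MulZeroClass.zero_mul, _root_.add_zero, Fin.reduceEq, _root_.Fin.succ_ne_zero, _root_.dvd_refl, _root_.ZMod.cast_one, _root_.ite_eq_right_iff, _root_.one_ne_zero, _root_.imp_false, _root_.ite_eq_left_iff, _root_.Decidable.not_not,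 _root_.not_false_eq_true, _root_.and_true, _root_.true_and]) <;> (repeat' with_reducible apply And.intro)
    rw [← hβ, hφ]
  rw [Units.val_mul, Units.val_pow_eq_pow_val, map_Dk h hφ, hB, Fk, Matrix.map_mul]
  congr 1
  exact (map_pow φ.mapMatrix Dk _).symm

theorem not_scalar_Dm {ζ : Fˣ} (hζ1 : ζ ≠ 1) : Dm 3 ζ ∉ scalars (Fin 3) F := by
  rw [mem_scalars_iff]
  rintro ⟨c, hc⟩
  have h1 := congrFun (congrFun hc 0) 0
  have h2 := congrFun (congrFun hc 1) 1
  simp [Dm] at h1 h2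
  apply hζ1
  ext
  rw [Units.val_one, h2, ← h1]

theorem not_scalar_Fk {g : GL (Fin 3) F} {φ : K →+* F} {b : K} {i : Fin 3}
    (hg : (g : Matrix (Fin 3) (Fin 3) F) = (Fk i b).map φ) : g ∉ scalars (Fin 3) F := by
  rw [mem_scalars_iff]
  rintro ⟨c, hc⟩
  rw [hg] at hc
  have h1 := congrFun (congrFun hc 1) 0
  rw [Matrix.map_apply, fk_entry] at h1
  simp only [_root_.map_pow, _root_.Fin.isValue, _root_.Matrix.smul_apply, _root_.ne_eq, _root_.one_ne_zero, _root_.not_false_eq_true, _root_.Matrix.one_apply_ne, _root_.smul_eq_mul, _root_.MulZeroClass.mul_zero, _root_.pow_eq_zero_iff', _root_.Fin.val_eq_zero_iff] at h1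
  have h2 : (⟨0, 1⟩ : K) * ⟨4, 4⟩ = 1 := by decide
  have h3 := congrArg φ h2
  rw [map_mul, h1.1, zero_mul, map_one] at h3
  exact zero_ne_one h3

theorem Fk_mem {ζ β : Fˣ} (i : Fin 3) : Dm 3 ζ ^ (i : ℕ) * Bm 3 β ∈ Hs 3 ζ β :=
  mul_mem (pow_mem (Dm_mem ζ β) _) (Bm_mem ζ β)

/-- the base: centres `(1, a, 0)`. -/
theorem base (hF : Fintype.card F = 5 ^ 2) {ζ β : Fˣ} (h : (ζ : F) * ζ + ζ + 1 = 0) (hζ1 : ζ ≠ 1) {φ : K →+* F}
    (hφ : ∀ x : K, φ x = (x.re.cast : F) + (x.im.cast : F) * ζ) {b : K} (hβ : φ b = β)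
    (hb : b = ⟨1, 0⟩ ∨ b = ⟨4, 0⟩ ∨ b = ⟨0, 1⟩ ∨ b = ⟨0, 4⟩ ∨ b = ⟨4, 4⟩ ∨ b = ⟨1, 1⟩) {a : F} (ha : a * a ^ 5 = -1) :
    InS 5 (Mc (Cfsg.GU 3 F 5 ⊓ Cfsg.Geo.specialLinear (Fin 3) F) (Hs 3 ζ β)) ![1, a, 0] := by
  set M := Mc (Cfsg.GU 3 F 5 ⊓ Cfsg.Geo.specialLinear (Fin 3) F) (Hs 3 ζ β) with hM
  have hMG : M ≤ Cfsg.GU 3 F 5 := (Mc_le _ _).trans inf_le_left
  have hnm : ∀ x : K, φ x * (φ x) ^ 5 = (ZMod.castHom (dvd_refl 5) F) (nm x) := by
    intro x
    rw [← phi_star h hφ, ← map_mul, mul_star, hφ]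
    simp
  obtain ⟨C₁, m, C₂, i, j, a₀, c, u1, um, u2, e1, em, e2, hw, hna, hc, hc0⟩ := exists_wd hb
  obtain ⟨g1, hg1, v1⟩ := key hF h hφ u1 e1 (map_Fk h hφ hβ i) (Fk_mem i)
    (not_scalar_Fk (map_Fk h hφ hβ i))
  obtain ⟨gm, hgm, vm⟩ := key hF h hφ um em (map_Dk h hφ) (Dm_mem ζ β)
    (not_scalar_Dm hζ1)
  obtain ⟨g2, hg2, v2⟩ := key hF h hφ u2 e2 (map_Fk h hφ hβ j) (Fk_mem j)
    (not_scalar_Fk (map_Fk h hφ hβ j))
  -- the transvection
  set τ : GL (Fin 3) F := (g1 * gm * g2) * (g1 * gm * g2) with hτ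
  have hτM : τ ∈ M := mul_mem (mul_mem (mul_mem hg1 hgm) hg2) (mul_mem (mul_mem hg1 hgm) hg2)
  have hτv : (τ : Matrix (Fin 3) (Fin 3) F) = (Tk a₀ c).map φ := by
    rw [hτ, ← hw]
    simp only [Units.val_mul, v1, vm, v2, Matrix.map_mul]
  have hτx : ∀ x : Fin 3 → F, (τ : Matrix (Fin 3) (Fin 3) F) *ᵥ x =
      x + (φ c * hermForm 3 F 5 x ![1, φ a₀, 0]) • ![1, φ a₀, 0] := by
    intro x
    rw [hτv, Cfsg.Agent.LieClassical.HermBasic.herm_def, Fin.sum_univ_three]
    ext k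
    (revert k; simp only [Tk, Matrix.mulVec, dotProduct, Fin.sum_univ_three, phi_star h hφ, Matrix.map_apply, _root_.Fin.forall_fin_succ, _root_.Matrix.of_apply, _root_.Matrix.cons_val', _root_.Matrix.cons_val_fin_one, Fin.isValue, _root_.Matrix.cons_val_zero, _root_.Matrix.cons_val_one, _root_.Matrix.cons_val, _root_.Nat.succ_eq_add_one, Nat.reduceAdd, _root_.one_pow, _root_.mul_one, _root_.ne_eq, _root_.OfNat.ofNat_ne_zero, _root_.not_false_eq_true, _root_.zero_pow, _root_.MulZeroClass.mul_zero, _root_.add_zero, _root_.Matrix.smul_cons, _root_.smul_eq_mul, _root_.Matrix.smul_empty, _root_.Pi.add_apply, _root_.map_add, _root_.map_one, _root_.map_mul, _root_.map_zero, _root_.MulZeroClass.zero_mul, _root_.Matrix.cons_val_succ, _root_.Fin.succ_zero_eq_one, _root_.one_mul, _root_.zero_add, _root_.Fin.succ_one_eq_two, _root_.IsEmpty.forall_iff, _root_.and_self, _root_.and_true]) <;> (repeat' with_reducible apply And.intro) <;> ring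
  have hvv : hermForm 3 F 5 ![1, φ a₀, 0] ![1, φ a₀, 0] = 0 := by
    rw [Cfsg.Agent.LieClassical.HermBasic.herm_def, Fin.sum_univ_three]
    have := hnm a₀
    rw [hna, map_neg, map_one] at this
    simp only [_root_.Fin.isValue, _root_.Matrix.cons_val_zero, _root_.one_pow, _root_.mul_one, _root_.Matrix.cons_val_one, _root_.Matrix.cons_val, _root_.ne_eq, _root_.OfNat.ofNat_ne_zero, _root_.not_false_eq_true, _root_.zero_pow, _root_.MulZeroClass.mul_zero, _root_.add_zero]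
    linear_combination this
  have hτn : ∀ (n : ℕ) (x : Fin 3 → F), ((τ ^ n : GL (Fin 3) F) : Matrix (Fin 3) (Fin 3) F) *ᵥ x =
      x + ((n : F) * (φ c * hermForm 3 F 5 x ![1, φ a₀, 0])) • ![1, φ a₀, 0] := by
    intro n x
    induction n with
    | zero => simp
    | succ n ih =>
      rw [pow_succ', mul_mulVec, ih, hτx, Cfsg.Agent.LieClassical.HermBasic.herm_add_left,
        Cfsg.Agent.LieClassical.HermBasic.herm_smul_left, hvv, mul_zero, add_zero, add_assoc, ← add_smul]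
      congr 2
      push_cast
      ring
  have hbase : InS 5 M ![1, φ a₀, 0] := by
    refine ⟨hvv, ?_⟩
    intro d hd g hg
    obtain ⟨d, rfl⟩ := phi_surjective hF φ d
    rw [← phi_star h hφ, ← map_add] at hd
    obtain ⟨n, rfl⟩ := exists_mul c d hc0 hc (phi_injective φ (by rw [hd, map_zero]))
    have h1 : g = τ ^ (n : ℕ) := by
      apply gl_ext
      intro x
      rw [hg, hτn, nsmul_eq_mul, map_mul, map_natCast, mul_assoc]
    rw [h1]
    exact pow_mem hτM _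
  obtain ⟨a, rfl⟩ := phi_surjective hF φ a
  have hna' : nm a = -1 := by
    have : Fact (Nat.Prime 5) := ⟨by norm_num⟩
    apply (ZMod.castHom (dvd_refl 5) F).injective
    rw [← hnm, ha, map_neg, map_one]
  obtain ⟨ht1, ht2⟩ := exists_t a a₀ hna' hna
  obtain ⟨ut, et⟩ := tt_uni _ ht1
  obtain ⟨g, hg, hv⟩ := key hF h hφ ut et (map_Dk h hφ) (Dm_mem ζ β)
    (not_scalar_Dm hζ1)
  have h1 := InS.map hg (hMG hg) hbase
  have h2 : (g : Matrix (Fin 3) (Fin 3) F) *ᵥ ![1, φ a₀, 0] = ![1, φ a, 0] := by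
    rw [hv]
    ext k
    fin_cases k
    · simp only [Tt, Matrix.mulVec, dotProduct, Fin.sum_univ_three, Matrix.map_apply, hφ, _root_.star_neg, _root_.star_mul', _root_.star_star, _root_.Fin.zero_eta, _root_.Fin.isValue, _root_.Matrix.of_apply, _root_.Matrix.cons_val', _root_.Matrix.cons_val_fin_one, _root_.Matrix.cons_val_zero, _root_.dvd_refl, _root_.ZMod.cast_one, _root_.ZMod.cast_zero, _root_.MulZeroClass.zero_mul, _root_.add_zero, _root_.mul_one, _root_.Matrix.cons_val_one, _root_.Matrix.cons_val, _root_.MulZeroClass.mul_zero, _root_.Nat.succ_eq_add_one, _root_.Nat.reduceAdd]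
    · have h3 : φ (-(a * star a₀)) * φ a₀ = φ a := by rw [← map_mul, ht2]
      have h4 : φ (⟨0, 0⟩ : K) = 0 := by rw [hφ]; simp
      simp only [Tt, Matrix.mulVec, dotProduct, Fin.sum_univ_three, Matrix.map_apply]
      rw [map_neg, map_mul] at h3
      simp only [h4, _root_.star_neg, _root_.star_mul', _root_.star_star, _root_.Fin.mk_one, _root_.Fin.isValue, _root_.Matrix.of_apply, _root_.Matrix.cons_val', _root_.Matrix.cons_val_zero, _root_.Matrix.cons_val_fin_one, _root_.Matrix.cons_val_one, _root_.mul_one, _root_.map_neg, _root_.map_mul, _root_.neg_mul, _root_.zero_add, _root_.Matrix.cons_val, _root_.MulZeroClass.mul_zero, _root_.add_zero, _root_.Nat.succ_eq_add_one, _root_.Nat.reduceAdd]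
      linear_combination h3
    · simp only [Tt, Matrix.mulVec, dotProduct, Fin.sum_univ_three, Matrix.map_apply, hφ, _root_.star_neg, _root_.star_mul', _root_.star_star, _root_.Fin.reduceFinMk, _root_.Fin.isValue, _root_.Matrix.of_apply, _root_.Matrix.cons_val', _root_.Matrix.cons_val_fin_one, _root_.Matrix.cons_val, _root_.Matrix.cons_val_one, _root_.Matrix.cons_val_zero, _root_.ZMod.cast_zero, _root_.MulZeroClass.zero_mul, _root_.add_zero, _root_.mul_one, _root_.QuadraticAlgebra.re_neg, _root_.QuadraticAlgebra.re_mul, _root_.QuadraticAlgebra.re_star, _root_.neg_mul, _root_.one_mul, _root_.QuadraticAlgebra.im_star, _root_.mul_neg, _root_.neg_neg, _root_.neg_add_rev, _root_.dvd_refl, _root_.ZMod.cast_add, _root_.ZMod.cast_neg, _root_.ZMod.cast_mul, _root_.QuadraticAlgebra.im_neg, _root_.QuadraticAlgebra.im_mul, _root_.MulZeroClass.mul_zero, _root_.Nat.succ_eq_add_one, _root_.Nat.reduceAdd]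
  rwa [h2] at h1

end Final

/-- **SU₃(5)**: generated by the centralisers of the Heisenberg group. -/
theorem su35 {F : Type*} [Field F] [Fintype F] (hF : Fintype.card F = 5 ^ 2) (ζ β : Fˣ) (hζ : ζ ^ 3 = 1)
    (hζ1 : ζ ≠ 1) (hβ : β ^ 6 = 1) :
    Mc (Cfsg.GU 3 F 5 ⊓ Cfsg.Geo.specialLinear (Fin 3) F) (Hs 3 ζ β) =
      Cfsg.GU 3 F 5 ⊓ Cfsg.Geo.specialLinear (Fin 3) F := by
  have h5 : Fact (Nat.Prime 5) := ⟨by norm_num⟩
  have : CharP F 5 := charP_of_card_eq_prime_pow hF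
  have h : (ζ : F) * ζ + ζ + 1 = 0 := by
    apply cube
    · rw [← Units.val_pow_eq_pow_val, hζ, Units.val_one]
    · exact fun e => hζ1 (Units.ext e)
  obtain ⟨φ, hφ⟩ := exists_phi h
  have hnm : ∀ x : K, φ x * (φ x) ^ 5 = (ZMod.castHom (dvd_refl 5) F) (nm x) := by
    intro x
    rw [← phi_star h hφ, ← map_mul, mul_star, hφ]
    simp
  have hβ' : (β : F) ^ 6 = 1 := by rw [← Units.val_pow_eq_pow_val, hβ, Units.val_one]
  have hββ : (β : F) * (β : F) ^ 5 = 1 := by rw [← hβ']; ring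
  obtain ⟨b, hβb⟩ := phi_surjective hF φ (β : F)
  have hb : b = ⟨1, 0⟩ ∨ b = ⟨4, 0⟩ ∨ b = ⟨0, 1⟩ ∨ b = ⟨0, 4⟩ ∨ b = ⟨4, 4⟩ ∨ b = ⟨1, 1⟩ := by
    apply six
    apply phi_injective φ
    rw [map_pow, hβb, hβ', map_one]
  have hnb : nm b = 1 := by
    apply (ZMod.castHom (dvd_refl 5) F).injective
    rw [← hnm, hβb, hββ, map_one]
  set M := Mc (Cfsg.GU 3 F 5 ⊓ Cfsg.Geo.specialLinear (Fin 3) F) (Hs 3 ζ β) with hM
  have hMG : M ≤ Cfsg.GU 3 F 5 := (Mc_le _ _).trans inf_le_left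
  have hBm : (Bm 3 β : Matrix (Fin 3) (Fin 3) F) = (Bk b).map φ := by
    have := map_Fk h hφ hβb 0
    simpa [Fk] using this
  have hB : Bm 3 β ∈ GU 3 F 5 := by
    rw [Cfsg.Agent.ClassicalGeometry.HermParabolic.mem_GU_iff_matrix hF, hBm]
    have h1 : ((Bk b).map φ).map (conj hF) = ((Bk b).map star).map φ := by
      ext i j
      simp only [Matrix.map_apply]
      rw [conj_apply, ← phi_star h hφ]
    rw [h1, ← Matrix.transpose_map, ← Matrix.map_mul, bk_uni b hnb, Matrix.map_one φ (map_zero φ) (map_one φ)]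
  have hconj : ∀ t ∈ M, Bm 3 β * t * (Bm 3 β)⁻¹ ∈ M := fun t ht => by
    refine conj_Mc (fun g hg => ?_) (fun g hg => ?_) ht
    · refine Subgroup.mem_inf.2 ⟨mul_mem (mul_mem hB hg.1) (inv_mem hB), ?_⟩
      exact (MonoidHom.normal_ker _).conj_mem _ hg.2 _
    · exact mul_mem (mul_mem (Bm_mem ζ β) hg) (inv_mem (Bm_mem ζ β))
  have hr : ∀ x y z : F, InS 5 M ![x, y, z] → InS 5 M ![β * z, x, y] := by
    intro x y z hI
    have h1 := inS_conj hB hconj hI
    have h2 : (Bm 3 β : Matrix (Fin 3) (Fin 3) F) *ᵥ ![x, y, z] = ![β * z, x, y] := by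
      rw [hBm]
      ext k
      (revert k; simp only [Bk, Matrix.mulVec, dotProduct, Fin.sum_univ_three, Matrix.map_apply, hφ, _root_.Fin.forall_fin_succ, _root_.Matrix.of_apply, _root_.Matrix.cons_val', _root_.Matrix.cons_val_fin_one, Fin.isValue, _root_.Matrix.cons_val_zero, _root_.Matrix.cons_val_one, _root_.Matrix.cons_val, _root_.Nat.succ_eq_add_one, Nat.reduceAdd, _root_.ZMod.cast_zero, _root_.MulZeroClass.zero_mul, _root_.add_zero, _root_.zero_add, _root_.mul_eq_mul_right_iff, _root_.Matrix.cons_val_succ, _root_.dvd_refl, _root_.ZMod.cast_one, _root_.one_mul, _root_.implies_true, _root_.and_true, _root_.true_and]) <;> (repeat' with_reducible apply And.intro)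
      left
      rw [← hβb, hφ]
    rwa [h2] at h1
  refine le_antisymm (Mc_le _ _) (su_le hF (by norm_num) (by norm_num) fun v hv => ?_)
  exact all_iso hF hββ hr (fun a ha => base hF h hζ1 hφ hβb hb ha) h hφ v hv

end Cfsg.Agent.H973.KerSU
end

-- part: H5/Heis/Abs
section
/-!
# Extraspecial groups of order `p³` and exponent `p` (helper5)

`a b = z b a`, `z` central of order `p`, `a ^ p = b ^ p = 1`, `p` odd: `E k i j = z ^ (k - i j / 2) a ^ i b ^ j`.
-/

set_option autoImplicit false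
set_option linter.unusedSectionVars false

namespace Cfsg.Agent.H5.Heis

variable {G : Type*} [Group G] {p : ℕ} [hp : Fact p.Prime]

/-- power with exponent modulo `p` -/
def pw (x : G) (a : ZMod p) : G := x ^ a.val

theorem pw_zero (x : G) : pw x (0 : ZMod p) = 1 := by rw [pw, ZMod.val_zero, pow_zero]

theorem pw_one (x : G) : pw x (1 : ZMod p) = x := by
  have := Fact.mk hp.1.one_lt
  rw [pw, ZMod.val_one, pow_one]

theorem pw_add {x : G} (hx : x ^ p = 1) (a b : ZMod p) : pw x (a + b) = pw x a * pw x b := by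
  rw [pw, pw, pw, ← pow_add, ZMod.val_add]
  exact (pow_eq_pow_mod _ hx).symm

theorem pw_eq_one {x : G} (hx : x ^ p = 1) (hx1 : x ≠ 1) {a : ZMod p} (h : pw x a = 1) : a = 0 := by
  have h1 : orderOf x = p := orderOf_eq_prime hx hx1
  have h2 : p ∣ a.val := (dvd_of_eq h1.symm).trans (orderOf_dvd_of_pow_eq_one (show x ^ a.val = 1 from h))
  rw [← ZMod.natCast_zmod_val a]
  exact (ZMod.natCast_eq_zero_iff _ _).2 h2

/-- the relations -/
structure Rel (p : ℕ) (z a b : G) : Prop where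
  odd : p ≠ 2
  za : Commute z a
  zb : Commute z b
  zp : z ^ p = 1
  z1 : z ≠ 1
  ap : a ^ p = 1
  bp : b ^ p = 1
  ab : a * b = z * b * a

namespace Rel

variable {z a b : G} (h : Rel p z a b)
include h

theorem ab_pow (m : ℕ) : a * b ^ m = z ^ m * b ^ m * a := by
  induction m with
  | zero => simp
  | succ m ih =>
    have h1 : b ^ m * z = z * b ^ m := (h.zb.pow_right m).eq.symm
    calc a * b ^ (m + 1) = (a * b ^ m) * b := by rw [pow_succ, mul_assoc]
      _ = z ^ m * b ^ m * (a * b) := by rw [ih, mul_assoc]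
      _ = z ^ m * (b ^ m * z) * b * a := by rw [h.ab]; group
      _ = z ^ (m + 1) * b ^ (m + 1) * a := by rw [h1, pow_succ, pow_succ]; group

theorem pow_pow (n m : ℕ) : a ^ n * b ^ m = z ^ (n * m) * b ^ m * a ^ n := by
  induction n with
  | zero => simp
  | succ n ih =>
    have h1 : a * z ^ (n * m) = z ^ (n * m) * a := ((h.za.pow_left (n * m)).eq).symm
    calc a ^ (n + 1) * b ^ m = a * (a ^ n * b ^ m) := by rw [pow_succ', mul_assoc]
      _ = (a * z ^ (n * m)) * b ^ m * a ^ n := by rw [ih]; group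
      _ = z ^ (n * m) * (a * b ^ m) * a ^ n := by rw [h1]; group
      _ = z ^ (n * m) * (z ^ m * b ^ m * a) * a ^ n := by rw [h.ab_pow]
      _ = z ^ ((n + 1) * m) * b ^ m * a ^ (n + 1) := by
        rw [add_mul, one_mul, pow_add, pow_succ' a]; group

theorem pw_comm (i j : ZMod p) : pw a i * pw b j = pw z (i * j) * pw b j * pw a i := by
  rw [pw, pw, pw, h.pow_pow, ZMod.val_mul, ← pow_eq_pow_mod _ h.zp]

theorem pw_comm' (i j : ZMod p) : pw b j * pw a i = pw z (-(i * j)) * pw a i * pw b j := by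
  have h1 : pw z (-(i * j)) * pw z (i * j) = 1 := by rw [← pw_add h.zp, neg_add_cancel, pw_zero]
  calc pw b j * pw a i = (pw z (-(i * j)) * pw z (i * j)) * pw b j * pw a i := by rw [h1, one_mul]
    _ = pw z (-(i * j)) * (pw z (i * j) * pw b j * pw a i) := by group
    _ = _ := by rw [← h.pw_comm]; group

theorem z_comm_a (k i : ZMod p) : pw a i * pw z k = pw z k * pw a i := ((h.za.pow_pow _ _).eq).symm

theorem z_comm_b (k i : ZMod p) : pw b i * pw z k = pw z k * pw b i := ((h.zb.pow_pow _ _).eq).symm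

end Rel

/-- the coordinates -/
def E (z a b : G) (v : ZMod p × ZMod p × ZMod p) : G :=
  pw z (v.1 - 2⁻¹ * (v.2.1 * v.2.2)) * pw a v.2.1 * pw b v.2.2

/-- the multiplication in coordinates -/
def mu (v w : ZMod p × ZMod p × ZMod p) : ZMod p × ZMod p × ZMod p :=
  (v.1 + w.1 + 2⁻¹ * (v.2.1 * w.2.2 - w.2.1 * v.2.2), v.2.1 + w.2.1, v.2.2 + w.2.2)

namespace Rel

variable {z a b : G} (h : Rel p z a b)
include h

theorem two_ne : (2 : ZMod p) ≠ 0 := by
  intro h2
  have h3 : p ∣ 2 := (ZMod.natCast_eq_zero_iff 2 p).1 (by exact_mod_cast h2)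
  exact h.odd ((Nat.prime_dvd_prime_iff_eq hp.1 Nat.prime_two).1 h3)

theorem E_mul (v w : ZMod p × ZMod p × ZMod p) : E z a b v * E z a b w = E z a b (mu v w) := by
  obtain ⟨k, i, j⟩ := v
  obtain ⟨k', i', j'⟩ := w
  simp only [E, mu]
  have h1 := h.pw_comm' i' j
  have h2 : (2 : ZMod p)⁻¹ * 2 = 1 := inv_mul_cancel₀ h.two_ne
  have e : k + k' + 2⁻¹ * (i * j' - i' * j) - 2⁻¹ * ((i + i') * (j + j')) =
      (k - 2⁻¹ * (i * j)) + (k' - 2⁻¹ * (i' * j')) + -(i' * j) := by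
    linear_combination (-(i' * j)) * h2
  rw [e, pw_add h.zp, pw_add h.zp, pw_add h.ap, pw_add h.bp]
  calc pw z (k - 2⁻¹ * (i * j)) * pw a i * pw b j * (pw z (k' - 2⁻¹ * (i' * j')) * pw a i' * pw b j')
      = pw z (k - 2⁻¹ * (i * j)) * pw a i * (pw b j * pw z (k' - 2⁻¹ * (i' * j'))) * pw a i' * pw b j' := by group
    _ = pw z (k - 2⁻¹ * (i * j)) * (pw a i * pw z (k' - 2⁻¹ * (i' * j'))) * (pw b j * pw a i') * pw b j' := by
      rw [h.z_comm_b]; group
    _ = pw z (k - 2⁻¹ * (i * j)) * pw z (k' - 2⁻¹ * (i' * j')) * (pw a i * pw z (-(i' * j))) * pw a i' * pw b j *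
        pw b j' := by rw [h.z_comm_a, h1]; group
    _ = _ := by rw [h.z_comm_a]; group

theorem E_zero : E z a b ((0, 0, 0) : ZMod p × ZMod p × ZMod p) = 1 := by
  simp [E, pw_zero]

theorem E_a : E z a b ((0, 1, 0) : ZMod p × ZMod p × ZMod p) = a := by
  simp [E, pw_zero, pw_one]

theorem E_b : E z a b ((0, 0, 1) : ZMod p × ZMod p × ZMod p) = b := by
  simp [E, pw_zero, pw_one]

theorem E_eq_one {v : ZMod p × ZMod p × ZMod p} (hv : E z a b v = 1) : v = 0 := by
  -- the commutator with `w`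
  have key : ∀ w : ZMod p × ZMod p × ZMod p, v.2.1 * w.2.2 - w.2.1 * v.2.2 = 0 := by
    intro w
    have h1 : E z a b (mu v w) = E z a b (mu w v) := by
      rw [← h.E_mul, ← h.E_mul, hv, one_mul, mul_one]
    have h2 : E z a b (mu v w) = pw z (v.2.1 * w.2.2 - w.2.1 * v.2.2) * E z a b (mu w v) := by
      have h2 : (2 : ZMod p)⁻¹ * 2 = 1 := inv_mul_cancel₀ h.two_ne
      have e : (mu v w).1 - 2⁻¹ * ((mu v w).2.1 * (mu v w).2.2) = (v.2.1 * w.2.2 - w.2.1 * v.2.2) +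
          ((mu w v).1 - 2⁻¹ * ((mu w v).2.1 * (mu w v).2.2)) := by
        simp only [mu]
        linear_combination (v.2.1 * w.2.2 - w.2.1 * v.2.2) * h2
      have e1 : (mu v w).2 = (mu w v).2 := by
        simp only [mu]
        rw [add_comm w.2.1, add_comm w.2.2]
      unfold E
      rw [e, pw_add h.zp, e1, mul_assoc, mul_assoc, mul_assoc]
    rw [h1] at h2
    exact pw_eq_one h.zp h.z1 (mul_eq_right.1 h2.symm)
  have h1 := key (0, 0, 1)
  have h2 := key (0, 1, 0)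
  obtain ⟨k, i, j⟩ := v
  simp at h1 h2
  subst h1 h2
  simp only [E, mul_zero, sub_zero, pw_zero, mul_one] at hv
  rw [pw_eq_one h.zp h.z1 hv]
  rfl

omit h in
theorem mu_neg (v : ZMod p × ZMod p × ZMod p) : mu v (-v) = 0 := by
  obtain ⟨k, i, j⟩ := v
  simp only [mu, Prod.fst_neg, Prod.snd_neg]
  refine Prod.ext ?_ (Prod.ext ?_ ?_)
  · show k + -k + 2⁻¹ * (i * -j - -i * j) = 0
    ring
  · show i + -i = 0
    ring
  · show j + -j = 0
    ring

theorem E_inv (v : ZMod p × ZMod p × ZMod p) : E z a b (-v) = (E z a b v)⁻¹ := by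
  rw [eq_inv_iff_mul_eq_one, h.E_mul]
  have h1 := mu_neg (-v)
  rw [neg_neg] at h1
  rw [h1]
  exact h.E_zero

theorem E_inj {v w : ZMod p × ZMod p × ZMod p} (he : E z a b v = E z a b w) : v = w := by
  have h1 : E z a b (mu v (-w)) = 1 := by rw [← h.E_mul, h.E_inv, he, mul_inv_cancel]
  have h2 := h.E_eq_one h1
  obtain ⟨k, i, j⟩ := v
  obtain ⟨k', i', j'⟩ := w
  have e1 : i + -i' = 0 := congrArg (fun x => x.2.1) h2
  have e2 : j + -j' = 0 := congrArg (fun x => x.2.2) h2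
  have e3 : k + -k' + 2⁻¹ * (i * -j' - -i' * j) = 0 := congrArg (fun x => x.1) h2
  have f1 : i = i' := by linear_combination e1
  have f2 : j = j' := by linear_combination e2
  subst f1 f2
  have f3 : k = k' := by linear_combination e3
  rw [f3]

theorem E_pow (v : ZMod p × ZMod p × ZMod p) (n : ℕ) : E z a b v ^ n = E z a b ((n : ZMod p) • v) := by
  induction n with
  | zero => rw [pow_zero, Nat.cast_zero, zero_smul]; exact h.E_zero.symm
  | succ n ih =>
    rw [pow_succ, ih, h.E_mul]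
    congr 1
    obtain ⟨k, i, j⟩ := v
    simp only [mu, Prod.smul_mk, smul_eq_mul]
    refine Prod.ext ?_ (Prod.ext ?_ ?_)
    · show (n : ZMod p) * k + k + 2⁻¹ * ((n : ZMod p) * i * j - i * ((n : ZMod p) * j)) = ((n + 1 : ℕ) : ZMod p) * k
      push_cast; ring
    · show (n : ZMod p) * i + i = ((n + 1 : ℕ) : ZMod p) * i
      push_cast; ring
    · show (n : ZMod p) * j + j = ((n + 1 : ℕ) : ZMod p) * j
      push_cast; ring

/-- the group -/
def grp : Subgroup G where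
  carrier := Set.range (E (p := p) z a b)
  mul_mem' := by
    rintro _ _ ⟨v, rfl⟩ ⟨w, rfl⟩
    exact ⟨_, (h.E_mul v w).symm⟩
  one_mem' := ⟨(0, 0, 0), h.E_zero⟩
  inv_mem' := by
    rintro _ ⟨v, rfl⟩
    exact ⟨_, h.E_inv v⟩

theorem closure_eq : Subgroup.closure {a, b} = h.grp := by
  apply le_antisymm
  · rw [Subgroup.closure_le]
    rintro x (rfl | rfl)
    · exact ⟨_, h.E_a⟩
    · exact ⟨_, h.E_b⟩
  · rintro _ ⟨v, rfl⟩
    have ha : a ∈ Subgroup.closure {a, b} := Subgroup.subset_closure (by simp)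
    have hb : b ∈ Subgroup.closure {a, b} := Subgroup.subset_closure (by simp)
    have hz : z ∈ Subgroup.closure {a, b} := by
      have h1 : z = a * b * a⁻¹ * b⁻¹ := by rw [h.ab]; group
      rw [h1]
      exact mul_mem (mul_mem (mul_mem ha hb) (inv_mem ha)) (inv_mem hb)
    exact mul_mem (mul_mem (pow_mem hz _) (pow_mem ha _)) (pow_mem hb _)

/-- the coordinates as an equivalence -/
noncomputable def eqv : (ZMod p × ZMod p × ZMod p) ≃ h.grp :=
  Equiv.ofBijective (fun v => ⟨E z a b v, v, rfl⟩)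
    ⟨fun _ _ hvw => h.E_inj (congrArg Subtype.val hvw), fun ⟨_, v, hv⟩ => ⟨v, Subtype.ext hv⟩⟩

theorem coe_eqv (v : ZMod p × ZMod p × ZMod p) : (h.eqv v : G) = E z a b v := rfl

theorem eqv_mul (v w : ZMod p × ZMod p × ZMod p) : h.eqv v * h.eqv w = h.eqv (mu v w) :=
  Subtype.ext (h.E_mul v w)

theorem card_grp : Nat.card h.grp = p ^ 3 := by
  rw [← Nat.card_congr h.eqv, Nat.card_prod, Nat.card_prod, Nat.card_zmod]
  ring

theorem isPGroup : IsPGroup p h.grp := IsPGroup.of_card h.card_grp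

theorem exponent_eq : Monoid.exponent h.grp = p := by
  have h1 : Monoid.exponent h.grp ∣ p := by
    refine Monoid.exponent_dvd_of_forall_pow_eq_one fun x => ?_
    obtain ⟨v, rfl⟩ := h.eqv.surjective x
    apply Subtype.ext
    rw [SubmonoidClass.coe_pow, coe_eqv, h.E_pow, ZMod.natCast_self, zero_smul]
    exact h.E_zero
  rcases (Nat.dvd_prime hp.1).1 h1 with h2 | h2
  · exfalso
    rw [Monoid.exp_eq_one_iff] at h2
    have h3 := h2.elim (h.eqv (1, 0, 0)) (h.eqv (0, 0, 0))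
    have h4 := h.eqv.injective h3
    exact one_ne_zero (congrArg Prod.fst h4)
  · exact h2

theorem comm_iff (v w : ZMod p × ZMod p × ZMod p) :
    h.eqv v * h.eqv w = h.eqv w * h.eqv v ↔ v.2.1 * w.2.2 - w.2.1 * v.2.2 = 0 := by
  rw [h.eqv_mul, h.eqv_mul, h.eqv.injective.eq_iff]
  have h2 : (2 : ZMod p)⁻¹ * 2 = 1 := inv_mul_cancel₀ h.two_ne
  obtain ⟨k, i, j⟩ := v
  obtain ⟨k', i', j'⟩ := w
  constructor
  · intro he
    have e : k + k' + 2⁻¹ * (i * j' - i' * j) = k' + k + 2⁻¹ * (i' * j - i * j') := congrArg Prod.fst he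
    show i * j' - i' * j = 0
    linear_combination e - (i * j' - i' * j) * h2
  · intro he
    have he' : i * j' - i' * j = 0 := he
    refine Prod.ext ?_ (Prod.ext (add_comm _ _) (add_comm _ _))
    show k + k' + 2⁻¹ * (i * j' - i' * j) = k' + k + 2⁻¹ * (i' * j - i * j')
    linear_combination (2 * 2⁻¹) * he'

theorem mem_center_iff' (v : ZMod p × ZMod p × ZMod p) : h.eqv v ∈ Subgroup.center h.grp ↔ v.2 = 0 := by
  rw [Subgroup.mem_center_iff]
  constructor
  · intro hc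
    have h1 := (h.comm_iff _ _).1 (hc (h.eqv (0, 1, 0)))
    have h2 := (h.comm_iff _ _).1 (hc (h.eqv (0, 0, 1)))
    obtain ⟨k, i, j⟩ := v
    simp at h1 h2
    exact Prod.ext h2 h1
  · intro hv x
    obtain ⟨w, rfl⟩ := h.eqv.surjective x
    rw [h.comm_iff, hv]
    simp

theorem card_center : Nat.card (Subgroup.center h.grp) = p := by
  have e : ZMod p ≃ Subgroup.center h.grp := Equiv.ofBijective
    (fun k => ⟨h.eqv (k, 0), (h.mem_center_iff' _).2 rfl⟩)
    ⟨fun k l hkl => congrArg Prod.fst (h.eqv.injective (congrArg Subtype.val hkl)), by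
      rintro ⟨x, hx⟩
      obtain ⟨⟨k, v⟩, rfl⟩ := h.eqv.surjective x
      have hv : v = 0 := (h.mem_center_iff' _).1 hx
      subst hv
      exact ⟨k, rfl⟩⟩
  rw [← Nat.card_congr e, Nat.card_zmod]

/-- the automorphism given by a symplectic map -/
noncomputable def aut (g : (ZMod p × ZMod p) ≃ (ZMod p × ZMod p)) (hadd : ∀ v w, g (v + w) = g v + g w)
    (hform : ∀ v w, (g v).1 * (g w).2 - (g w).1 * (g v).2 = v.1 * w.2 - w.1 * v.2) : h.grp ≃* h.grp where
  toEquiv := h.eqv.symm.trans (((Equiv.refl (ZMod p)).prodCongr g).trans h.eqv)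
  map_mul' := by
    intro x y
    obtain ⟨v, rfl⟩ := h.eqv.surjective x
    obtain ⟨w, rfl⟩ := h.eqv.surjective y
    rw [h.eqv_mul]
    show h.eqv ((Equiv.refl (ZMod p)).prodCongr g (h.eqv.symm (h.eqv (mu v w)))) =
      h.eqv ((Equiv.refl (ZMod p)).prodCongr g (h.eqv.symm (h.eqv v))) *
        h.eqv ((Equiv.refl (ZMod p)).prodCongr g (h.eqv.symm (h.eqv w)))
    rw [Equiv.symm_apply_apply, Equiv.symm_apply_apply, Equiv.symm_apply_apply, h.eqv_mul]
    congr 1
    obtain ⟨k, v⟩ := v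
    obtain ⟨l, w⟩ := w
    show (k + l + 2⁻¹ * (v.1 * w.2 - w.1 * v.2), g (v.1 + w.1, v.2 + w.2)) =
      (k + l + 2⁻¹ * ((g v).1 * (g w).2 - (g w).1 * (g v).2), ((g v).1 + (g w).1, (g v).2 + (g w).2))
    rw [hform]
    congr 1
    exact hadd v w

theorem aut_eqv (g : (ZMod p × ZMod p) ≃ (ZMod p × ZMod p)) (hadd : ∀ v w, g (v + w) = g v + g w)
    (hform : ∀ v w, (g v).1 * (g w).2 - (g w).1 * (g v).2 = v.1 * w.2 - w.1 * v.2) (v : ZMod p × ZMod p × ZMod p) :
    h.aut g hadd hform (h.eqv v) = h.eqv (v.1, g v.2) := by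
  show h.eqv ((Equiv.refl (ZMod p)).prodCongr g (h.eqv.symm (h.eqv v))) = _
  rw [Equiv.symm_apply_apply]
  rfl

theorem le_center {A : Subgroup h.grp} (hA : A.Characteristic) (hc : IsMulCommutative A) :
    A ≤ Subgroup.center h.grp := by
  intro x hx
  obtain ⟨v, rfl⟩ := h.eqv.surjective x
  rw [h.mem_center_iff']
  have key : ∀ (g : (ZMod p × ZMod p) ≃ (ZMod p × ZMod p)) (hadd : ∀ v w, g (v + w) = g v + g w)
      (hform : ∀ v w, (g v).1 * (g w).2 - (g w).1 * (g v).2 = v.1 * w.2 - w.1 * v.2),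
      v.2.1 * (g v.2).2 - (g v.2).1 * v.2.2 = 0 := by
    intro g hadd hform
    have h1 : h.aut g hadd hform (h.eqv v) ∈ A := by
      have h2 := Subgroup.characteristic_iff_map_eq.1 hA (h.aut g hadd hform)
      rw [← h2]
      exact ⟨_, hx, rfl⟩
    rw [h.aut_eqv] at h1
    have h3 : h.eqv v * h.eqv (v.1, g v.2) = h.eqv (v.1, g v.2) * h.eqv v :=
      congrArg Subtype.val (hc.is_comm.comm ⟨_, hx⟩ ⟨_, h1⟩)
    exact (h.comm_iff _ _).1 h3
  have h1 := key ⟨fun w => (w.1 + w.2, w.2), fun w => (w.1 - w.2, w.2), fun w => by simp, fun w => by simp⟩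
    (fun v w => by
      show ((v + w).1 + (v + w).2, (v + w).2) = (v.1 + v.2 + (w.1 + w.2), v.2 + w.2)
      rw [Prod.fst_add, Prod.snd_add]
      congr 1
      ring)
    (fun v w => by
      show (v.1 + v.2) * w.2 - (w.1 + w.2) * v.2 = _
      ring)
  have h2 := key ⟨fun w => (w.1, w.1 + w.2), fun w => (w.1, w.2 - w.1), fun w => by simp, fun w => by simp⟩
    (fun v w => by
      show ((v + w).1, (v + w).1 + (v + w).2) = (v.1 + w.1, v.1 + v.2 + (w.1 + w.2))
      rw [Prod.fst_add, Prod.snd_add]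
      congr 1
      ring)
    (fun v w => by
      show v.1 * (w.1 + w.2) - w.1 * (v.1 + v.2) = _
      ring)
  have e1 : v.2.1 * v.2.2 - (v.2.1 + v.2.2) * v.2.2 = 0 := h1
  have e2 : v.2.1 * (v.2.1 + v.2.2) - v.2.1 * v.2.2 = 0 := h2
  have f1 : v.2.2 * v.2.2 = 0 := by linear_combination -e1
  have f2 : v.2.1 * v.2.1 = 0 := by linear_combination e2
  exact Prod.ext (mul_self_eq_zero.1 f2) (mul_self_eq_zero.1 f1)

theorem cyclic_of_characteristic (A : Subgroup h.grp) (hA : A.Characteristic) (hc : IsMulCommutative A) :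
    IsCyclic A := by
  have h1 : IsCyclic (Subgroup.center h.grp) := isCyclic_of_prime_card h.card_center
  exact isCyclic_of_injective (Subgroup.inclusion (h.le_center hA hc)) (Subgroup.inclusion_injective _)

end Rel

end Cfsg.Agent.H5.Heis
end

-- part: H5/Heis/Mat
section
/-!
# S2187, kernel row: the extraspecial group `p^{1+2}` in `GL_p(F)` (helper5)
-/

set_option autoImplicit false
set_option linter.unusedSectionVars false

namespace Cfsg.Agent.H5.Heis

open Cfsg Cfsg.Geo Cfsg.Agent.H321.Ker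
open scoped MatrixGroups Matrix

section

variable {n : ℕ} [NeZero n] {F : Type*} [Field F]

theorem coe_Dm (ζ : Fˣ) : ((Dm n ζ : GL (Fin n) F) : Matrix (Fin n) (Fin n) F) =
    Matrix.diagonal fun i : Fin n => ((ζ ^ (i : ℕ) : Fˣ) : F) := rfl

theorem Bm_pow (m : ℕ) : (((Bm n (1 : Fˣ)) ^ m : GL (Fin n) F) : Matrix (Fin n) (Fin n) F) =
    Matrix.of fun i j : Fin n => if (i : ℕ) = ((j : ℕ) + m) % n then (1 : F) else 0 := by
  induction m with
  | zero =>
    ext i j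
    simp [Matrix.one_apply, Nat.mod_eq_of_lt, Fin.ext_iff]
  | succ m ih =>
    rw [pow_succ, Units.val_mul, ih]
    ext i j
    rw [Matrix.mul_apply, Finset.sum_eq_single (j + 1)]
    · have h1 : ((Bm n (1 : Fˣ) : GL (Fin n) F) : Matrix (Fin n) (Fin n) F) (j + 1) j = 1 := by
        show (if j + 1 = j + 1 then (if j + 1 = 0 then ((1 : Fˣ) : F) else 1) else 0) = 1
        rw [if_pos rfl]; split_ifs <;> simp
      rw [h1, mul_one, Matrix.of_apply, Matrix.of_apply]
      have h2 : (((j + 1 : Fin n) : ℕ) + m) % n = ((j : ℕ) + (m + 1)) % n := by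
        rw [Fin.val_add, Fin.val_one', Nat.add_mod_mod, Nat.mod_add_mod]
        congr 1
        ring
      rw [h2]
    · intro k _ hk
      have h1 : ((Bm n (1 : Fˣ) : GL (Fin n) F) : Matrix (Fin n) (Fin n) F) k j = 0 := by
        show (if k = j + 1 then (if k = 0 then ((1 : Fˣ) : F) else 1) else 0) = 0
        rw [if_neg hk]
      rw [h1, mul_zero]
    · intro h; exact absurd (Finset.mem_univ _) h

/-- the scalar -/
def sc (n : ℕ) (ζ : Fˣ) : GL (Fin n) F := Units.map (Matrix.scalar (Fin n) : F →+* Matrix (Fin n) (Fin n) F).toMonoidHom ζ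

theorem coe_sc (ζ : Fˣ) : ((sc n ζ : GL (Fin n) F) : Matrix (Fin n) (Fin n) F) = Matrix.diagonal fun _ => (ζ : F) := rfl

theorem sc_comm (ζ : Fˣ) (x : GL (Fin n) F) : Commute (sc n ζ) x := by
  apply Units.ext
  rw [Units.val_mul, Units.val_mul, coe_sc]
  exact (Matrix.scalar_commute (ζ : F) (fun r => Commute.all _ _) (x : Matrix (Fin n) (Fin n) F)).eq

theorem DB (ζ : Fˣ) (hζ : ζ ^ n = 1) : Dm n ζ * Bm n (1 : Fˣ) = sc n ζ * Bm n (1 : Fˣ) * Dm n ζ := by
  apply Units.ext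
  rw [Units.val_mul, Units.val_mul, Units.val_mul, coe_sc, coe_Dm]
  ext i j
  rw [Matrix.diagonal_mul, Matrix.mul_diagonal, Matrix.diagonal_mul]
  show ((ζ ^ (i : ℕ) : Fˣ) : F) * (if i = j + 1 then (if i = 0 then ((1 : Fˣ) : F) else 1) else 0) =
    (ζ : F) * (if i = j + 1 then (if i = 0 then ((1 : Fˣ) : F) else 1) else 0) * ((ζ ^ (j : ℕ) : Fˣ) : F)
  split_ifs with h1 h2
  · rw [h1, Units.val_one, mul_one, mul_one, ← Units.val_mul, ← pow_succ']
    congr 1
    rw [Fin.val_add, Fin.val_one', ← pow_eq_pow_mod _ hζ, pow_add, pow_succ, ← pow_eq_pow_mod _ hζ, pow_one]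
  · rw [h1, mul_one, mul_one, ← Units.val_mul, ← pow_succ']
    congr 1
    rw [Fin.val_add, Fin.val_one', ← pow_eq_pow_mod _ hζ, pow_add, pow_succ, ← pow_eq_pow_mod _ hζ, pow_one]
  · simp

end

theorem rel {p : ℕ} [hp : Fact p.Prime] (h2 : p ≠ 2) {F : Type*} [Field F] (ζ : Fˣ) (hζ : ζ ^ p = 1) (hζ1 : ζ ≠ 1) :
    haveI : NeZero p := ⟨hp.1.ne_zero⟩
    Rel p (sc p ζ) (Dm p ζ) (Bm p (1 : Fˣ)) := by
  have : NeZero p := ⟨hp.1.ne_zero⟩
  refine ⟨h2, sc_comm _ _, sc_comm _ _, ?_, ?_, ?_, ?_, DB ζ hζ⟩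
  · rw [sc, ← map_pow, hζ, map_one]
  · intro h
    apply hζ1
    have h1 : ((sc p ζ : GL (Fin p) F) : Matrix (Fin p) (Fin p) F) 0 0 =
        ((1 : GL (Fin p) F) : Matrix (Fin p) (Fin p) F) 0 0 := by rw [h]
    rw [coe_sc, Matrix.diagonal_apply_eq, Units.val_one, Matrix.one_apply_eq] at h1
    exact Units.ext h1
  · apply Units.ext
    have h1 : ∀ m : ℕ, (((Dm p ζ) ^ m : GL (Fin p) F) : Matrix (Fin p) (Fin p) F) =
        Matrix.diagonal fun i : Fin p => ((ζ ^ ((i : ℕ) * m) : Fˣ) : F) := by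
      intro m
      induction m with
      | zero => simp
      | succ m ih =>
        rw [pow_succ, Units.val_mul, ih, coe_Dm, Matrix.diagonal_mul_diagonal]
        congr 1
        funext i
        rw [← Units.val_mul, ← pow_add, Nat.mul_succ]
    rw [h1, Units.val_one, ← Matrix.diagonal_one]
    congr 1
    funext i
    rw [mul_comm, pow_mul, hζ, one_pow, Units.val_one]
  · apply Units.ext
    rw [Bm_pow]
    ext i j
    simp only [Matrix.one_apply, Nat.mod_eq_of_lt, Fin.ext_iff, _root_.Nat.add_mod_right, _root_.Fin.is_lt, _root_.Matrix.of_apply, _root_.Units.val_one]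

theorem adjoin_eq_top {p : ℕ} [hp : Fact p.Prime] {F : Type*} [Field F] (ζ : Fˣ) (hζ : ζ ^ p = 1) (hζ1 : ζ ≠ 1) :
    haveI : NeZero p := ⟨hp.1.ne_zero⟩
    Algebra.adjoin F (matrixSet (Subgroup.closure {Dm p ζ, Bm p (1 : Fˣ)} : Subgroup (GL (Fin p) F))) = ⊤ := by
  have : NeZero p := ⟨hp.1.ne_zero⟩
  set A := Algebra.adjoin F (matrixSet (Subgroup.closure {Dm p ζ, Bm p (1 : Fˣ)} : Subgroup (GL (Fin p) F))) with hA
  have hD : ((Dm p ζ : GL (Fin p) F) : Matrix (Fin p) (Fin p) F) ∈ A :=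
    Algebra.subset_adjoin ⟨_, Subgroup.subset_closure (by simp), rfl⟩
  have hB : ∀ m : ℕ, (((Bm p (1 : Fˣ)) ^ m : GL (Fin p) F) : Matrix (Fin p) (Fin p) F) ∈ A := fun m =>
    Algebra.subset_adjoin ⟨_, pow_mem (Subgroup.subset_closure (by simp)) m, rfl⟩
  have ho : orderOf ζ = p := orderOf_eq_prime hζ hζ1
  have hinj : Function.Injective fun i : Fin p => ((ζ ^ (i : ℕ) : Fˣ) : F) := by
    intro i j hij
    have h1 : ζ ^ (i : ℕ) = ζ ^ (j : ℕ) := Units.ext hij
    exact Fin.ext (pow_injOn_Iio_orderOf (by rw [ho]; exact i.2) (by rw [ho]; exact j.2) h1)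
  -- the diagonal idempotents
  have hE : ∀ i : Fin p, Matrix.diagonal (Pi.single i (1 : F)) ∈ A := by
    intro i
    let P := Lagrange.interpolate Finset.univ (fun i : Fin p => ((ζ ^ (i : ℕ) : Fˣ) : F)) (Pi.single i (1 : F))
    have h1 : Polynomial.aeval ((Dm p ζ : GL (Fin p) F) : Matrix (Fin p) (Fin p) F) P =
        Matrix.diagonal (Pi.single i (1 : F)) := by
      rw [coe_Dm]
      have h2 := Polynomial.aeval_algHom_apply (Matrix.diagonalAlgHom (n := Fin p) (α := F) F)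
        (fun i : Fin p => ((ζ ^ (i : ℕ) : Fˣ) : F)) P
      rw [Matrix.diagonalAlgHom_apply, Matrix.diagonalAlgHom_apply] at h2
      rw [h2]
      congr 1
      funext j
      rw [Polynomial.aeval_pi_apply₂]
      show Polynomial.aeval (((ζ ^ (j : ℕ) : Fˣ) : F)) P = _
      rw [Polynomial.coe_aeval_eq_eval]
      exact Lagrange.eval_interpolate_at_node _ (hinj.injOn) (Finset.mem_univ j)
    rw [← h1]
    exact (Algebra.adjoin_le (S := A) (Set.singleton_subset_iff.2 hD)) (Polynomial.aeval_mem_adjoin_singleton F _)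
  have hs : ∀ (i j : Fin p), (Matrix.single i j (1 : F) : Matrix (Fin p) (Fin p) F) ∈ A := by
    intro i j
    have h1 : (Matrix.single i j (1 : F) : Matrix (Fin p) (Fin p) F) = Matrix.diagonal (Pi.single i (1 : F)) *
        (((Bm p (1 : Fˣ)) ^ ((i - j : Fin p) : ℕ) : GL (Fin p) F) : Matrix (Fin p) (Fin p) F) := by
      rw [Bm_pow]
      ext a b
      rw [Matrix.diagonal_mul, Matrix.of_apply, Matrix.single_apply]
      have hv : ((b : ℕ) + ((i - j : Fin p) : ℕ)) % p = ((b + (i - j) : Fin p) : ℕ) := (Fin.val_add b (i - j)).symm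
      by_cases h : i = a
      · subst h
        rw [Pi.single_eq_same, one_mul, hv]
        by_cases h2 : j = b
        · subst h2
          rw [if_pos ⟨rfl, rfl⟩, if_pos (by rw [add_sub_cancel])]
        · rw [if_neg (fun h => h2 h.2), if_neg]
          intro h3
          apply h2
          have h3' : i = b + (i - j) := Fin.ext h3
          have h4 : b + (i - j) = i + (b - j) := by abel
          rw [h4] at h3'
          have h5 : b - j = 0 := left_eq_add.1 h3'
          exact (sub_eq_zero.1 h5).symm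
      · rw [if_neg (fun h' => h h'.1), Pi.single_eq_of_ne (Ne.symm h), zero_mul]
    rw [h1]
    exact mul_mem (hE i) (hB _)
  rw [eq_top_iff]
  intro X _
  rw [Matrix.matrix_eq_sum_single X]
  refine sum_mem fun i _ => sum_mem fun j _ => ?_
  have h1 : (Matrix.single i j (X i j) : Matrix (Fin p) (Fin p) F) = X i j • Matrix.single i j (1 : F) := by
    rw [Matrix.smul_single, smul_eq_mul, mul_one]
  rw [h1]
  exact Subalgebra.smul_mem _ (hs i j) _

/-- **The extraspecial group of order `p³`.** -/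
theorem heis {p : ℕ} [hp : Fact p.Prime] (h2 : p ≠ 2) {F : Type*} [Field F] [Fintype F] (ζ : Fˣ) (hζ : ζ ^ p = 1)
    (hζ1 : ζ ≠ 1) :
    haveI : NeZero p := ⟨hp.1.ne_zero⟩
    Cfsg.Geo.IsSymplecticTypeGroup p (Subgroup.closure {Dm p ζ, Bm p (1 : Fˣ)}) ∧
      Cfsg.Geo.ActsAbsolutelyIrreducibly (Cfsg.Geo.matrixSet (Subgroup.closure {Dm p ζ, Bm p (1 : Fˣ)})) ∧
      Nat.card (Subgroup.closure {Dm p ζ, Bm p (1 : Fˣ)}) = p ^ 3 ∧
      Nat.card (Subgroup.center (Subgroup.closure {Dm p ζ, Bm p (1 : Fˣ)})) = p := by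
  have : NeZero p := ⟨hp.1.ne_zero⟩
  have h := rel h2 ζ hζ hζ1
  refine ⟨?_, ?_, ?_, ?_⟩
  · rw [h.closure_eq]
    refine ⟨hp.1, h.isPGroup, h.cyclic_of_characteristic, ?_⟩
    rw [h.exponent_eq]
    have h3 : Nat.gcd 2 p = 1 := (Nat.coprime_primes Nat.prime_two hp.1).2 (Ne.symm h2)
    rw [h3, mul_one]
  · rw [H919.absIrr_iff]
    exact adjoin_eq_top ζ hζ hζ1
  · rw [h.closure_eq]
    exact h.card_grp
  · rw [h.closure_eq]
    exact h.card_center

end Cfsg.Agent.H5.Heis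
end

-- part: H321/Ker/Core
section
/-!
# S2187, kernel row: the theorems for an arbitrary Heisenberg pair, from the maximality facts
-/

set_option autoImplicit false
set_option linter.unusedSectionVars false

universe u

namespace Cfsg.Agent.H321.Ker

open Cfsg Cfsg.Geo
open scoped MatrixGroups Matrix
open Cfsg.Agent.LieClassical.HermBasic
open Cfsg.Agent.H918 (SUg)

theorem Mc_sup_scalars {ι : Type} [Fintype ι] [DecidableEq ι] {F : Type*} [Field F] (G H : Subgroup (GL ι F)) :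
    Mc G (H ⊔ scalars ι F) = Mc G H := by
  refine le_antisymm ?_ (Mc_mono le_rfl le_sup_left)
  refine (Subgroup.closure_le _).2 ?_
  rintro g ⟨hg, f, hf, hs, h⟩
  obtain ⟨x, hx, z, hz, rfl⟩ := Subgroup.mem_sup_of_normal_right.1 hf
  have hzc : ∀ y : GL ι F, z * y = y * z := by
    intro y
    obtain ⟨c, hc⟩ := (mem_scalars_iff _).1 hz
    apply Units.ext
    rw [Units.val_mul, Units.val_mul, hc, Matrix.smul_mul, one_mul, Matrix.mul_smul, mul_one]
  refine mem_Mc (f := x) hg hx (fun h1 => hs ((scalars ι F).mul_mem h1 hz)) ?_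
  have : g * x * z = x * g * z := by rw [mul_assoc, h, mul_assoc, hzc g, mul_assoc]
  exact mul_right_cancel this

variable {p : ℕ} [hp : Fact p.Prime]

theorem heisFacts (h2 : p ≠ 2) : haveI : NeZero p := ⟨hp.1.ne_zero⟩; HeisFacts.{u} p := by
  have : NeZero p := ⟨hp.1.ne_zero⟩
  intro F _ _ ζ hζ hζ1
  exact Cfsg.Agent.H5.Heis.heis h2 ζ hζ hζ1

theorem suThreeFive : SUThreeFive.{u} := by
  intro F _ _ hF ζ β hζ hζ1 hβ
  exact Cfsg.Agent.H973.KerSU.su35 hF ζ β hζ hζ1 hβ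

/-- **Kernel row, linear case.** -/
theorem gen_SL_of (h2 : p ≠ 2) (L : LinFacts.{u} p) (U : UniFacts.{u} p) {F : Type u} [Field F] [Fintype F]
    (h7 : 7 ≤ p ∨ (2 : F) ≠ 0) {H : Subgroup (GL (Fin p) F)} {a b : GL (Fin p) F} (haH : a ∈ H) (hbH : b ∈ H)
    {ζ : Fˣ} (hζ1 : ζ ≠ 1)
    (hab : (a : Matrix (Fin p) (Fin p) F) * b = (ζ : F) • ((b : Matrix (Fin p) (Fin p) F) * a))
    (ha : a ^ p ∈ scalars (Fin p) F) (hb : b ^ p ∈ scalars (Fin p) F) :
    Mc (specialLinear (Fin p) F) H = specialLinear (Fin p) F := by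
  have : NeZero p := ⟨hp.1.ne_zero⟩
  obtain ⟨P, ζ', β, hζ', hζp, hβ, hP⟩ := Cfsg.Agent.H783.NormF.normalForm h2 hζ1 hab ha hb
  have h1 : Mc (specialLinear (Fin p) F) (Hs p ζ' β) = specialLinear (Fin p) F := by
    rcases hβ with rfl | hβ
    · exact SL_split h2 L U (heisFacts h2) (fun _ => suThreeFive) hζp hζ' h7
    · exact SL_nonsplit h2 L hζp hζ' hβ h7
  refine le_antisymm (Mc_le _ _) ?_
  rw [← Mc_sup_scalars]
  have hSn : ∀ (x g : GL (Fin p) F), g ∈ specialLinear (Fin p) F → x * g * x⁻¹ ∈ specialLinear (Fin p) F :=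
    fun x g hg => (MonoidHom.normal_ker (Matrix.GeneralLinearGroup.det : GL (Fin p) F →* Fˣ)).conj_mem g hg x
  intro g hg
  have h3 : P⁻¹ * g * P ∈ Mc (specialLinear (Fin p) F) (Hs p ζ' β) := by
    rw [h1]
    have := hSn P⁻¹ g hg
    rwa [inv_inv] at this
  have h4 : P * (P⁻¹ * g * P) * P⁻¹ ∈ Mc (specialLinear (Fin p) F) (H ⊔ scalars (Fin p) F) := by
    refine conj_Mc (hSn P) (fun h hh => ?_) h3
    have h5 : Subgroup.closure {a, b} ≤ H := by
      rw [Subgroup.closure_le]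
      rintro x (rfl | rfl)
      · exact haH
      · exact hbH
    exact (sup_le_sup_right h5 _) (hP h hh)
  have h6 : P * (P⁻¹ * g * P) * P⁻¹ = g := by group
  rwa [h6] at h4

/-- **Kernel row, unitary case.** -/
theorem gen_SU_of (h2 : p ≠ 2) (U : UniFacts.{u} p) {F : Type u} [Field F] [Fintype F] {q : ℕ}
    (hF : Fintype.card F = q ^ 2)
    (h7 : 7 ≤ p ∨ (2 : F) ≠ 0) {H : Subgroup (GL (Fin p) F)} {a b : GL (Fin p) F} (haH : a ∈ H) (hbH : b ∈ H)
    (hau : a ∈ GU p F q) (hbu : b ∈ GU p F q) {ζ : Fˣ} (hζ1 : ζ ≠ 1)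
    (hab : (a : Matrix (Fin p) (Fin p) F) * b = (ζ : F) • ((b : Matrix (Fin p) (Fin p) F) * a))
    (ha : a ^ p ∈ scalars (Fin p) F) (hb : b ^ p ∈ scalars (Fin p) F) :
    Mc (GU p F q ⊓ specialLinear (Fin p) F) H = GU p F q ⊓ specialLinear (Fin p) F := by
  have : NeZero p := ⟨hp.1.ne_zero⟩
  have hp0 : 0 < p := hp.1.pos
  -- `ζ` has norm one and order `p`
  have hab' : a * b = sc p ζ * (b * a) := by
    apply Units.ext
    rw [Units.val_mul, Units.val_mul, sc_coe, Matrix.smul_mul, one_mul, Units.val_mul, hab]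
  have hq : ζ ^ (q + 1) = 1 := by
    have h3 : sc p ζ ∈ GU p F q := by
      have : sc p ζ = a * b * (b * a)⁻¹ := by rw [hab', mul_inv_cancel_right]
      rw [this]
      exact (GU p F q).mul_mem ((GU p F q).mul_mem hau hbu) ((GU p F q).inv_mem ((GU p F q).mul_mem hbu hau))
    rw [mem_GU_iff] at h3
    have h4 := h3 (Pi.single ⟨0, hp0⟩ 1) (Pi.single ⟨0, hp0⟩ 1)
    rw [sc_coe, Matrix.smul_mulVec, Matrix.one_mulVec, herm_smul_left, herm_smul_right, herm_single_right hF,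
      Pi.single_eq_same, one_pow, mul_one, mul_one] at h4
    exact norm_iff.1 h4
  have hζp : ζ ^ p = 1 := by
    have h3 : a ^ p * b = sc p (ζ ^ p) * (b * a ^ p) := by
      have := zpow_comm (z := sc p ζ) (fun g => sc_comm ζ g) hab' p 1
      rw [zpow_one, zpow_natCast, mul_one, zpow_neg, zpow_natCast, ← sc_pow] at this
      rw [this]; group
    obtain ⟨z, hz⟩ := mem_scalars_iff_sc.1 ha
    rw [hz, sc_comm z b] at h3
    have h4 : sc p (ζ ^ p) = 1 := by
      have := mul_right_cancel (b := b * sc p z) (show 1 * (b * sc p z) = sc p (ζ ^ p) * (b * sc p z) by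
        rw [one_mul]; exact h3)
      exact this.symm
    have h5 : (sc p (ζ ^ p) : Matrix (Fin p) (Fin p) F) ⟨0, hp0⟩ ⟨0, hp0⟩ = 1 := by rw [h4]; simp
    rw [sc_coe, Matrix.smul_apply, Matrix.one_apply_eq, smul_eq_mul, mul_one] at h5
    exact Units.ext h5
  obtain ⟨P, ζ', β, hPU, hζ', hζp', hβ, hβq, hP⟩ :=
    Cfsg.Agent.H783.NormF.normalFormU h2 hF hζ1 hq hau hbu hab ha hb
  have hpq : p ∣ q + 1 := by rw [← orderOf_zeta hζp hζ1]; exact orderOf_dvd_of_pow_eq_one hq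
  have hq' : ζ' ^ (q + 1) = 1 := by
    obtain ⟨k, hk⟩ := hpq
    rw [hk, pow_mul, hζp', one_pow]
  have h1 : Mc (SUg p F q) (Hs p ζ' β) = SUg p F q := by
    rcases hβ with rfl | hβ
    · exact SU_split h2 U (heisFacts h2) (fun _ => suThreeFive) _ hF hζp' hζ' hq' h7 rfl
    · exact SU_nonsplit h2 U (fun _ => suThreeFive) hF hζp' hζ' hq' hβq hβ h7
  refine le_antisymm (Mc_le _ _) ?_
  rw [← Mc_sup_scalars]
  have hSn : ∀ (x g : GL (Fin p) F), x ∈ GU p F q → g ∈ SUg p F q → x * g * x⁻¹ ∈ SUg p F q :=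
    fun x g hx hg => ⟨(GU p F q).mul_mem ((GU p F q).mul_mem hx hg.1) ((GU p F q).inv_mem hx),
      (MonoidHom.normal_ker (Matrix.GeneralLinearGroup.det : GL (Fin p) F →* Fˣ)).conj_mem g hg.2 x⟩
  intro g hg
  have h3 : P⁻¹ * g * P ∈ Mc (SUg p F q) (Hs p ζ' β) := by
    rw [h1]
    have := hSn P⁻¹ g ((GU p F q).inv_mem hPU) hg
    rwa [inv_inv] at this
  have h4 : P * (P⁻¹ * g * P) * P⁻¹ ∈ Mc (SUg p F q) (H ⊔ scalars (Fin p) F) := by
    refine conj_Mc (fun x hx => hSn P x hPU hx) (fun h hh => ?_) h3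
    have h5 : Subgroup.closure {a, b} ≤ H := by
      rw [Subgroup.closure_le]
      rintro x (rfl | rfl)
      · exact haH
      · exact hbH
    exact (sup_le_sup_right h5 _) (hP h hh)
  have h6 : P * (P⁻¹ * g * P) * P⁻¹ = g := by group
  rwa [h6] at h4

end Cfsg.Agent.H321.Ker
end

private theorem dce_e607f781934c : _root_.True := by
  try have : _root_.True := by simp only [_root_.Cfsg.Agent.H5.Heis.E.eq_1]
  try have : _root_.True := by simp only [_root_.Cfsg.Agent.H321.Ker.Dm.eq_1]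
  try have : _root_.True := by simp only [_root_.Cfsg.Agent.H973.KerSU.Tt.eq_1]
  try have : _root_.True := by simp only [_root_.Cfsg.Agent.H973.KerSU.Bk.eq_1]
  try have : _root_.True := by simp only [_root_.Cfsg.Agent.H973.KerSU.Fk.eq_1]
  try have : _root_.True := by simp only [_root_.Cfsg.Agent.H973.KerSU.Tk.eq_1]
  try have : _root_.True := by simp only [_root_.Cfsg.Agent.H321.Ker.Bm.eq_1]
  try have : _root_.True := by simp only [_root_.Cfsg.Agent.H973.KerSU.Dk.eq_1]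
  try have : _root_.True := by simp only [_root_.Cfsg.Agent.H783.NormF.sc.eq_1]
  try have : _root_.True := by simp only [_root_.Cfsg.Agent.H5.Heis.sc.eq_1]
  try have : _root_.True := by simp only [_root_.Cfsg.Agent.H5.Heis.mu.eq_1]
  try have : _root_.True := by simp only [_root_.Cfsg.Agent.H5.Heis.pw.eq_1]
  exact _root_.True.intro
end

-- part: H321/Ker/AlgY
section
prune_inst 0x4000000002202000000050020000040180000300004000040000800000180424040004102002012002a000108040060000000000000000000000000000000000000800880080000060098000000000000000000000000000000000000000004000000000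
set_option linter.all false
open scoped Cfsg.Agent.FastGrp

-- part: H321/Ker/AlgFr
section
/-!
# S2187, kernel row, algebraic form: Frobenius maps of `GL_n(k)`, `k` algebraically closed

`fr r e` : entrywise `r^e`-th power, `it` : inverse transpose.
* `lang_fr` : `D = x (fr x)⁻¹`, `lang_it` : `D = x (it (fr x))⁻¹` (Lang's theorem);
* `exists_ex` : the fixed points of `fr r e` are the matrices over `Fk r e`, `card_Fk_alg` : `|Fk r e| = r ^ e`;
* `mem_GU_of_it` : the fixed points of `it ∘ fr r e` are the unitary matrices over `Fk r (2 * e)`.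
-/

set_option autoImplicit false
set_option linter.unusedSectionVars false

namespace Cfsg.Agent.H321.Ker

open Cfsg Cfsg.Geo
open scoped MatrixGroups Matrix
open Cfsg.Agent.LieClassical.HermBasic

section Basic

variable {n : ℕ} [NeZero n] {k : Type*} [Field k]

/-- inverse transpose -/
def it : GL (Fin n) k →* GL (Fin n) k where
  toFun g := ⟨((g⁻¹ : GL (Fin n) k) : Matrix (Fin n) (Fin n) k)ᵀ, (g : Matrix (Fin n) (Fin n) k)ᵀ, by
    rw [← Matrix.transpose_mul, ← Units.val_mul, mul_inv_cancel, Units.val_one, Matrix.transpose_one], by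
    rw [← Matrix.transpose_mul, ← Units.val_mul, inv_mul_cancel, Units.val_one, Matrix.transpose_one]⟩
  map_one' := by
    apply Units.ext
    show (((1 : GL (Fin n) k)⁻¹ : GL (Fin n) k) : Matrix (Fin n) (Fin n) k)ᵀ = 1
    rw [inv_one, Units.val_one, Matrix.transpose_one]
  map_mul' g h := by
    apply Units.ext
    show (((g * h)⁻¹ : GL (Fin n) k) : Matrix (Fin n) (Fin n) k)ᵀ =
      ((g⁻¹ : GL (Fin n) k) : Matrix (Fin n) (Fin n) k)ᵀ * ((h⁻¹ : GL (Fin n) k) : Matrix (Fin n) (Fin n) k)ᵀ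
    rw [mul_inv_rev, Units.val_mul, Matrix.transpose_mul]

theorem it_coe (g : GL (Fin n) k) : (it g : Matrix (Fin n) (Fin n) k) =
    ((g⁻¹ : GL (Fin n) k) : Matrix (Fin n) (Fin n) k)ᵀ := rfl

theorem it_inv_coe (g : GL (Fin n) k) : ((it g)⁻¹ : GL (Fin n) k).1 = (g : Matrix (Fin n) (Fin n) k)ᵀ := rfl

theorem it_it (g : GL (Fin n) k) : it (it g) = g := by
  apply Units.ext
  rw [it_coe, it_inv_coe, Matrix.transpose_transpose]

theorem it_sc (z : kˣ) : it (sc n z) = sc n z⁻¹ := by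
  apply Units.ext
  rw [it_coe, ← sc_inv, sc_coe, Matrix.transpose_smul, Matrix.transpose_one]

theorem det_it {g : GL (Fin n) k} (hg : g ∈ specialLinear (Fin n) k) : it g ∈ specialLinear (Fin n) k := by
  have h1 := (specialLinear (Fin n) k).inv_mem hg
  rw [mem_SL_iff] at h1 ⊢
  rw [it_coe, Matrix.det_transpose, h1]

variable (r e : ℕ) [Fact r.Prime] [CharP k r]

/-- entrywise `r^e`-th power -/
def fr : GL (Fin n) k →* GL (Fin n) k := Matrix.GeneralLinearGroup.map (iterateFrobenius k r e)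

variable {r e}

theorem fr_apply (g : GL (Fin n) k) (i j : Fin n) :
    (fr r e g : Matrix (Fin n) (Fin n) k) i j = (g : Matrix (Fin n) (Fin n) k) i j ^ r ^ e := rfl

theorem fr_sc (z : kˣ) : fr r e (sc n z) = sc n (z ^ r ^ e) := by
  apply Units.ext
  ext i j
  have hq : r ^ e ≠ 0 := pow_ne_zero _ (Fact.out : r.Prime).ne_zero
  rw [fr_apply, sc_coe, sc_coe, Matrix.smul_apply, Matrix.smul_apply]
  by_cases h : i = j
  · subst h; simp
  · rw [Matrix.one_apply_ne h, smul_zero, smul_zero, zero_pow hq]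

theorem it_fr (g : GL (Fin n) k) : it (fr r e g) = fr r e (it g) := by
  apply Units.ext
  rw [it_coe, ← map_inv]
  rfl

theorem fr_fr (e' : ℕ) (g : GL (Fin n) k) : fr r e (fr r e' g) = fr r (e' + e) g := by
  apply Units.ext
  ext i j
  rw [fr_apply, fr_apply, fr_apply, pow_add, pow_mul]

theorem fr_SL {g : GL (Fin n) k} (hg : g ∈ specialLinear (Fin n) k) : fr r e g ∈ specialLinear (Fin n) k := by
  rw [mem_SL_iff] at hg ⊢
  have : (fr r e g : Matrix (Fin n) (Fin n) k) = (iterateFrobenius k r e).mapMatrix (g : Matrix (Fin n) (Fin n) k) := rfl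
  rw [this, ← RingHom.map_det, hg, map_one]

/-- The fixed points of `fr` are defined over `Fk`. -/
theorem exists_ex {g : GL (Fin n) k} (hg : fr r e g = g) : ∃ g₀ : GL (Fin n) (Fk r e : Subfield k),
    ex n (Fk r e) g₀ = g := by
  have h1 : ∀ {h : GL (Fin n) k}, fr r e h = h → ∀ i j, (h : Matrix (Fin n) (Fin n) k) i j ∈ (Fk r e : Subfield k) := by
    intro h hh i j
    rw [mem_Fk, ← fr_apply, hh]
  have hg' : fr r e g⁻¹ = g⁻¹ := by rw [map_inv, hg]
  have hmul : ∀ {a b : GL (Fin n) k} (ha : ∀ i j, (a : Matrix (Fin n) (Fin n) k) i j ∈ (Fk r e : Subfield k))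
      (hb : ∀ i j, (b : Matrix (Fin n) (Fin n) k) i j ∈ (Fk r e : Subfield k)), a * b = 1 →
      (Matrix.of fun i j => (⟨_, ha i j⟩ : (Fk r e : Subfield k))) *
        (Matrix.of fun i j => (⟨_, hb i j⟩ : (Fk r e : Subfield k))) = 1 := by
    intro a b ha hb hab
    ext i j
    have h2 : ((a * b : GL (Fin n) k) : Matrix (Fin n) (Fin n) k) i j = ((1 : GL (Fin n) k) : Matrix (Fin n) (Fin n) k) i j := by
      rw [hab]
    rw [Units.val_mul, Matrix.mul_apply, Units.val_one] at h2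
    rw [Matrix.mul_apply]
    push_cast
    simp only [Matrix.of_apply]
    rw [h2]
    by_cases hij : i = j
    · subst hij; simp
    · rw [Matrix.one_apply_ne hij, Matrix.one_apply_ne hij]; simp
  refine ⟨⟨Matrix.of fun i j => ⟨_, h1 hg i j⟩, Matrix.of fun i j => ⟨_, h1 hg' i j⟩,
    hmul _ _ (mul_inv_cancel g), hmul _ _ (inv_mul_cancel g)⟩, ?_⟩
  apply Units.ext
  ext i j
  rfl

theorem fr_ex (g₀ : GL (Fin n) (Fk r e : Subfield k)) : fr r e (ex n (Fk r e) g₀) = ex n (Fk r e) g₀ := by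
  apply Units.ext
  ext i j
  rw [fr_apply, ex_apply]
  exact mem_Fk.1 ((g₀ : Matrix (Fin n) (Fin n) (Fk r e : Subfield k)) i j).2

theorem ex_inj {F₀ : Subfield k} : Function.Injective (ex n F₀) := by
  intro a b h
  apply Units.ext
  ext i j
  have h1 : (ex n F₀ a : Matrix (Fin n) (Fin n) k) i j = (ex n F₀ b : Matrix (Fin n) (Fin n) k) i j := by rw [h]
  rw [ex_apply, ex_apply] at h1
  exact h1

theorem finite_Fk (he : 0 < e) : Finite (Fk r e : Subfield k) := by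
  have hq : 1 < r ^ e := Nat.one_lt_pow he.ne' (Fact.out : r.Prime).one_lt
  have h1 : ((Fk r e : Subfield k) : Set k) ⊆
      {x | (Polynomial.X ^ r ^ e - Polynomial.X : Polynomial k).IsRoot x} := by
    intro x hx
    simp only [Set.mem_ofPred_eq, Polynomial.IsRoot.def, Polynomial.eval_sub, Polynomial.eval_pow, Polynomial.eval_X]
    rw [sub_eq_zero]
    exact mem_Fk.1 hx
  exact (Polynomial.finite_setOfPred_isRoot (FiniteField.X_pow_card_sub_X_ne_zero k hq)).subset h1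

theorem card_Fk_alg [IsAlgClosed k] (he : 0 < e) : Nat.card (Fk r e : Subfield k) = r ^ e := by
  classical
  have hq : 1 < r ^ e := Nat.one_lt_pow he.ne' (Fact.out : r.Prime).one_lt
  have hfin := finite_Fk (k := k) (r := r) he
  apply le_antisymm
  · have hne := FiniteField.X_pow_card_sub_X_ne_zero k hq
    have h1 : ((Fk r e : Subfield k) : Set k) ⊆
        ((Polynomial.X ^ r ^ e - Polynomial.X : Polynomial k).roots.toFinset : Set k) := by
      intro x hx
      rw [Finset.mem_coe, Multiset.mem_toFinset, Polynomial.mem_roots hne, Polynomial.IsRoot.def, Polynomial.eval_sub,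
        Polynomial.eval_pow, Polynomial.eval_X, sub_eq_zero]
      exact mem_Fk.1 hx
    have h2 : Nat.card (Fk r e : Subfield k) ≤
        (Polynomial.X ^ r ^ e - Polynomial.X : Polynomial k).roots.toFinset.card := by
      rw [← Set.ncard_coe_finset]
      exact Set.ncard_le_ncard h1 (Finset.finite_toSet _)
    refine h2.trans ((Multiset.toFinset_card_le _).trans ((Polynomial.card_roots' _).trans ?_))
    rw [FiniteField.X_pow_card_sub_X_natDegree_eq k hq]
  · let _ : Algebra (ZMod r) k := ZMod.algebra k r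
    let f : GaloisField r e →ₐ[ZMod r] k := IsAlgClosed.lift
    have h1 : Nat.card (GaloisField r e) = r ^ e := GaloisField.card r e he.ne'
    rw [← h1]
    refine Nat.card_le_card_of_injective (fun x => (⟨f x, ?_⟩ : (Fk r e : Subfield k))) ?_
    · rw [mem_Fk, ← map_pow]
      congr 1
      have : Fintype (GaloisField r e) := Fintype.ofFinite _
      rw [← h1, Nat.card_eq_fintype_card]
      exact FiniteField.pow_card x
    · intro x y hxy
      exact f.injective (congrArg Subtype.val hxy)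

end Basic

section Lang

variable {n : ℕ} [NeZero n] {k : Type*} [Field k] [IsAlgClosed k] {r e : ℕ} [Fact r.Prime] [CharP k r]

theorem lang_fr (he : 0 < e) (D : GL (Fin n) k) : ∃ x : GL (Fin n) k, D = x * (fr r e x)⁻¹ :=
  Cfsg.Agent.H192.lang_gl r e he D

/-- The matrix equation of a Hermitian matrix over a finite field: `D = z (z^σ)ᵀ`. -/
theorem herm_std {F : Type*} [Field F] [Fintype F] {q : ℕ} (hF : Fintype.card F = q ^ 2)
    {D : GL (Fin n) F} (hD : ∀ i j, (D : Matrix (Fin n) (Fin n) F) i j ^ q = (D : Matrix (Fin n) (Fin n) F) j i) :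
    ∃ W : GL (Fin n) F, (W : Matrix (Fin n) (Fin n) F)ᵀ * (D : Matrix (Fin n) (Fin n) F) *
      (W : Matrix (Fin n) (Fin n) F).map (· ^ q) = 1 := by
  classical
  obtain ⟨σ, hσ⟩ := Cfsg.Agent.ClassicalGeometry.GUBasic.exists_powHom hF
  have hσσ : ∀ a, σ (σ a) = a := by
    intro a
    rw [hσ, hσ, ← pow_mul, ← sq, ← hF, FiniteField.pow_card]
  have hq := Cfsg.Agent.ClassicalGeometry.GUBasic.two_le hF
  have hσ1 : σ ≠ RingHom.id F := by
    intro h
    have h1 : ∀ x : F, x ^ q = x := fun x => by rw [← hσ, h]; rfl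
    have hne := FiniteField.X_pow_card_sub_X_ne_zero F (show 1 < q by omega)
    have h2 : Fintype.card F ≤ (Polynomial.X ^ q - Polynomial.X : Polynomial F).roots.toFinset.card := by
      rw [← Finset.card_univ]
      refine Finset.card_le_card fun x _ => ?_
      rw [Multiset.mem_toFinset, Polynomial.mem_roots hne, Polynomial.IsRoot.def, Polynomial.eval_sub,
        Polynomial.eval_pow, Polynomial.eval_X, sub_eq_zero]
      exact h1 x
    have h3 := h2.trans ((Multiset.toFinset_card_le _).trans (Polynomial.card_roots' _))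
    rw [FiniteField.X_pow_card_sub_X_natDegree_eq F (show 1 < q by omega), hF] at h3
    nlinarith only [hq, h3]
  let B : (Fin n → F) →ₛₗ[σ] (Fin n → F) →ₗ[F] F :=
    LinearMap.mk₂'ₛₗ σ (RingHom.id F) (fun v u => ∑ i, ∑ j, u i * (D : Matrix (Fin n) (Fin n) F) i j * v j ^ q)
      (by
        intro v v' u
        rw [← Finset.sum_add_distrib]
        refine Finset.sum_congr rfl fun i _ => ?_
        rw [← Finset.sum_add_distrib]
        refine Finset.sum_congr rfl fun j _ => ?_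
        rw [Pi.add_apply, ← hσ, ← hσ, ← hσ, map_add]
        ring)
      (by
        intro c v u
        rw [smul_eq_mul, Finset.mul_sum]
        refine Finset.sum_congr rfl fun i _ => ?_
        rw [Finset.mul_sum]
        refine Finset.sum_congr rfl fun j _ => ?_
        rw [Pi.smul_apply, smul_eq_mul, mul_pow, ← hσ c]
        ring)
      (by
        intro v u u'
        rw [← Finset.sum_add_distrib]
        refine Finset.sum_congr rfl fun i _ => ?_
        rw [← Finset.sum_add_distrib]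
        refine Finset.sum_congr rfl fun j _ => ?_
        rw [Pi.add_apply]
        ring)
      (by
        intro c v u
        rw [RingHom.id_apply, smul_eq_mul, Finset.mul_sum]
        refine Finset.sum_congr rfl fun i _ => ?_
        rw [Finset.mul_sum]
        refine Finset.sum_congr rfl fun j _ => ?_
        rw [Pi.smul_apply, smul_eq_mul]
        ring)
  have hB : ∀ v u, B v u = ∑ i, ∑ j, u i * (D : Matrix (Fin n) (Fin n) F) i j * v j ^ q := fun v u => rfl
  have hS : B.IsSymm := ⟨fun v u => by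
    rw [hB, hB, map_sum]
    simp only [map_sum, map_mul]
    rw [Finset.sum_comm]
    refine Finset.sum_congr rfl fun i _ => Finset.sum_congr rfl fun j _ => ?_
    rw [← hσ (v i), hσσ, hσ, hσ, hD]
    ring⟩
  have hsep : B.SeparatingLeft := by
    intro v hv
    have h1 : (D : Matrix (Fin n) (Fin n) F) *ᵥ (fun j => v j ^ q) = 0 := by
      funext i
      have := hv (Pi.single i 1)
      rw [hB, Finset.sum_eq_single i] at this
      · simp only [Pi.single_eq_same, one_mul] at this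
        exact this
      · intro b _ hb
        simp [Pi.single_eq_of_ne hb]
      · simp
    have h2 : (fun j => v j ^ q) = 0 := by
      have h3 := congrArg (((D⁻¹ : GL (Fin n) F) : Matrix (Fin n) (Fin n) F) *ᵥ ·) h1
      simp only [Matrix.mulVec_mulVec, Matrix.mulVec_zero] at h3
      rwa [← Units.val_mul, inv_mul_cancel, Units.val_one, Matrix.one_mulVec] at h3
    funext j
    exact pow_eq_zero_iff (show q ≠ 0 by omega) |>.1 (congrFun h2 j)
  obtain ⟨w, hw⟩ := Cfsg.Agent.ClassicalGeometry.HermOrthonormal.exists_orthonormal_family hσ1 hσσ B hS hsep n (by simp)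
  have hW : (Matrix.of fun i a => w a i)ᵀ * (D : Matrix (Fin n) (Fin n) F) *
      (Matrix.of fun i a => w a i).map (· ^ q) = 1 := by
    ext a c
    rw [Matrix.mul_assoc, Matrix.mul_apply]
    have h1 := hw c a
    rw [hB] at h1
    have h2 : ∀ i, (Matrix.of fun i a => w a i)ᵀ a i * ((D : Matrix (Fin n) (Fin n) F) *
        (Matrix.of fun i a => w a i).map (· ^ q)) i c =
        ∑ j, w a i * (D : Matrix (Fin n) (Fin n) F) i j * w c j ^ q := by
      intro i
      rw [Matrix.transpose_apply, Matrix.of_apply, Matrix.mul_apply, Finset.mul_sum]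
      refine Finset.sum_congr rfl fun j _ => ?_
      rw [Matrix.map_apply, Matrix.of_apply, mul_assoc]
    rw [Finset.sum_congr rfl fun i _ => h2 i, h1, Matrix.one_apply]
    simp only [eq_comm]
  have hdet : IsUnit (Matrix.of fun i a => w a i : Matrix (Fin n) (Fin n) F).det := by
    rw [isUnit_iff_ne_zero]
    intro h
    have h3 := congrArg Matrix.det hW
    rw [Matrix.det_mul, Matrix.det_mul, Matrix.det_transpose, h, zero_mul, zero_mul, Matrix.det_one] at h3
    exact zero_ne_one h3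
  exact ⟨Matrix.GeneralLinearGroup.mk'' _ hdet, hW⟩

/-- **Lang's theorem** for `it ∘ fr`. -/
theorem lang_it (he : 0 < e) (D : GL (Fin n) k) : ∃ x : GL (Fin n) k, D = x * (it (fr r e x))⁻¹ := by
  have he2 : 0 < e + e := by omega
  set! ct : GL (Fin n) k →* GL (Fin n) k := it.comp (fr r e) with hct
  have hctct : ∀ g, ct (ct g) = fr r (e + e) g := by
    intro g
    show it (fr r e (it (fr r e g))) = _
    rw [← it_fr, it_it, fr_fr]
  obtain ⟨y, hy⟩ := lang_fr (r := r) he2 (D * ct D)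
  set! D' := y⁻¹ * D * ct y with hD'
  have h1 : D' * ct D' = 1 := by
    rw [hD', map_mul, map_mul, hctct, map_inv]
    calc y⁻¹ * D * ct y * ((ct y)⁻¹ * ct D * fr r (e + e) y) = y⁻¹ * (D * ct D) * fr r (e + e) y := by group
      _ = 1 := by rw [hy]; group
  have h2 : ct D' = D'⁻¹ := (inv_eq_of_mul_eq_one_right h1).symm
  have h3 : fr r (e + e) D' = D' := by rw [← hctct, h2, map_inv, h2, inv_inv]
  obtain ⟨D₀, hD₀⟩ := exists_ex h3
  -- `D'` is Hermitian
  have h4 : ∀ i j, (D' : Matrix (Fin n) (Fin n) k) i j ^ r ^ e = (D' : Matrix (Fin n) (Fin n) k) j i := by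
    intro i j
    have h5 : (ct D')⁻¹ = D' := by rw [h2, inv_inv]
    have h6 : ((ct D')⁻¹ : GL (Fin n) k).1 = (fr r e D' : Matrix (Fin n) (Fin n) k)ᵀ := it_inv_coe _
    rw [h5] at h6
    have h8 := congrFun (congrFun h6 j) i
    rw [Matrix.transpose_apply, fr_apply] at h8
    exact h8.symm
  have := finite_Fk (k := k) (r := r) he2
  let _ : Fintype (Fk r (e + e) : Subfield k) := Fintype.ofFinite _
  have hcard : Fintype.card (Fk r (e + e) : Subfield k) = (r ^ e) ^ 2 := by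
    rw [← Nat.card_eq_fintype_card, card_Fk_alg he2, ← pow_mul, mul_two]
  obtain ⟨W, hW⟩ := herm_std hcard (D := D₀) (by
    intro i j
    apply Subtype.ext
    have := h4 i j
    rw [← hD₀, ex_apply, ex_apply] at this
    exact this)
  set! w := ex n (Fk r (e + e)) W with hw
  have h7 : (it w)⁻¹ * D' * fr r e w = 1 := by
    apply Units.ext
    ext i j
    have h8 := congrArg Subtype.val (congrFun (congrFun hW i) j)
    rw [← hD₀, Units.val_mul, Units.val_mul, it_inv_coe]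
    rw [Matrix.mul_apply] at h8 ⊢
    push_cast at h8
    rw [Units.val_one]
    have h9 : (((1 : Matrix (Fin n) (Fin n) (Fk r (e + e) : Subfield k)) i j : (Fk r (e + e) : Subfield k)) : k) =
        (1 : Matrix (Fin n) (Fin n) k) i j := by
      by_cases hij : i = j
      · subst hij; simp
      · rw [Matrix.one_apply_ne hij, Matrix.one_apply_ne hij]; rfl
    rw [← h9, ← h8]
    refine Finset.sum_congr rfl fun a _ => ?_
    congr 1
    rw [Matrix.mul_apply, Matrix.mul_apply]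
    push_cast
    rfl
  refine ⟨y * it w, ?_⟩
  have h10 : it (fr r e (it w)) = fr r e w := by rw [← it_fr, it_it]
  have h11 : it (fr r e (y * it w)) = ct y * fr r e w := by rw [map_mul, map_mul, h10]; rfl
  rw [h11]
  have h12 : D' = it w * (fr r e w)⁻¹ := by
    have := h7
    calc D' = it w * ((it w)⁻¹ * D' * fr r e w) * (fr r e w)⁻¹ := by group
      _ = _ := by rw [h7, mul_one]
  calc D = y * D' * (ct y)⁻¹ := by rw [hD']; group
    _ = _ := by rw [h12]; group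

/-- The fixed points of `it ∘ fr` are unitary. -/
theorem mem_GU_of_it {F₀ : Subfield k} {g₀ : GL (Fin n) F₀} (hg : it (fr r e (ex n F₀ g₀)) = ex n F₀ g₀) :
    g₀ ∈ GU n F₀ (r ^ e) := by
  have h1 : (ex n F₀ g₀ : Matrix (Fin n) (Fin n) k)ᵀ * (fr r e (ex n F₀ g₀) : Matrix (Fin n) (Fin n) k) = 1 := by
    have h2 : it (ex n F₀ g₀) = fr r e (ex n F₀ g₀) := by
      conv_lhs => rw [← hg]
      rw [it_it]
    rw [← h2, ← it_inv_coe, ← Units.val_mul, inv_mul_cancel, Units.val_one]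
  have h2 : (g₀ : Matrix (Fin n) (Fin n) F₀)ᵀ * (g₀ : Matrix (Fin n) (Fin n) F₀).map (· ^ r ^ e) = 1 := by
    ext i j
    have h3 := congrFun (congrFun h1 i) j
    rw [Matrix.mul_apply] at h3
    rw [Matrix.mul_apply]
    push_cast
    have h4 : (((1 : Matrix (Fin n) (Fin n) F₀) i j : F₀) : k) = (1 : Matrix (Fin n) (Fin n) k) i j := by
      by_cases hij : i = j
      · subst hij; simp
      · rw [Matrix.one_apply_ne hij, Matrix.one_apply_ne hij]; rfl
    rw [h4, ← h3]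
    rfl
  have : CharP F₀ r := by
    refine ⟨fun x => ?_⟩
    rw [← CharP.cast_eq_zero_iff k r x]
    constructor
    · intro h
      have := congrArg (fun z : F₀ => (z : k)) h
      simpa only [_root_.SubringClass.coe_natCast, _root_.ZeroMemClass.coe_zero] using this
    · intro h
      apply Subtype.ext
      simpa only [_root_.SubringClass.coe_natCast, _root_.ZeroMemClass.coe_zero] using h
  rw [mem_GU_iff]
  intro u v
  have h5 : ∀ (A : Matrix (Fin n) (Fin n) F₀) (v : Fin n → F₀),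
      (fun i => (A *ᵥ v) i ^ r ^ e) = (A.map (· ^ r ^ e)) *ᵥ (fun i => v i ^ r ^ e) := by
    intro A v
    funext i
    have h6 : ∀ x : F₀, x ^ r ^ e = iterateFrobenius F₀ r e x := fun x => rfl
    rw [h6, Matrix.mulVec, dotProduct, map_sum, Matrix.mulVec, dotProduct]
    refine Finset.sum_congr rfl fun j _ => ?_
    rw [map_mul]
    rfl
  have h7 : ∀ u v : Fin n → F₀, hermForm n F₀ (r ^ e) u v = u ⬝ᵥ (fun i => v i ^ r ^ e) := fun u v => rfl
  rw [h7, h7, h5, Matrix.dotProduct_mulVec, Matrix.vecMul_mulVec, ← Matrix.dotProduct_mulVec] at *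
  rw [h2, Matrix.one_mulVec]

/-- Unitary matrices are fixed by `it ∘ fr`. -/
theorem it_of_mem_GU {F₀ : Subfield k} {g₀ : GL (Fin n) F₀} (hg : g₀ ∈ GU n F₀ (r ^ e)) :
    it (fr r e (ex n F₀ g₀)) = ex n F₀ g₀ := by
  have hq : r ^ e ≠ 0 := pow_ne_zero _ (Fact.out : r.Prime).ne_zero
  have h1 := Cfsg.Agent.ClassicalGeometry.GUBasic.transpose_mul_map hq ((mem_GU_iff g₀).1 hg)
  have h2 : (it (ex n F₀ g₀))⁻¹ * fr r e (ex n F₀ g₀) = 1 := by
    apply Units.ext
    ext i j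
    have h3 := congrArg Subtype.val (congrFun (congrFun h1 i) j)
    rw [Units.val_mul, it_inv_coe]
    rw [Matrix.mul_apply] at h3 ⊢
    push_cast at h3
    have h4 : (((1 : Matrix (Fin n) (Fin n) F₀) i j : F₀) : k) = (1 : Matrix (Fin n) (Fin n) k) i j := by
      by_cases hij : i = j
      · subst hij; simp
      · rw [Matrix.one_apply_ne hij, Matrix.one_apply_ne hij]; rfl
    rw [Units.val_one, ← h4, ← h3]
    rfl
  have h3 : fr r e (ex n F₀ g₀) = it (ex n F₀ g₀) := (inv_mul_eq_one.1 h2).symm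
  rw [h3, it_it]

end Lang

end Cfsg.Agent.H321.Ker
end

-- part: H321/Ker/Alg
section
/-!
# S2187, kernel row, algebraic form

`k` algebraically closed of characteristic `r`, `τ` a Frobenius map of `GL_p(k)` : `g ↦ D g^(q) D⁻¹` or
`g ↦ D (g^(q))^{-T} D⁻¹`, `q = r ^ e`, `e > 0`; `a b = ζ b a`, `ζ ≠ 1`, `a ^ p`, `b ^ p` scalars, `τ a ∈ k^* a`,
`τ b ∈ k^* b`. Then the `τ`-fixed points of `SL_p(k)` are generated by those which commute with a non-scalar element of
`⟨a, b⟩`.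
-/

set_option autoImplicit false
set_option linter.unusedSectionVars false

universe u

namespace Cfsg.Agent.H321.Ker

open Cfsg Cfsg.Geo
open scoped MatrixGroups Matrix
open Cfsg.Agent.LieClassical.HermBasic
open Cfsg.Agent.H918 (SUg)

/-- A Frobenius map of `GL_n(k)`. -/
structure Std {n : ℕ} [NeZero n] {k : Type u} [Field k] (r e : ℕ) [Fact r.Prime] [CharP k r] (D : GL (Fin n) k)
    (uni : Bool) (τ : GL (Fin n) k →* GL (Fin n) k) : Prop where
  lin : uni = false → ∀ g, τ g = D * fr r e g * D⁻¹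
  uni : uni = true → ∀ g, τ g = D * it (fr r e g) * D⁻¹

section

variable {n : ℕ} [NeZero n] {k : Type u} [Field k] [IsAlgClosed k] {r e : ℕ} [Fact r.Prime] [CharP k r]

/-- roots in `k` -/
theorem exists_root {m : ℕ} (hm : 0 < m) (z : kˣ) : ∃ w : kˣ, w ^ m = z := by
  obtain ⟨w, hw⟩ := IsAlgClosed.exists_pow_nat_eq (z : k) hm
  have hw0 : w ≠ 0 := by
    rintro rfl
    rw [zero_pow hm.ne'] at hw
    exact z.ne_zero hw.symm
  exact ⟨Units.mk0 w hw0, Units.ext (by rw [Units.val_pow_eq_pow_val, Units.val_mk0, hw])⟩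

/-- The centralisers in `G` of non-scalar elements of `H`, conjugated and extended. -/
theorem map_closure {F₀ : Subfield k} {x : GL (Fin n) k} {a b : GL (Fin n) k} {a₀ b₀ : GL (Fin n) F₀} {μ ν : kˣ}
    (ha : x * ex n F₀ a₀ * x⁻¹ = sc n μ * a) (hb : x * ex n F₀ b₀ * x⁻¹ = sc n ν * b) {f : GL (Fin n) F₀}
    (hf : f ∈ Subgroup.closure {a₀, b₀}) :
    ∃ f' ∈ Subgroup.closure {a, b}, ∃ z, x * ex n F₀ f * x⁻¹ = sc n z * f' := by
  have hl : Subgroup.closure {a, b} ≤ Subgroup.closure {a, b} ⊔ scalars (Fin n) k := le_sup_left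
  have hr : scalars (Fin n) k ≤ Subgroup.closure {a, b} ⊔ scalars (Fin n) k := le_sup_right
  have h1 : Subgroup.closure {a₀, b₀} ≤
      (Subgroup.closure {a, b} ⊔ scalars (Fin n) k).comap ((MulAut.conj x).toMonoidHom.comp (ex n F₀)) := by
    rw [Subgroup.closure_le]
    rintro y (rfl | rfl)
    · show x * ex n F₀ y * x⁻¹ ∈ Subgroup.closure {a, b} ⊔ scalars (Fin n) k
      rw [ha]
      exact (Subgroup.closure {a, b} ⊔ scalars (Fin n) k).mul_mem (hr (sc_mem μ))
        (hl (Subgroup.subset_closure (by simp)))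
    · show x * ex n F₀ y * x⁻¹ ∈ Subgroup.closure {a, b} ⊔ scalars (Fin n) k
      rw [hb]
      exact (Subgroup.closure {a, b} ⊔ scalars (Fin n) k).mul_mem (hr (sc_mem ν))
        (hl (Subgroup.subset_closure (by simp)))
  have h2 : x * ex n F₀ f * x⁻¹ ∈ Subgroup.closure {a, b} ⊔ scalars (Fin n) k := h1 hf
  obtain ⟨f', hf', z, hz, h3⟩ := Subgroup.mem_sup_of_normal_right.1 h2
  obtain ⟨c, rfl⟩ := mem_scalars_iff_sc.1 hz
  exact ⟨f', hf', c, by rw [← h3, sc_comm]⟩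

theorem not_scalar_conj {F₀ : Subfield k} {x : GL (Fin n) k} {f : GL (Fin n) F₀} (hf : f ∉ scalars (Fin n) F₀)
    {f' : GL (Fin n) k} {z : kˣ} (h : x * ex n F₀ f * x⁻¹ = sc n z * f') : f' ∉ scalars (Fin n) k := by
  intro hs
  apply ex_not_scalar hf
  have h1 : x * ex n F₀ f * x⁻¹ ∈ scalars (Fin n) k := by
    rw [h]
    exact (scalars (Fin n) k).mul_mem (sc_mem z) hs
  have := conj_mem_scalars (x := x⁻¹) h1
  simpa only [mul_assoc, _root_.inv_mul_cancel_left, _root_.inv_inv, _root_.inv_mul_cancel, _root_.mul_one] using this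

/-- descent: from a generation theorem over `F₀` to one over `k`. -/
theorem descent {F₀ : Subfield k} {x : GL (Fin n) k} {a b : GL (Fin n) k} {a₀ b₀ : GL (Fin n) F₀} {μ ν : kˣ}
    (ha : x * ex n F₀ a₀ * x⁻¹ = sc n μ * a) (hb : x * ex n F₀ b₀ * x⁻¹ = sc n ν * b)
    {G₀ : Subgroup (GL (Fin n) F₀)} {M : Subgroup (GL (Fin n) k)}
    (hgen : Mc G₀ (Subgroup.closure {a₀, b₀}) = G₀)
    (hM : ∀ f ∈ Subgroup.closure {a, b}, f ∉ scalars (Fin n) k → ∀ g₀ ∈ G₀,
      x * ex n F₀ g₀ * x⁻¹ * f = f * (x * ex n F₀ g₀ * x⁻¹) → x * ex n F₀ g₀ * x⁻¹ ∈ M)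
    {g₀ : GL (Fin n) F₀} (hg : g₀ ∈ G₀) : x * ex n F₀ g₀ * x⁻¹ ∈ M := by
  have h1 : Mc G₀ (Subgroup.closure {a₀, b₀}) ≤ M.comap ((MulAut.conj x).toMonoidHom.comp (ex n F₀)) := by
    refine (Subgroup.closure_le _).2 ?_
    rintro y ⟨hy, f, hf, hs, hc⟩
    show x * ex n F₀ y * x⁻¹ ∈ M
    obtain ⟨f', hf', z, hz⟩ := map_closure ha hb hf
    refine hM f' hf' (not_scalar_conj hs hz) y hy ?_
    have h2 : ex n F₀ y * ex n F₀ f = ex n F₀ f * ex n F₀ y := by rw [← map_mul, hc, map_mul]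
    have h3 : (x * ex n F₀ y * x⁻¹) * (sc n z * f') = (sc n z * f') * (x * ex n F₀ y * x⁻¹) := by
      rw [← hz]
      calc x * ex n F₀ y * x⁻¹ * (x * ex n F₀ f * x⁻¹) = x * (ex n F₀ y * ex n F₀ f) * x⁻¹ := by group
        _ = _ := by rw [h2]; group
    have h4 : sc n z * ((x * ex n F₀ y * x⁻¹) * f') = sc n z * (f' * (x * ex n F₀ y * x⁻¹)) := by
      rw [← mul_assoc, sc_comm, mul_assoc, h3, mul_assoc]
    exact mul_left_cancel h4
  have h2 : g₀ ∈ Mc G₀ (Subgroup.closure {a₀, b₀}) := by rw [hgen]; exact hg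
  exact h1 h2

end

section Main

variable {p : ℕ} [hp : Fact p.Prime] [NeZero p] {k : Type u} [Field k] [IsAlgClosed k] {r e : ℕ} [Fact r.Prime]
  [CharP k r]

theorem comm_ex {F₀ : Subfield k} {x : GL (Fin p) k} {a b : GL (Fin p) k} {a₀ b₀ : GL (Fin p) F₀} {μ ν ζ : kˣ}
    (ha : x * ex p F₀ a₀ * x⁻¹ = sc p μ * a) (hb : x * ex p F₀ b₀ * x⁻¹ = sc p ν * b) (hζ1 : ζ ≠ 1)
    (hab : a * b = sc p ζ * (b * a)) (hap : a ^ p ∈ scalars (Fin p) k) (hbp : b ^ p ∈ scalars (Fin p) k) :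
    (∃ ζ₀ : F₀ˣ, ζ₀ ≠ 1 ∧ (a₀ : Matrix (Fin p) (Fin p) F₀) * b₀ =
      (ζ₀ : F₀) • ((b₀ : Matrix (Fin p) (Fin p) F₀) * a₀)) ∧ a₀ ^ p ∈ scalars (Fin p) F₀ ∧
      b₀ ^ p ∈ scalars (Fin p) F₀ := by
  have hconj : ∀ y : GL (Fin p) k, x⁻¹ * (x * y * x⁻¹) * x = y := fun y => by group
  have hpow : ∀ {c : GL (Fin p) k} {c₀ : GL (Fin p) F₀} {m : kˣ}, x * ex p F₀ c₀ * x⁻¹ = sc p m * c →
      c ^ p ∈ scalars (Fin p) k → c₀ ^ p ∈ scalars (Fin p) F₀ := by
    intro c c₀ m hc hcp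
    by_contra hcon
    refine not_scalar_conj (x := x) (z := m ^ p) (f' := c ^ p) hcon ?_ hcp
    rw [map_pow, ← conj_pow, hc]
    have h1 : Commute (sc p m) c := sc_comm m c
    rw [h1.mul_pow, sc_pow]
  refine ⟨?_, hpow ha hap, hpow hb hbp⟩
  have h1 : ex p F₀ (a₀ * b₀ * (b₀ * a₀)⁻¹) = sc p ζ := by
    have h2 : x * ex p F₀ (a₀ * b₀ * (b₀ * a₀)⁻¹) * x⁻¹ = sc p ζ := by
      have h3 : x * ex p F₀ (a₀ * b₀ * (b₀ * a₀)⁻¹) * x⁻¹ = (x * ex p F₀ a₀ * x⁻¹) * (x * ex p F₀ b₀ * x⁻¹) *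
          ((x * ex p F₀ b₀ * x⁻¹) * (x * ex p F₀ a₀ * x⁻¹))⁻¹ := by
        simp only [map_mul, map_inv]
        group
      rw [h3, ha, hb]
      have h4 : sc p μ * a * (sc p ν * b) = sc p μ * sc p ν * (a * b) := by
        rw [mul_assoc, mul_assoc, ← mul_assoc a, ← sc_comm ν a, mul_assoc (sc p ν)]
      have h5 : sc p ν * b * (sc p μ * a) = sc p μ * sc p ν * (b * a) := by
        rw [mul_assoc, ← mul_assoc b, ← sc_comm μ b, mul_assoc (sc p μ), ← mul_assoc, sc_comm ν (sc p μ)]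
      rw [h4, h5, hab, mul_inv_rev (sc p μ * sc p ν), ← mul_assoc, mul_assoc (sc p μ * sc p ν), mul_assoc (sc p ζ),
        mul_inv_cancel, mul_one, ← sc_mul, sc_comm (μ * ν) (sc p ζ), mul_inv_cancel_right]
    have h6 := hconj (ex p F₀ (a₀ * b₀ * (b₀ * a₀)⁻¹))
    rw [h2, ← sc_comm, mul_assoc, inv_mul_cancel, mul_one] at h6
    exact h6.symm
  set c := a₀ * b₀ * (b₀ * a₀)⁻¹ with hc
  have h2 : c ∈ scalars (Fin p) F₀ := by
    by_contra hcon
    exact ex_not_scalar hcon (by rw [h1]; exact sc_mem ζ)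
  obtain ⟨ζ₀, hζ₀⟩ := mem_scalars_iff_sc.1 h2
  refine ⟨ζ₀, ?_, ?_⟩
  · rintro rfl
    rw [hζ₀, sc_one, map_one] at h1
    have h3 : ((1 : GL (Fin p) k) : Matrix (Fin p) (Fin p) k) 0 0 = (sc p ζ : Matrix (Fin p) (Fin p) k) 0 0 := by
      rw [h1]
    rw [sc_coe, Units.val_one, Matrix.smul_apply, Matrix.one_apply_eq, smul_eq_mul, mul_one] at h3
    exact hζ1 (Units.ext h3.symm)
  · have h3 : a₀ * b₀ = sc p ζ₀ * (b₀ * a₀) := by rw [← hζ₀, hc, inv_mul_cancel_right]
    rw [← Units.val_mul, h3, Units.val_mul, sc_coe, Matrix.smul_mul, one_mul, Units.val_mul]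

/-- **Kernel row, algebraic form.** -/
theorem gen_alg_of (h2 : p ≠ 2) (L : LinFacts.{u} p) (U : UniFacts.{u} p) (h7 : 7 ≤ p ∨ r ≠ 2) (he : 0 < e)
    {D : GL (Fin p) k} {uni : Bool} {τ : GL (Fin p) k →* GL (Fin p) k} (hτ : Std r e D uni τ)
    {a b : GL (Fin p) k} {ζ : kˣ} (hζ1 : ζ ≠ 1) (hab : a * b = sc p ζ * (b * a))
    (hap : a ^ p ∈ scalars (Fin p) k) (hbp : b ^ p ∈ scalars (Fin p) k) {l m : kˣ} (hτa : τ a = sc p l * a)
    (hτb : τ b = sc p m * b) {M : Subgroup (GL (Fin p) k)}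
    (hM : ∀ f ∈ Subgroup.closure {a, b}, f ∉ scalars (Fin p) k → ∀ g ∈ specialLinear (Fin p) k, τ g = g →
      g * f = f * g → g ∈ M) {g : GL (Fin p) k} (hg : g ∈ specialLinear (Fin p) k) (hτg : τ g = g) : g ∈ M := by
  classical
  have hr1 := (Fact.out : r.Prime).one_lt
  have hq : 1 < r ^ e := Nat.one_lt_pow he.ne' hr1
  have h2k : ∀ F₀ : Subfield k, 7 ≤ p ∨ (2 : F₀) ≠ 0 := by
    intro F₀
    refine h7.imp_right fun hr h => hr ?_
    have h3 : ((2 : ℕ) : k) = 0 := by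
      have h4 : (((2 : ℕ) : F₀) : k) = 0 := by
        rw [Nat.cast_ofNat, h]; rfl
      rw [← h4]; push_cast; rfl
    rw [CharP.cast_eq_zero_iff k r] at h3
    exact (Nat.prime_dvd_prime_iff_eq Fact.out Nat.prime_two).1 h3
  cases uni with
  | false =>
    have hτ' := hτ.lin rfl
    obtain ⟨x, hx⟩ := lang_fr (r := r) he D
    have hfx : ∀ y : GL (Fin p) k, fr r e (x⁻¹ * y * x) = x⁻¹ * τ y * x := by
      intro y
      rw [hτ', map_mul, map_mul, map_inv, hx]
      group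
    have hfix : ∀ {c : GL (Fin p) k} {s : kˣ}, τ c = sc p s * c → ∃ (c₀ : GL (Fin p) (Fk r e : Subfield k)) (t : kˣ),
        x * ex p (Fk r e) c₀ * x⁻¹ = sc p t * c := by
      intro c s hc
      obtain ⟨t, ht⟩ := exists_root (show 0 < r ^ e - 1 by omega) s⁻¹
      have h3 : fr r e (sc p t * (x⁻¹ * c * x)) = sc p t * (x⁻¹ * c * x) := by
        rw [map_mul, hfx, hc, fr_sc]
        have h4 : t ^ r ^ e * s = t := by
          calc t ^ r ^ e * s = t ^ (r ^ e - 1 + 1) * s := by rw [Nat.sub_add_cancel hq.le]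
            _ = _ := by rw [pow_succ, ht, mul_assoc, mul_comm t s, inv_mul_cancel_left]
        calc sc p (t ^ r ^ e) * (x⁻¹ * (sc p s * c) * x) = sc p (t ^ r ^ e) * ((x⁻¹ * sc p s) * c * x) := by
              simp only [mul_assoc]
          _ = sc p (t ^ r ^ e) * sc p s * (x⁻¹ * c * x) := by rw [← sc_comm s x⁻¹]; simp only [mul_assoc]
          _ = _ := by rw [← sc_mul, h4]
      obtain ⟨c₀, hc₀⟩ := exists_ex h3
      refine ⟨c₀, t, ?_⟩
      rw [hc₀, ← mul_assoc x, ← sc_comm t x]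
      group
    obtain ⟨a₀, μ, ha⟩ := hfix hτa
    obtain ⟨b₀, ν, hb⟩ := hfix hτb
    obtain ⟨⟨ζ₀, hζ₀, hab₀⟩, hap₀, hbp₀⟩ := comm_ex ha hb hζ1 hab hap hbp
    have := finite_Fk (k := k) (r := r) he
    let _ : Fintype (Fk r e : Subfield k) := Fintype.ofFinite _
    have hgen := gen_SL_of h2 L U ((by exact h2k _)) (H := Subgroup.closure {a₀, b₀}) (Subgroup.subset_closure (by simp))
      (Subgroup.subset_closure (by simp)) hζ₀ hab₀ hap₀ hbp₀
    obtain ⟨g₀, hg₀⟩ := exists_ex (g := x⁻¹ * g * x) (by rw [hfx, hτg])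
    have hg₀S : g₀ ∈ specialLinear (Fin p) (Fk r e : Subfield k) := by
      have h3 : ex p (Fk r e) g₀ ∈ specialLinear (Fin p) k := by
        rw [hg₀]
        have := (MonoidHom.normal_ker (Matrix.GeneralLinearGroup.det : GL (Fin p) k →* kˣ)).conj_mem g hg x⁻¹
        rwa [inv_inv] at this
      rw [mem_SL_iff] at h3 ⊢
      have h4 : (ex p (Fk r e) g₀ : Matrix (Fin p) (Fin p) k) =
        ((Fk r e : Subfield k).subtype : (Fk r e : Subfield k) →+* k).mapMatrix
          (g₀ : Matrix (Fin p) (Fin p) (Fk r e : Subfield k)) := rfl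
      rw [h4, ← RingHom.map_det] at h3
      exact Subtype.ext h3
    have h5 := descent ha hb hgen (M := M) (fun f hf hs g₀ hg₀ hc => by
      refine hM f hf hs _ ?_ ?_ hc
      · exact (MonoidHom.normal_ker (Matrix.GeneralLinearGroup.det : GL (Fin p) k →* kˣ)).conj_mem _ (ex_SL hg₀) x
      · have h6 := hfx (x * ex p (Fk r e) g₀ * x⁻¹)
        have h7 : x⁻¹ * (x * ex p (Fk r e) g₀ * x⁻¹) * x = ex p (Fk r e) g₀ := by group
        rw [h7, fr_ex] at h6
        calc τ (x * ex p (Fk r e) g₀ * x⁻¹) = x * (x⁻¹ * τ (x * ex p (Fk r e) g₀ * x⁻¹) * x) * x⁻¹ := by group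
          _ = _ := by rw [← h6]) hg₀S
    rw [hg₀] at h5
    have h6 : x * (x⁻¹ * g * x) * x⁻¹ = g := by group
    rwa [h6] at h5
  | true =>
    have hτ' := hτ.uni rfl
    obtain ⟨x, hx⟩ := lang_it (r := r) he D
    have he2 : 0 < e + e := by omega
    have hfx : ∀ y : GL (Fin p) k, it (fr r e (x⁻¹ * y * x)) = x⁻¹ * τ y * x := by
      intro y
      rw [hτ', map_mul, map_mul, map_mul, map_mul, map_inv, map_inv, hx]
      group
    have hctct : ∀ g : GL (Fin p) k, it (fr r e (it (fr r e g))) = fr r (e + e) g := by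
      intro g
      rw [← it_fr, it_it, fr_fr]
    have hex : ∀ {c : GL (Fin p) k}, it (fr r e c) = c → ∃ c₀ : GL (Fin p) (Fk r (e + e) : Subfield k),
        c₀ ∈ GU p (Fk r (e + e) : Subfield k) (r ^ e) ∧ ex p (Fk r (e + e)) c₀ = c := by
      intro c hc
      obtain ⟨c₀, hc₀⟩ := exists_ex (r := r) (e := e + e) (g := c) (by rw [← hctct, hc, hc])
      exact ⟨c₀, mem_GU_of_it (by rw [hc₀, hc]), hc₀⟩
    have hfix : ∀ {c : GL (Fin p) k} {s : kˣ}, τ c = sc p s * c → ∃ (c₀ : GL (Fin p) (Fk r (e + e) : Subfield k))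
        (t : kˣ), c₀ ∈ GU p (Fk r (e + e) : Subfield k) (r ^ e) ∧ x * ex p (Fk r (e + e)) c₀ * x⁻¹ = sc p t * c := by
      intro c s hc
      obtain ⟨t, ht⟩ := exists_root (show 0 < r ^ e + 1 by omega) s
      have h3 : it (fr r e (sc p t * (x⁻¹ * c * x))) = sc p t * (x⁻¹ * c * x) := by
        rw [map_mul, map_mul, hfx, hc, fr_sc, it_sc]
        have h4 : (t ^ r ^ e)⁻¹ * s = t := by
          rw [← ht, pow_succ, inv_mul_cancel_left]
        calc sc p (t ^ r ^ e)⁻¹ * (x⁻¹ * (sc p s * c) * x) = sc p (t ^ r ^ e)⁻¹ * ((x⁻¹ * sc p s) * c * x) := by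
              simp only [mul_assoc]
          _ = sc p (t ^ r ^ e)⁻¹ * sc p s * (x⁻¹ * c * x) := by rw [← sc_comm s x⁻¹]; simp only [mul_assoc]
          _ = _ := by rw [← sc_mul, h4]
      obtain ⟨c₀, hcU, hc₀⟩ := hex h3
      refine ⟨c₀, t, hcU, ?_⟩
      rw [hc₀, ← mul_assoc x, ← sc_comm t x]
      group
    obtain ⟨a₀, μ, haU, ha⟩ := hfix hτa
    obtain ⟨b₀, ν, hbU, hb⟩ := hfix hτb
    obtain ⟨⟨ζ₀, hζ₀, hab₀⟩, hap₀, hbp₀⟩ := comm_ex ha hb hζ1 hab hap hbp
    have := finite_Fk (k := k) (r := r) he2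
    let _ : Fintype (Fk r (e + e) : Subfield k) := Fintype.ofFinite _
    have hcard : Fintype.card (Fk r (e + e) : Subfield k) = (r ^ e) ^ 2 := by
      rw [← Nat.card_eq_fintype_card, card_Fk_alg he2, ← pow_mul, mul_two]
    have hgen := gen_SU_of h2 U hcard (h2k _) (H := Subgroup.closure {a₀, b₀}) (Subgroup.subset_closure (by simp))
      (Subgroup.subset_closure (by simp)) haU hbU hζ₀ hab₀ hap₀ hbp₀
    obtain ⟨g₀, hg₀U, hg₀⟩ := hex (c := x⁻¹ * g * x) (by rw [hfx, hτg])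
    have hg₀S : g₀ ∈ specialLinear (Fin p) (Fk r (e + e) : Subfield k) := by
      have h3 : ex p (Fk r (e + e)) g₀ ∈ specialLinear (Fin p) k := by
        rw [hg₀]
        have := (MonoidHom.normal_ker (Matrix.GeneralLinearGroup.det : GL (Fin p) k →* kˣ)).conj_mem g hg x⁻¹
        rwa [inv_inv] at this
      rw [mem_SL_iff] at h3 ⊢
      have h4 : (ex p (Fk r (e + e)) g₀ : Matrix (Fin p) (Fin p) k) =
        ((Fk r (e + e) : Subfield k).subtype : (Fk r (e + e) : Subfield k) →+* k).mapMatrix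
          (g₀ : Matrix (Fin p) (Fin p) (Fk r (e + e) : Subfield k)) := rfl
      rw [h4, ← RingHom.map_det] at h3
      exact Subtype.ext h3
    have h5 := descent ha hb hgen (M := M) (fun f hf hs g₀ hg₀ hc => by
      refine hM f hf hs _ ?_ ?_ hc
      · exact (MonoidHom.normal_ker (Matrix.GeneralLinearGroup.det : GL (Fin p) k →* kˣ)).conj_mem _ (ex_SL hg₀.2) x
      · have h6 := hfx (x * ex p (Fk r (e + e)) g₀ * x⁻¹)
        have h7 : x⁻¹ * (x * ex p (Fk r (e + e)) g₀ * x⁻¹) * x = ex p (Fk r (e + e)) g₀ := by group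
        rw [h7, it_of_mem_GU hg₀.1] at h6
        calc τ (x * ex p (Fk r (e + e)) g₀ * x⁻¹) =
              x * (x⁻¹ * τ (x * ex p (Fk r (e + e)) g₀ * x⁻¹) * x) * x⁻¹ := by group
          _ = _ := by rw [← h6]) ⟨hg₀U, hg₀S⟩
    rw [hg₀] at h5
    have h6 : x * (x⁻¹ * g * x) * x⁻¹ = g := by group
    rwa [h6] at h5

end Main

end Cfsg.Agent.H321.Ker
end

-- part: H321/Ker/AlgTr
section
/-!
# S2187, kernel row: homomorphisms `ψ : SL_n(k) → Y` and endomorphisms of `Y` given on transvections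

* `cj x` : conjugation by `x ∈ GL_n(k)` on `SL_n(k)`, `stm r e D uni` : the Frobenius map `g ↦ D g^(q) D⁻¹` resp.
  `g ↦ D (g^(q))^{-T} D⁻¹`;
* `exists_lin`, `exists_uni` : an endomorphism `φ` of `Y` with `φ (ψ (E_ij(t))) = ψ (E_{πi,πj}(c_ij t^q))` resp.
  `= ψ (E_{πj,πi}(c_ij t^q))` is `ψ g ↦ ψ (stm … g)`, `D` monomial.
-/

set_option autoImplicit false
set_option linter.unusedSectionVars false

namespace Cfsg.Agent.H321.Ker

open Cfsg Cfsg.Geo
open scoped MatrixGroups Matrix commutatorElement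
open Matrix.SpecialLinearGroup (toGL transvection)

section Defs

variable {n : ℕ} [NeZero n] {k : Type*} [Field k]

theorem toGL_mem (g : Matrix.SpecialLinearGroup (Fin n) k) : toGL g ∈ specialLinear (Fin n) k :=
  mem_SL_iff.2 g.2

theorem toGL_inj' {g h : Matrix.SpecialLinearGroup (Fin n) k} (H : toGL g = toGL h) : g = h :=
  Subtype.ext (congrArg Units.val H)

/-- restriction to `SL` of an endomorphism of `GL` preserving `SL` -/
def resSL (T : GL (Fin n) k →* GL (Fin n) k) (hT : ∀ g ∈ specialLinear (Fin n) k, T g ∈ specialLinear (Fin n) k) :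
    Matrix.SpecialLinearGroup (Fin n) k →* Matrix.SpecialLinearGroup (Fin n) k where
  toFun g := ⟨(T (toGL g)).1, mem_SL_iff.1 (hT _ (toGL_mem g))⟩
  map_one' := by
    apply Subtype.ext
    show (T (toGL 1)).1 = 1
    rw [map_one, map_one, Units.val_one]
  map_mul' g h := by
    apply Subtype.ext
    show (T (toGL (g * h))).1 = (T (toGL g)).1 * (T (toGL h)).1
    rw [map_mul, map_mul, Units.val_mul]

theorem toGL_resSL {T : GL (Fin n) k →* GL (Fin n) k}
    {hT : ∀ g ∈ specialLinear (Fin n) k, T g ∈ specialLinear (Fin n) k} (g : Matrix.SpecialLinearGroup (Fin n) k) :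
    toGL (resSL T hT g) = T (toGL g) := Units.ext rfl

theorem conj_mem_SL (x : GL (Fin n) k) {g : GL (Fin n) k} (hg : g ∈ specialLinear (Fin n) k) :
    x * g * x⁻¹ ∈ specialLinear (Fin n) k :=
  (MonoidHom.normal_ker (Matrix.GeneralLinearGroup.det : GL (Fin n) k →* kˣ)).conj_mem g hg x

/-- conjugation by an element of `GL` on `SL` -/
def cjH (x : GL (Fin n) k) : Matrix.SpecialLinearGroup (Fin n) k →* Matrix.SpecialLinearGroup (Fin n) k :=
  resSL (MulAut.conj x).toMonoidHom fun _ hg => conj_mem_SL x hg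

theorem toGL_cjH (x : GL (Fin n) k) (g : Matrix.SpecialLinearGroup (Fin n) k) :
    toGL (cjH x g) = x * toGL g * x⁻¹ := toGL_resSL g

/-- conjugation by an element of `GL` on `SL`, as an automorphism -/
def cj : GL (Fin n) k →* MulAut (Matrix.SpecialLinearGroup (Fin n) k) where
  toFun x :=
    { toFun := cjH x
      invFun := cjH x⁻¹
      left_inv := fun g => toGL_inj' (by rw [toGL_cjH, toGL_cjH]; group)
      right_inv := fun g => toGL_inj' (by rw [toGL_cjH, toGL_cjH]; group)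
      map_mul' := map_mul _ }
  map_one' := by
    apply MulEquiv.ext
    intro g
    apply toGL_inj'
    show toGL (cjH 1 g) = _
    rw [toGL_cjH]
    show _ = toGL g
    group
  map_mul' x y := by
    apply MulEquiv.ext
    intro g
    apply toGL_inj'
    show toGL (cjH (x * y) g) = toGL (cjH x (cjH y g))
    rw [toGL_cjH, toGL_cjH, toGL_cjH]
    group

theorem toGL_cj (x : GL (Fin n) k) (g : Matrix.SpecialLinearGroup (Fin n) k) :
    toGL (cj x g) = x * toGL g * x⁻¹ := toGL_cjH x g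

variable (r e : ℕ) [Fact r.Prime] [CharP k r]

/-- The standard Frobenius maps of `GL_n(k)`. -/
def stG (D : GL (Fin n) k) : Bool → (GL (Fin n) k →* GL (Fin n) k)
  | false => (MulAut.conj D).toMonoidHom.comp (fr r e)
  | true => (MulAut.conj D).toMonoidHom.comp (it.comp (fr r e))

theorem stG_mem (D : GL (Fin n) k) (uni : Bool) {g : GL (Fin n) k} (hg : g ∈ specialLinear (Fin n) k) :
    stG r e D uni g ∈ specialLinear (Fin n) k := by
  cases uni
  · exact conj_mem_SL D (fr_SL hg)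
  · exact conj_mem_SL D (det_it (fr_SL hg))

/-- The standard Frobenius maps of `SL_n(k)`. -/
def stm (D : GL (Fin n) k) (uni : Bool) :
    Matrix.SpecialLinearGroup (Fin n) k →* Matrix.SpecialLinearGroup (Fin n) k :=
  resSL (stG r e D uni) fun _ hg => stG_mem r e D uni hg

variable {r e}

theorem stG_false (D g : GL (Fin n) k) : stG r e D false g = D * fr r e g * D⁻¹ := rfl

theorem stG_true (D g : GL (Fin n) k) : stG r e D true g = D * it (fr r e g) * D⁻¹ := rfl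

theorem toGL_stm (D : GL (Fin n) k) (uni : Bool) (g : Matrix.SpecialLinearGroup (Fin n) k) :
    toGL (stm r e D uni g) = stG r e D uni (toGL g) := toGL_resSL g

end Defs

section Trans

variable {n : ℕ} [NeZero n] {k : Type*} [Field k]

/-- The monomial matrix `e_j ↦ d_j e_{π j}`. -/
def mono (π : Equiv.Perm (Fin n)) (d : Fin n → kˣ) : GL (Fin n) k :=
  ⟨Matrix.of fun i j => if i = π j then (d j : k) else 0, Matrix.of fun i j => if j = π i then ((d i)⁻¹ : kˣ).1 else 0, by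
    ext i j
    rw [Matrix.mul_apply, Finset.sum_eq_single (π.symm i)]
    · simp only [Matrix.of_apply, Equiv.apply_symm_apply, if_true, Matrix.one_apply]
      by_cases h : i = j
      · subst h; simp
      · rw [if_neg (Ne.symm h), if_neg h, mul_zero]
    · intro b _ hb
      rw [Matrix.of_apply, if_neg, zero_mul]
      rintro rfl
      exact hb (by simp)
    · simp, by
    ext i j
    rw [Matrix.mul_apply, Finset.sum_eq_single (π i)]
    · simp only [Matrix.of_apply, if_true, Matrix.one_apply, EmbeddingLike.apply_eq_iff_eq]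
      by_cases h : i = j
      · subst h; simp
      · rw [if_neg h, if_neg h, mul_zero]
    · intro b _ hb
      rw [Matrix.of_apply, if_neg hb, zero_mul]
    · simp⟩

theorem mono_coe (π : Equiv.Perm (Fin n)) (d : Fin n → kˣ) (i j : Fin n) :
    (mono π d : Matrix (Fin n) (Fin n) k) i j = if i = π j then (d j : k) else 0 := rfl

theorem coe_transvection {i j : Fin n} (hij : i ≠ j) (t : k) :
    (toGL (transvection hij t) : Matrix (Fin n) (Fin n) k) = 1 + Matrix.single i j t := rfl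

theorem cj_mono (π : Equiv.Perm (Fin n)) (d : Fin n → kˣ) {i j : Fin n} (hij : i ≠ j) (t : k) :
    cj (mono π d) (transvection hij t) = transvection (π.injective.ne hij) (d i * t * ((d j)⁻¹ : kˣ)) := by
  apply toGL_inj'
  rw [toGL_cj, mul_inv_eq_iff_eq_mul]
  apply Units.ext
  rw [Units.val_mul, Units.val_mul, coe_transvection, coe_transvection, mul_add, add_mul, mul_one, one_mul]
  congr 1
  ext a b
  rw [Matrix.mul_apply, Matrix.mul_apply, Finset.sum_eq_single i, Finset.sum_eq_single (π j)]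
  · rw [mono_coe, mono_coe, Matrix.single_apply, Matrix.single_apply]
    by_cases ha : π i = a
    · by_cases hb : j = b
      · subst ha hb
        simp only [↓ _root_.reduceIte, _root_.and_self, _root_.Units.val_inv_eq_inv_val, _root_.ne_eq, _root_.Units.ne_zero, _root_.not_false_eq_true, _root_.inv_mul_cancel_right₀]
      · have hb' : ¬ π j = π b := fun h => hb (π.injective h)
        simp only [ha, hb, ↓ _root_.reduceIte, _root_.and_false, _root_.MulZeroClass.mul_zero, _root_.and_self, _root_.Units.val_inv_eq_inv_val, _root_.EmbeddingLike.apply_eq_iff_eq]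
    · have ha' : ¬ a = π i := fun h => ha h.symm
      simp [ha, ha']
  · intro c _ hc
    rw [Matrix.single_apply, if_neg (fun h => hc h.2.symm), zero_mul]
  · simp only [_root_.Finset.mem_univ, _root_.not_true_eq_false, _root_.Units.val_inv_eq_inv_val, _root_.mul_eq_zero, _root_.IsEmpty.forall_iff]
  · intro c _ hc
    rw [Matrix.single_apply, if_neg (fun h => hc h.1.symm), mul_zero]
  · simp

theorem fr_transvection (r e : ℕ) [Fact r.Prime] [CharP k r] {i j : Fin n} (hij : i ≠ j) (t : k) :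
    fr r e (toGL (transvection hij t)) = toGL (transvection hij (t ^ r ^ e)) := by
  have hq : r ^ e ≠ 0 := pow_ne_zero _ (Fact.out : r.Prime).ne_zero
  apply Units.ext
  ext a b
  rw [fr_apply, coe_transvection, coe_transvection, Matrix.add_apply, Matrix.add_apply, Matrix.single_apply,
    Matrix.single_apply]
  by_cases hab : a = b
  · subst hab
    have : ¬ (i = a ∧ j = a) := fun h => hij (h.1.trans h.2.symm)
    rw [if_neg this, if_neg this]
    simp
  · rw [Matrix.one_apply_ne hab]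
    split_ifs
    · simp
    · simp [zero_pow hq]

theorem it_transvection {i j : Fin n} (hij : i ≠ j) (t : k) :
    it (toGL (transvection hij t)) = toGL (transvection hij.symm (-t)) := by
  rw [← inv_inj, ← map_inv]
  apply Units.ext
  have h1 : (toGL (transvection hij.symm (-t)))⁻¹ = toGL (transvection hij.symm t) := by
    rw [← map_inv]
    congr 1
    rw [Matrix.SpecialLinearGroup.transvection_inv, neg_neg]
  rw [h1, map_inv, it_inv_coe, coe_transvection, coe_transvection, Matrix.transpose_add, Matrix.transpose_one]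
  congr 1
  ext a b
  rw [Matrix.transpose_apply, Matrix.single_apply, Matrix.single_apply]
  simp only [and_comm]

theorem stm_false_transvection (r e : ℕ) [Fact r.Prime] [CharP k r] (π : Equiv.Perm (Fin n)) (d : Fin n → kˣ)
    {i j : Fin n} (hij : i ≠ j) (t : k) : stm r e (mono π d) false (transvection hij t) =
      transvection (π.injective.ne hij) (d i * t ^ r ^ e * ((d j)⁻¹ : kˣ)) := by
  apply toGL_inj'
  rw [toGL_stm, stG_false, fr_transvection, ← toGL_cj, cj_mono]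

theorem stm_true_transvection (r e : ℕ) [Fact r.Prime] [CharP k r] (π : Equiv.Perm (Fin n)) (d : Fin n → kˣ)
    {i j : Fin n} (hij : i ≠ j) (t : k) : stm r e (mono π d) true (transvection hij t) =
      transvection (π.injective.ne hij.symm) (d j * -(t ^ r ^ e) * ((d i)⁻¹ : kˣ)) := by
  apply toGL_inj'
  rw [toGL_stm, stG_true, fr_transvection, it_transvection, ← toGL_cj, cj_mono]

/-- A multiplicative family is a coboundary. -/
theorem exists_cob (hn : 3 ≤ n) {c : Fin n → Fin n → k} (h0 : ∀ i j, i ≠ j → c i j ≠ 0)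
    (h : ∀ i j l, i ≠ j → i ≠ l → j ≠ l → c i j * c j l = c i l) :
    ∃ d : Fin n → kˣ, ∀ i j, i ≠ j → c i j = d i * ((d j)⁻¹ : kˣ) := by
  have hinv : ∀ i j, i ≠ j → c i j * c j i = 1 := by
    intro i j hij
    obtain ⟨l, hli, hlj⟩ : ∃ l : Fin n, l ≠ i ∧ l ≠ j := by
      have : ((Finset.univ.erase i).erase j : Finset (Fin n)).Nonempty := by
        rw [← Finset.card_pos, Finset.card_erase_of_mem (by simp [hij.symm]), Finset.card_erase_of_mem (by simp)]
        simp only [_root_.Finset.card_univ, _root_.Fintype.card_fin, _root_.tsub_pos_iff_lt]; omega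
      obtain ⟨l, hl⟩ := this
      exact ⟨l, by simp at hl; exact hl.2, by simp at hl; exact hl.1⟩
    -- `c i j * c j l = c i l`, `c j i * c i l = c j l`
    have h1 := h i j l hij hli.symm hlj.symm
    have h2 := h j i l hij.symm hlj.symm hli.symm
    have h3 : c i j * c j i * c i l = 1 * c i l := by rw [mul_assoc, h2, h1, one_mul]
    exact mul_right_cancel₀ (h0 i l hli.symm) h3
  refine ⟨fun i => if hi : i = 0 then 1 else Units.mk0 (c i 0) (h0 i 0 hi), fun i j hij => ?_⟩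
  beta_reduce
  by_cases hi : i = 0
  · subst hi
    have hj : j ≠ 0 := hij.symm
    rw [dif_pos rfl, dif_neg hj, Units.val_one, one_mul, Units.val_inv_eq_inv_val, Units.val_mk0]
    exact eq_inv_of_mul_eq_one_left (hinv 0 j hij)
  · by_cases hj : j = 0
    · subst hj
      rw [dif_neg hi, dif_pos rfl, Units.val_mk0, inv_one, Units.val_one, mul_one]
    · rw [dif_neg hi, dif_neg hj, Units.val_mk0, Units.val_inv_eq_inv_val, Units.val_mk0,
        eq_mul_inv_iff_mul_eq₀ (h0 j 0 hj)]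
      exact h i j 0 hij hi hj

variable {Y : Type*} [Group Y] {ψ : Matrix.SpecialLinearGroup (Fin n) k →* Y}

theorem hom_ext_transvection (hn : 3 ≤ n) {f g : Matrix.SpecialLinearGroup (Fin n) k →* Y}
    (h : ∀ (i j : Fin n) (hij : i ≠ j) (t : k), f (transvection hij t) = g (transvection hij t)) : f = g := by
  have : Nontrivial (Fin n) := Fin.nontrivial_iff_two_le.2 (by omega)
  apply MonoidHom.ext
  intro x
  refine Cfsg.Agent.LieClassical.SLGen.transvection_induction (fun x => f x = g x) h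
    (fun a b ha hb => by rw [map_mul, map_mul, ha, hb]) x

variable {r e : ℕ} [Fact r.Prime] [CharP k r] {φ : Y →* Y} {π : Equiv.Perm (Fin n)} {c : Fin n → Fin n → k}

/-- **Linear type.** -/
theorem exists_lin (hn : 3 ≤ n) (hinj : ∀ (i j : Fin n) (hij : i ≠ j), Function.Injective fun t : k => ψ (transvection hij t))
    (h0 : ∀ i j, i ≠ j → c i j ≠ 0)
    (h : ∀ (i j : Fin n) (hij : i ≠ j) (t : k),
      φ (ψ (transvection hij t)) = ψ (transvection (π.injective.ne hij) (c i j * t ^ r ^ e))) :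
    ∃ d : Fin n → kˣ, (∀ i j, i ≠ j → c i j = d i * ((d j)⁻¹ : kˣ)) ∧ ∀ g, φ (ψ g) = ψ (stm r e (mono π d) false g) := by
  have hcc : ∀ i j l, i ≠ j → i ≠ l → j ≠ l → c i j * c j l = c i l := by
    intro i j l hij hil hjl
    have h1 : (transvection hil (1 : k) : Matrix.SpecialLinearGroup (Fin n) k) =
        ⁅transvection hij (1 : k), transvection hjl (1 : k)⁆ := by
      rw [Cfsg.Agent.LieClassical.SLGen.commutator_transvection hil, one_mul]
    have h2 := h i l hil 1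
    rw [h1, map_commutatorElement, map_commutatorElement, h, h, ← map_commutatorElement,
      Cfsg.Agent.LieClassical.SLGen.commutator_transvection (π.injective.ne hil)] at h2
    have h3 := hinj _ _ _ h2
    simpa using h3
  obtain ⟨d, hd⟩ := exists_cob hn h0 hcc
  refine ⟨d, hd, fun g => ?_⟩
  have : φ.comp ψ = ψ.comp (stm r e (mono π d) false) := by
    refine hom_ext_transvection hn fun i j hij t => ?_
    rw [MonoidHom.comp_apply, MonoidHom.comp_apply, h, stm_false_transvection, hd i j hij]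
    congr 2
    ring
  exact DFunLike.congr_fun this g

/-- **Unitary type.** -/
theorem exists_uni (hn : 3 ≤ n) (hinj : ∀ (i j : Fin n) (hij : i ≠ j), Function.Injective fun t : k => ψ (transvection hij t))
    (h0 : ∀ i j, i ≠ j → c i j ≠ 0)
    (h : ∀ (i j : Fin n) (hij : i ≠ j) (t : k),
      φ (ψ (transvection hij t)) = ψ (transvection (π.injective.ne hij.symm) (c i j * t ^ r ^ e))) :
    ∃ d : Fin n → kˣ, (∀ i j, i ≠ j → c i j = -(d j * ((d i)⁻¹ : kˣ))) ∧
      ∀ g, φ (ψ g) = ψ (stm r e (mono π d) true g) := by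
  have hcc : ∀ i j l, i ≠ j → i ≠ l → j ≠ l → (-c i j) * (-c j l) = -c i l := by
    intro i j l hij hil hjl
    have h1 : (transvection hil (1 : k) : Matrix.SpecialLinearGroup (Fin n) k) =
        ⁅transvection hij (1 : k), transvection hjl (1 : k)⁆ := by
      rw [Cfsg.Agent.LieClassical.SLGen.commutator_transvection hil, one_mul]
    have h2 := h i l hil 1
    rw [h1, map_commutatorElement, map_commutatorElement, h, h, ← map_commutatorElement, ← commutatorElement_inv,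
      Cfsg.Agent.LieClassical.SLGen.commutator_transvection (π.injective.ne hil.symm),
      Matrix.SpecialLinearGroup.transvection_inv] at h2
    have h3 := hinj _ _ _ h2
    simp only [one_pow, mul_one] at h3
    rw [neg_mul_neg, ← h3]
    ring
  obtain ⟨d, hd⟩ := exists_cob (c := fun i j => -c i j) hn (fun i j hij => neg_ne_zero.2 (h0 i j hij)) hcc
  have hd' : ∀ i j, i ≠ j → c i j = -(d⁻¹ j * ((d⁻¹ i)⁻¹ : kˣ)) := by
    intro i j hij
    have := hd i j hij
    rw [Pi.inv_apply, Pi.inv_apply, inv_inv, mul_comm, ← this, neg_neg]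
  refine ⟨d⁻¹, hd', fun g => ?_⟩
  have : φ.comp ψ = ψ.comp (stm r e (mono π d⁻¹) true) := by
    refine hom_ext_transvection hn fun i j hij t => ?_
    rw [MonoidHom.comp_apply, MonoidHom.comp_apply, h, stm_true_transvection, hd' i j hij]
    congr 2
    ring
  exact DFunLike.congr_fun this g

end Trans

end Cfsg.Agent.H321.Ker
end

-- part: H321/Ker/AlgY
section
/-!
# S2187, kernel row, for a homomorphism `ψ : SL_p(k) → Y`

* `gen_hom_of` : `σ ∘ ψ = ψ ∘ stm`, `ya`, `yb` fixed by `σ`, commuting, acting on the image as `cj a`, `cj b`,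
  `a * b ≠ b * a`, `ya ^ p`, `yb ^ p` centralise the image; then a subgroup of `Y` containing the fixed `ψ g` which commute
  with some `ya ^ i * yb ^ j`, not `p ∣ i ∧ p ∣ j`, contains all fixed `ψ g`.
* `gen_cyclic_of` : `y` acts diagonally, `b` cyclically on the transvections.
-/

set_option autoImplicit false
set_option linter.unusedSectionVars false

universe u

namespace Cfsg.Agent.H321.Ker

open Cfsg Cfsg.Geo
open scoped MatrixGroups Matrix commutatorElement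
open Matrix.SpecialLinearGroup (toGL transvection)

section Cent

variable {n : ℕ} [NeZero n] {k : Type*} [Field k]

/-- A matrix commuting with all transvections is scalar. -/
theorem scalar_of_comm {x : GL (Fin n) k}
    (h : ∀ (i j : Fin n) (hij : i ≠ j) (t : k), x * toGL (transvection hij t) = toGL (transvection hij t) * x) :
    x ∈ scalars (Fin n) k := by
  have h1 : (x : Matrix (Fin n) (Fin n) k) ∈ Set.range (Matrix.scalar (Fin n)) := by
    refine Matrix.mem_range_scalar_of_commute_transvectionStruct fun t => ?_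
    have := congrArg (fun z : GL (Fin n) k => (z : Matrix (Fin n) (Fin n) k)) (h t.i t.j t.hij t.c)
    exact this.symm
  obtain ⟨c, hc⟩ := h1
  have hc0 : c ≠ 0 := by
    rintro rfl
    rw [map_zero] at hc
    have h2 : (x : Matrix (Fin n) (Fin n) k) * (x⁻¹ : GL (Fin n) k).1 = 1 := by
      rw [← Units.val_mul, mul_inv_cancel, Units.val_one]
    rw [← hc, zero_mul] at h2
    have := congrFun (congrFun h2 0) 0
    simp at this
  rw [mem_scalars_iff]
  exact ⟨Units.mk0 c hc0, by rw [← hc, Matrix.scalar_apply, Units.val_mk0, Matrix.smul_one_eq_diagonal]⟩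

theorem perfect (hn : 3 ≤ n) : commutator (Matrix.SpecialLinearGroup (Fin n) k) = ⊤ :=
  Cfsg.Agent.LieClassical.SLGen.commutator_eq_top (by simpa using hn)

/-- two homomorphisms of a perfect group which are equal modulo the centre are equal -/
theorem hom_eq_of_center {P S : Type*} [Group P] [Group S] (hP : commutator P = ⊤) {f g : P →* S}
    (h : ∀ x, f x * (g x)⁻¹ ∈ Subgroup.center S) (x : P) : f x = g x := by
  have hz0 : ∀ x, ∃ z ∈ Subgroup.center S, f x = z * g x := fun x => ⟨_, h x, by group⟩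
  have h1 : commutator P ≤ f.eqLocus g := by
    rw [commutator_def, Subgroup.commutator_le]
    intro x _ y _
    show f ⁅x, y⁆ = g ⁅x, y⁆
    obtain ⟨z, hz, hx⟩ := hz0 x
    obtain ⟨w, hw, hy⟩ := hz0 y
    rw [map_commutatorElement, map_commutatorElement, hx, hy]
    have hzc := Subgroup.mem_center_iff.1 hz
    have hwc := Subgroup.mem_center_iff.1 hw
    rw [commutatorElement_def, commutatorElement_def]
    calc z * g x * (w * g y) * (z * g x)⁻¹ * (w * g y)⁻¹ =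
          z * (g x * w) * g y * ((g x)⁻¹ * z⁻¹) * ((g y)⁻¹ * w⁻¹) := by simp only [mul_inv_rev, mul_assoc]
      _ = z * (w * g x) * g y * (z⁻¹ * (g x)⁻¹) * (w⁻¹ * (g y)⁻¹) := by
          rw [hwc (g x), Subgroup.mem_center_iff.1 (inv_mem hz) (g x)⁻¹, Subgroup.mem_center_iff.1 (inv_mem hw) (g y)⁻¹]
      _ = (z * w) * ((g x * g y) * z⁻¹) * (g x)⁻¹ * w⁻¹ * (g y)⁻¹ := by simp only [mul_assoc]
      _ = (z * w) * (z⁻¹ * (g x * g y)) * (g x)⁻¹ * w⁻¹ * (g y)⁻¹ := by
          rw [Subgroup.mem_center_iff.1 (inv_mem hz) (g x * g y)]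
      _ = (w * z) * (z⁻¹ * (g x * g y)) * (g x)⁻¹ * w⁻¹ * (g y)⁻¹ := by rw [hwc z]
      _ = w * ((g x * g y * (g x)⁻¹) * w⁻¹) * (g y)⁻¹ := by
          simp only [mul_assoc, mul_inv_cancel_left]
      _ = w * (w⁻¹ * (g x * g y * (g x)⁻¹)) * (g y)⁻¹ := by
          rw [Subgroup.mem_center_iff.1 (inv_mem hw) (g x * g y * (g x)⁻¹)]
      _ = _ := by rw [mul_inv_cancel_left]
  rw [hP] at h1
  exact h1 (Subgroup.mem_top x)

/-- The kernel of a homomorphism which is not trivial on the transvections is central. -/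
theorem ker_le_center (hn : 3 ≤ n) {Y : Type*} [Group Y] {ψ : Matrix.SpecialLinearGroup (Fin n) k →* Y}
    (hψ : ∃ g, ψ g ≠ 1) : ψ.ker ≤ Subgroup.center (Matrix.SpecialLinearGroup (Fin n) k) := by
  have : Nontrivial (Fin n) := Fin.nontrivial_iff_two_le.2 (by omega)
  have hs : IsSimpleGroup (Matrix.ProjectiveSpecialLinearGroup (Fin n) k) :=
    Cfsg.Agent.LieClassical.SLGen.psl_isSimpleGroup (by simpa using hn)
  set! q := QuotientGroup.mk' (Subgroup.center (Matrix.SpecialLinearGroup (Fin n) k)) with hq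
  have hN : (ψ.ker.map q).Normal := Subgroup.Normal.map inferInstance _ (QuotientGroup.mk'_surjective _)
  rcases hN.eq_bot_or_eq_top with h | h
  · rwa [Subgroup.map_eq_bot_iff, QuotientGroup.ker_mk'] at h
  · exfalso
    obtain ⟨g, hg⟩ := hψ
    -- `SL = ker * center`, so `ψ` has abelian image
    have h1 : ψ.ker ⊔ Subgroup.center (Matrix.SpecialLinearGroup (Fin n) k) = ⊤ := by
      rw [← QuotientGroup.ker_mk' (Subgroup.center (Matrix.SpecialLinearGroup (Fin n) k)), ← hq, ← Subgroup.comap_map_eq,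
        h, Subgroup.comap_top]
    have hc : ∀ x y, ψ x * ψ y = ψ y * ψ x := by
      intro x y
      have hx : x ∈ ψ.ker ⊔ Subgroup.center (Matrix.SpecialLinearGroup (Fin n) k) := by rw [h1]; trivial
      obtain ⟨u, hu, z, hz, rfl⟩ := Subgroup.mem_sup_of_normal_right.1 hx
      have hu' : ψ u = 1 := hu
      rw [map_mul, hu', one_mul, ← map_mul, ← map_mul, Subgroup.mem_center_iff.1 hz y]
    apply hg
    have h2 : commutator (Matrix.SpecialLinearGroup (Fin n) k) ≤ ψ.ker := by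
      rw [commutator_def, Subgroup.commutator_le]
      intro x _ y _
      rw [MonoidHom.mem_ker, map_commutatorElement, commutatorElement_def, hc x y]
      group
    rw [perfect hn] at h2
    exact h2 (Subgroup.mem_top g)

/-- Two endomorphisms of `SL_n(k)` with the same image in `Y` are equal. -/
theorem eq_of_psi (hn : 3 ≤ n) {Y : Type*} [Group Y] {ψ : Matrix.SpecialLinearGroup (Fin n) k →* Y}
    (hψ : ∃ g, ψ g ≠ 1) {f g : Matrix.SpecialLinearGroup (Fin n) k →* Matrix.SpecialLinearGroup (Fin n) k}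
    (h : ∀ x, ψ (f x) = ψ (g x)) (x : Matrix.SpecialLinearGroup (Fin n) k) : f x = g x := by
  refine hom_eq_of_center (perfect hn) (fun x => ker_le_center hn hψ ?_) x
  rw [MonoidHom.mem_ker, map_mul, map_inv, h, mul_inv_cancel]

end Cent

section Main

variable {p : ℕ} [hp : Fact p.Prime] [NeZero p] {k : Type u} [Field k] [IsAlgClosed k] {r e : ℕ} [Fact r.Prime]
  [CharP k r] {Y : Type*} [Group Y]

/-- An element of `GL` whose conjugation commutes with `stm` is mapped to a multiple of itself. -/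
theorem stG_eq_sc {n : ℕ} [NeZero n] {D : GL (Fin n) k} {uni : Bool} {a : GL (Fin n) k}
    (h : ∀ g, stm r e D uni (cj a g) = cj a (stm r e D uni g)) : ∃ l, stG r e D uni a = sc n l * a := by
  set T := stG r e D uni with hT
  have h1 : ∀ g : Matrix.SpecialLinearGroup (Fin n) k, T a * T (toGL g) * (T a)⁻¹ = a * T (toGL g) * a⁻¹ := by
    intro g
    have h2 := congrArg toGL (h g)
    rw [toGL_stm, toGL_cj, toGL_cj, toGL_stm, map_mul, map_mul, map_inv] at h2
    exact h2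
  have h3 : D⁻¹ * (a⁻¹ * T a) * D ∈ scalars (Fin n) k := by
    refine scalar_of_comm fun i j hij t => ?_
    -- find a preimage of the transvection
    obtain ⟨g, hg⟩ : ∃ g : Matrix.SpecialLinearGroup (Fin n) k, T (toGL g) = D * toGL (transvection hij t) * D⁻¹ := by
      have hq : 0 < r ^ e := pow_pos (Fact.out : r.Prime).pos e
      cases uni with
      | false =>
        obtain ⟨s, hs⟩ := IsAlgClosed.exists_pow_nat_eq t hq
        exact ⟨transvection hij s, by rw [hT, stG_false, fr_transvection, hs]⟩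
      | true =>
        obtain ⟨s, hs⟩ := IsAlgClosed.exists_pow_nat_eq (-t) hq
        exact ⟨transvection hij.symm s, by rw [hT, stG_true, fr_transvection, hs, it_transvection, neg_neg]⟩
    have h4 := h1 g
    rw [hg] at h4
    have h5 : D⁻¹ * (a⁻¹ * T a) * D * toGL (transvection hij t) =
        D⁻¹ * a⁻¹ * (T a * (D * toGL (transvection hij t) * D⁻¹) * (T a)⁻¹) * T a * D := by group
    rw [h5, h4]
    group
  have h6 : a⁻¹ * T a ∈ scalars (Fin n) k := by
    have := conj_mem_scalars (x := D) h3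
    have e1 : D * (D⁻¹ * (a⁻¹ * T a) * D) * D⁻¹ = a⁻¹ * T a := by group
    rwa [e1] at this
  obtain ⟨l, hl⟩ := mem_scalars_iff_sc.1 h6
  refine ⟨l, ?_⟩
  rw [sc_comm, ← hl]
  group

theorem scalar_of_cj {n : ℕ} [NeZero n] {x : GL (Fin n) k} (h : ∀ g, cj x g = g) : x ∈ scalars (Fin n) k := by
  refine scalar_of_comm fun i j hij t => ?_
  have := congrArg toGL (h (transvection hij t))
  rw [toGL_cj, mul_inv_eq_iff_eq_mul] at this
  exact this

theorem mem_closure_pair {a b : GL (Fin p) k} {ζ : kˣ} (hab : a * b = sc p ζ * (b * a))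
    (hap : a ^ p ∈ scalars (Fin p) k) (hbp : b ^ p ∈ scalars (Fin p) k) {f : GL (Fin p) k}
    (hf : f ∈ Subgroup.closure {a, b}) : ∃ (i j : ℕ) (z : kˣ), f = sc p z * (a ^ i * b ^ j) := by
  have hp0 : 0 < p := hp.1.pos
  -- commutation rules
  have hba : b * a = sc p ζ⁻¹ * (a * b) := by
    rw [hab, ← mul_assoc, ← sc_mul, inv_mul_cancel, sc_one, one_mul]
  have hbai : ∀ i : ℕ, b * a ^ i = sc p (ζ⁻¹ ^ i) * (a ^ i * b) := by
    intro i
    induction i with
    | zero => rw [pow_zero, pow_zero, sc_one, mul_one, one_mul, one_mul]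
    | succ m ih =>
      calc b * a ^ (m + 1) = (b * a ^ m) * a := by rw [pow_succ]; group
        _ = sc p (ζ⁻¹ ^ m) * (a ^ m * (b * a)) := by rw [ih]; group
        _ = sc p (ζ⁻¹ ^ m) * ((a ^ m * sc p ζ⁻¹) * (a * b)) := by rw [hba]; group
        _ = sc p (ζ⁻¹ ^ m) * sc p ζ⁻¹ * (a ^ (m + 1) * b) := by rw [← sc_comm ζ⁻¹ (a ^ m), pow_succ]; group
        _ = _ := by rw [← sc_mul, ← pow_succ]
  have hinv : ∀ {x : GL (Fin p) k}, x ^ p ∈ scalars (Fin p) k → ∃ z, x⁻¹ = sc p z * x ^ (p - 1) := by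
    intro x hx
    obtain ⟨z, hz⟩ := mem_scalars_iff_sc.1 hx
    refine ⟨z⁻¹, ?_⟩
    have h1 : x ^ (p - 1) * x = sc p z := by rw [← pow_succ, Nat.sub_add_cancel hp0, hz]
    rw [inv_eq_iff_mul_eq_one, sc_inv, ← sc_inv, ← mul_assoc, ← sc_comm z⁻¹ x, mul_assoc, ← pow_succ', Nat.sub_add_cancel hp0,
      hz, ← sc_mul, inv_mul_cancel, sc_one]
  let S : Set (GL (Fin p) k) := {f | ∃ (i j : ℕ) (z : kˣ), f = sc p z * (a ^ i * b ^ j)}
  have ha : ∀ f ∈ S, a * f ∈ S := by
    rintro _ ⟨i, j, z, rfl⟩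
    refine ⟨i + 1, j, z, ?_⟩
    rw [← mul_assoc, ← sc_comm z a, pow_succ']
    group
  have hb : ∀ f ∈ S, b * f ∈ S := by
    rintro _ ⟨i, j, z, rfl⟩
    refine ⟨i, j + 1, z * ζ⁻¹ ^ i, ?_⟩
    calc b * (sc p z * (a ^ i * b ^ j)) = sc p z * ((b * a ^ i) * b ^ j) := by
          rw [← mul_assoc, ← sc_comm z b]; group
      _ = sc p z * (sc p (ζ⁻¹ ^ i) * (a ^ i * b) * b ^ j) := by rw [hbai]
      _ = sc p z * sc p (ζ⁻¹ ^ i) * (a ^ i * b ^ (j + 1)) := by rw [pow_succ' b]; group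
      _ = _ := by rw [← sc_mul]
  have hs : ∀ (w : kˣ), ∀ f ∈ S, sc p w * f ∈ S := by
    rintro w _ ⟨i, j, z, rfl⟩
    exact ⟨i, j, w * z, by rw [sc_mul, mul_assoc]⟩
  have hpow : ∀ {x : GL (Fin p) k}, (∀ f ∈ S, x * f ∈ S) → ∀ (m : ℕ), ∀ f ∈ S, x ^ m * f ∈ S := by
    intro x hx m
    induction m with
    | zero => intro f hf; rwa [pow_zero, one_mul]
    | succ m ih => intro f hf; rw [pow_succ', mul_assoc]; exact hx _ (ih f hf)
  have hxi : ∀ {x : GL (Fin p) k}, x ^ p ∈ scalars (Fin p) k → (∀ f ∈ S, x * f ∈ S) → ∀ f ∈ S, x⁻¹ * f ∈ S := by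
    intro x hxp hx f hf
    obtain ⟨z, hz⟩ := hinv hxp
    rw [hz, mul_assoc]
    exact hs z _ (hpow hx _ f hf)
  have key : ∀ f ∈ Subgroup.closure {a, b}, ∀ g ∈ S, f * g ∈ S := by
    intro f hf
    induction hf using Subgroup.closure_induction_left with
    | one => intro g hg; rwa [one_mul]
    | mul_left x hx y hy ih =>
      intro g hg
      rw [mul_assoc]
      rcases hx with rfl | rfl
      · exact ha _ (ih g hg)
      · exact hb _ (ih g hg)
    | inv_mul_cancel x hx y hy ih =>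
      intro g hg
      rw [mul_assoc]
      rcases hx with rfl | rfl
      · exact hxi hap ha _ (ih g hg)
      · exact hxi hbp hb _ (ih g hg)
  have h1 : (1 : GL (Fin p) k) ∈ S := ⟨0, 0, 1, by rw [sc_one]; simp⟩
  have := key f hf 1 h1
  rwa [mul_one] at this

/-- The centre of `SL_p(k)` has exponent `p`. -/
theorem center_pow {z : Matrix.SpecialLinearGroup (Fin p) k} (hz : z ∈ Subgroup.center _) : z ^ p = 1 := by
  obtain ⟨c, hc, hc'⟩ := Matrix.SpecialLinearGroup.mem_center_iff.1 hz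
  apply Subtype.ext
  rw [Fintype.card_fin] at hc
  rw [Matrix.SpecialLinearGroup.coe_pow, ← hc', ← map_pow, hc, map_one, Matrix.SpecialLinearGroup.coe_one]

theorem diag_comm_cycle {d d' : Fin p → kˣ}
    (h : mono (Equiv.refl (Fin p)) d * mono (Equiv.addRight (1 : Fin p)) d' =
      mono (Equiv.addRight (1 : Fin p)) d' * mono (Equiv.refl (Fin p)) d) (i : Fin p) : d i = d 0 := by
  have h1 : ∀ i : Fin p, d (i + 1) = d i := by
    intro i
    have h2 : ((mono (Equiv.refl (Fin p)) d * mono (Equiv.addRight (1 : Fin p)) d' : GL (Fin p) k) :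
        Matrix (Fin p) (Fin p) k) (i + 1) i = ((mono (Equiv.addRight (1 : Fin p)) d' * mono (Equiv.refl (Fin p)) d :
        GL (Fin p) k) : Matrix (Fin p) (Fin p) k) (i + 1) i := by rw [h]
    rw [Units.val_mul, Units.val_mul, Matrix.mul_apply, Matrix.mul_apply, Finset.sum_eq_single (i + 1),
      Finset.sum_eq_single i] at h2
    · simp only [mono_coe, Equiv.refl_apply, Equiv.coe_addRight, if_true] at h2
      rw [mul_comm] at h2
      exact Units.ext (mul_left_cancel₀ (d' i).ne_zero h2)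
    · intro b _ hb
      rw [mono_coe (Equiv.refl (Fin p)), if_neg (show ¬ b = Equiv.refl (Fin p) i from hb), mul_zero]
    · simp
    · intro b _ hb
      rw [mono_coe (Equiv.refl (Fin p)), if_neg (show ¬ i + 1 = Equiv.refl (Fin p) b from fun h => hb h.symm), zero_mul]
    · simp
  have h2 : ∀ (m : ℕ) (hm : m < p), d ⟨m, hm⟩ = d 0 := by
    intro m
    induction m with
    | zero => intro _; rfl
    | succ m ih =>
      intro hm
      have h3 : (⟨m + 1, hm⟩ : Fin p) = ⟨m, by omega⟩ + 1 := by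
        apply Fin.ext
        rw [Fin.val_add, Fin.val_one']
        rw [Nat.add_mod_mod, Nat.mod_eq_of_lt hm]
      rw [h3, h1, ih]
  exact h2 i i.2

end Main

end Cfsg.Agent.H321.Ker
end

private theorem dce_dbd5434fa039 : _root_.True := by
  try have : _root_.True := by simp only [_root_.Cfsg.Agent.H321.Ker.fr.congr_simp]
  try have : _root_.True := by simp only [_root_.Cfsg.Agent.H321.Ker.stm.congr_simp]
  try have : _root_.True := by simp only [_root_.Cfsg.Agent.H321.Ker.cj.congr_simp]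
  exact _root_.True.intro
end
end
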